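import Mathlib
import Groth.Agent.Lib.helper6.RegEtale

/-!
# Smooth algebras over regular rings are regular (helper20)
-/

universe u

namespace Groth.Agent.Lib.helper20.SmoothReg

lemma transport {R : Type u} [CommRing R] {P P' : Ideal R} [hP : P.IsPrime] [hP' : P'.IsPrime]
    (h : P = P') (hr : IsRegularLocalRing (Localization.AtPrime P)) :
    IsRegularLocalRing (Localization.AtPrime P') := by
  subst h; exact hr

/-- A smooth algebra over a regular (Noetherian) ring is a regular ring. -/
theorem isRegularRing_of_smooth (A B : Type u) [CommRing A] [CommRing B] [Algebra A B]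
    [Algebra.Smooth A B] [IsRegularRing A] : IsRegularRing B := by
  haveI : Algebra.FinitePresentation A B := Algebra.Smooth.finitePresentation
  haveI : IsNoetherianRing B := Algebra.FiniteType.isNoetherianRing A B
  rw [isRegularRing_iff]
  intro q hq
  haveI : Algebra.IsSmoothAt A q := inferInstance
  obtain ⟨f, hfq, n, alg, htow, het⟩ :=
    Algebra.IsSmoothAt.exists_isStandardEtale_mvPolynomial (R := A) (p := q)
  letI := alg
  haveI : Algebra.Etale (MvPolynomial (Fin n) A) (Localization.Away f) := inferInstance
  have hdisj : Disjoint (Submonoid.powers f : Set B) (q : Set B) :=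
    (Ideal.disjoint_powers_iff_notMem_of_isPrime _).mpr hfq
  haveI hq' : (q.map (algebraMap B (Localization.Away f))).IsPrime :=
    IsLocalization.isPrime_of_isPrime_disjoint (.powers f) _ _ hq hdisj
  have hreg : IsRegularLocalRing
      (Localization.AtPrime (q.map (algebraMap B (Localization.Away f)))) :=
    (Groth.Agent.Lib.helper6.RegEtale.regular_iff_of_etale (MvPolynomial (Fin n) A)
      (Localization.Away f) _).mp inferInstance
  have hcomap : (q.map (algebraMap B (Localization.Away f))).comap
      (algebraMap B (Localization.Away f)) = q :=
    IsLocalization.comap_map_of_isPrime_disjoint (.powers f) _ hq hdisj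
  have h2 : IsRegularLocalRing (Localization.AtPrime
      ((q.map (algebraMap B (Localization.Away f))).comap
        (algebraMap B (Localization.Away f)))) :=
    IsRegularLocalRing.of_ringEquiv
      (IsLocalization.localizationLocalizationAtPrimeIsoLocalization (Submonoid.powers f)
        (q.map (algebraMap B (Localization.Away f)))).symm.toRingEquiv
  exact transport hcomap h2

end Groth.Agent.Lib.helper20.SmoothReg
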