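import Mathlib
import Groth.Agent.Lib.helper5.RegLoc2

/-!
Regularity of `R/(f)` for `R` regular, via the criterion `f ∉ P² R_P` (helper20).
-/

set_option autoImplicit false

namespace Groth.Agent.Lib.helper20.RegQuot

open IsLocalRing

universe u

/-- a derivation maps `P^2` into `P`. -/
lemma derivation_sq_mem {R : Type u} [CommRing R] (D : Derivation ℤ R R) (P : Ideal R) {x : R}
    (hx : x ∈ P ^ 2) : D x ∈ P := by
  rw [pow_two] at hx
  refine Submodule.mul_induction_on hx ?_ ?_
  · intro a ha b hb
    rw [Derivation.leibniz, smul_eq_mul, smul_eq_mul]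
    exact P.add_mem (P.mul_mem_right _ ha) (P.mul_mem_right _ hb)
  · intro x y hx hy
    rw [map_add]; exact P.add_mem hx hy

/-- criterion: `R/(f)` is regular if `f` is not in the square of the maximal ideal of any `R_P`,
`f ∈ P`. -/
theorem isRegularRing_quotient_span_singleton {R : Type u} [CommRing R] [IsRegularRing R] (f : R)
    (h : ∀ (P : Ideal R) [P.IsPrime], f ∈ P → ∀ s : R, s ∉ P → s * f ∉ P ^ 2) :
    IsRegularRing (R ⧸ Ideal.span ({f} : Set R)) := by
  rw [isRegularRing_iff]
  intro q hq
  let g : R →+* R ⧸ Ideal.span ({f} : Set R) := Ideal.Quotient.mk _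
  have hg : Function.Surjective g := Ideal.Quotient.mk_surjective
  let P : Ideal R := q.comap g
  haveI hP : P.IsPrime := Ideal.comap_isPrime g q
  have hfP : f ∈ P := by
    show g f ∈ q
    have : g f = 0 := Ideal.Quotient.eq_zero_iff_mem.mpr (Ideal.mem_span_singleton_self f)
    rw [this]; exact q.zero_mem
  have hT : Submonoid.map g P.primeCompl = q.primeCompl := by
    ext x
    constructor
    · rintro ⟨r, hr, rfl⟩
      exact hr
    · intro hx
      obtain ⟨r, rfl⟩ := hg x
      exact ⟨r, hx, rfl⟩
  have hle : P.primeCompl ≤ Submonoid.comap g q.primeCompl := fun r hr => hr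
  let φ : Localization.AtPrime P →+* Localization.AtPrime q :=
    IsLocalization.map (Localization.AtPrime q) g hle
  have hφ : Function.Surjective φ := by
    intro y
    obtain ⟨a, s, rfl⟩ := IsLocalization.exists_mk'_eq q.primeCompl y
    obtain ⟨a', rfl⟩ := hg a
    obtain ⟨s', hs'⟩ := hg s.1
    have hs'P : s' ∈ P.primeCompl := by
      show g s' ∉ q
      rw [hs']; exact s.2
    refine ⟨IsLocalization.mk' _ a' ⟨s', hs'P⟩, ?_⟩
    show IsLocalization.map _ g hle _ = _
    rw [IsLocalization.map_mk']
    congr 1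
    exact Subtype.ext hs'
  have hk : RingHom.ker φ = Ideal.span {algebraMap R (Localization.AtPrime P) f} := by
    have := IsLocalization.ker_map (S := Localization.AtPrime P) (Localization.AtPrime q) g hT
    rw [show RingHom.ker φ = _ from this, Ideal.mk_ker, Ideal.map_span, Set.image_singleton]
  have hx2 : algebraMap R (Localization.AtPrime P) f ∉
      maximalIdeal (Localization.AtPrime P) ^ 2 := by
    rw [← Localization.AtPrime.map_eq_maximalIdeal, ← Ideal.map_pow,
      IsLocalization.mem_map_algebraMap_iff P.primeCompl]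
    rintro ⟨⟨a, s⟩, hEq⟩
    rw [← map_mul, IsLocalization.eq_iff_exists P.primeCompl] at hEq
    obtain ⟨c, hc⟩ := hEq
    refine h P hfP (c * s) (c * s).2 ?_
    have : ((c * s : P.primeCompl) : R) * f = c * a := by
      rw [Submonoid.coe_mul, mul_assoc, mul_comm (s : R) f]; exact hc
    show ((c * s : P.primeCompl) : R) * f ∈ P ^ 2
    rw [this]
    exact Ideal.mul_mem_left _ _ a.2
  exact (Groth.Agent.H5.RegLoc.regular_of_quotient φ hφ _ hk hx2).1

/-- `R` regular, `D` a derivation with `D f` a unit mod `f` ⇒ `R/(f)` regular. -/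
theorem isRegularRing_quotient_of_derivation {R : Type u} [CommRing R] [IsRegularRing R]
    (f : R) (D : Derivation ℤ R R)
    (hD : IsUnit (Ideal.Quotient.mk (Ideal.span {f}) (D f))) :
    IsRegularRing (R ⧸ Ideal.span ({f} : Set R)) := by
  apply isRegularRing_quotient_span_singleton
  intro P hP hfP s hs hsf
  have h1 := derivation_sq_mem D P hsf
  rw [Derivation.leibniz, smul_eq_mul, smul_eq_mul] at h1
  have h2 : s * D f ∈ P := by
    have := P.sub_mem h1 (P.mul_mem_right (D s) hfP)
    simpa using this
  have h3 : D f ∈ P := (hP.mem_or_mem h2).resolve_left hs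
  obtain ⟨u, hu⟩ := hD.exists_right_inv
  obtain ⟨u', rfl⟩ := Ideal.Quotient.mk_surjective u
  rw [← map_mul, ← map_one (Ideal.Quotient.mk (Ideal.span {f})), Ideal.Quotient.eq,
    Ideal.mem_span_singleton] at hu
  obtain ⟨c, hc⟩ := hu
  apply hP.ne_top
  rw [Ideal.eq_top_iff_one]
  have : (1 : R) = D f * u' - f * c := by rw [← hc]; ring
  rw [this]
  exact P.sub_mem (P.mul_mem_right _ h3) (P.mul_mem_right _ hfP)

end Groth.Agent.Lib.helper20.RegQuot
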