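import Mathlib
import Groth.Agent.Lib.helper20.RegQuot

/-!
Converse criterion: `A`, `A/(s)` regular ⇒ `s ∉ P² A_P`; and regularity of `A[t]/(t^e - s)` (helper20).
-/

set_option autoImplicit false

namespace Groth.Agent.Lib.helper20.RegQuot

open IsLocalRing

universe u

/-- localization of a quotient `R/(f)` at `q` as a quotient of `R_P`, `P = q ∩ R`. -/
lemma exists_locQuot_map {R : Type u} [CommRing R] (f : R) (q : Ideal (R ⧸ Ideal.span {f}))
    [q.IsPrime] :
    ∃ φ : Localization.AtPrime (q.comap (Ideal.Quotient.mk (Ideal.span {f}))) →+*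
        Localization.AtPrime q,
      Function.Surjective φ ∧ RingHom.ker φ = Ideal.span {algebraMap R _ f} := by
  let g : R →+* R ⧸ Ideal.span ({f} : Set R) := Ideal.Quotient.mk _
  have hg : Function.Surjective g := Ideal.Quotient.mk_surjective
  let P : Ideal R := q.comap g
  have hT : Submonoid.map g P.primeCompl = q.primeCompl := by
    ext x
    constructor
    · rintro ⟨r, hr, rfl⟩
      exact hr
    · intro hx
      obtain ⟨r, rfl⟩ := hg x
      exact ⟨r, hx, rfl⟩
  have hle : P.primeCompl ≤ Submonoid.comap g q.primeCompl := fun r hr => hr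
  let φ : Localization.AtPrime P →+* Localization.AtPrime q :=
    IsLocalization.map (Localization.AtPrime q) g hle
  have hφ : Function.Surjective φ := by
    intro y
    obtain ⟨a, s, rfl⟩ := IsLocalization.exists_mk'_eq q.primeCompl y
    obtain ⟨a', rfl⟩ := hg a
    obtain ⟨s', hs'⟩ := hg s.1
    have hs'P : s' ∈ P.primeCompl := by
      show g s' ∉ q
      rw [hs']; exact s.2
    refine ⟨IsLocalization.mk' _ a' ⟨s', hs'P⟩, ?_⟩
    show IsLocalization.map _ g hle _ = _
    rw [IsLocalization.map_mk']
    congr 1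
    exact Subtype.ext hs'
  have hk : RingHom.ker φ = Ideal.span {algebraMap R (Localization.AtPrime P) f} := by
    have := IsLocalization.ker_map (S := Localization.AtPrime P) (Localization.AtPrime q) g hT
    rw [show RingHom.ker φ = _ from this, Ideal.mk_ker, Ideal.map_span, Set.image_singleton]
  exact ⟨φ, hφ, hk⟩

theorem not_mem_sq_core {A : Type u} [CommRing A] [IsDomain A] (P : Ideal A) [P.IsPrime]
    [IsRegularLocalRing (Localization.AtPrime P)] (S : Type u) [CommRing S]
    [IsRegularLocalRing S] (φ : Localization.AtPrime P →+* S) (hφ : Function.Surjective φ)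
    (s : A) (hs : s ≠ 0)
    (hk : RingHom.ker φ = Ideal.span {algebraMap A (Localization.AtPrime P) s})
    (s' : A) (hs' : s' ∉ P) : s' * s ∉ P ^ 2 := by
  intro hmem
  have h1 : algebraMap A (Localization.AtPrime P) s ∈
      maximalIdeal (Localization.AtPrime P) ^ 2 := by
    have h2 : algebraMap A (Localization.AtPrime P) (s' * s) ∈
        maximalIdeal (Localization.AtPrime P) ^ 2 := by
      rw [← Localization.AtPrime.map_eq_maximalIdeal, ← Ideal.map_pow]
      exact Ideal.mem_map_of_mem _ hmem
    rw [map_mul] at h2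
    have hu : IsUnit (algebraMap A (Localization.AtPrime P) s') :=
      IsLocalization.map_units _ (⟨s', hs'⟩ : P.primeCompl)
    exact (Ideal.unit_mul_mem_iff_mem _ hu).mp h2
  have h3 : RingHom.ker φ ≤ maximalIdeal (Localization.AtPrime P) ^ 2 := by
    rw [hk, Ideal.span_singleton_le_iff_mem]; exact h1
  have h4 : (maximalIdeal (Localization.AtPrime P)).spanFinrank ≤
      (maximalIdeal S).spanFinrank :=
    Groth.Agent.H5.RegLoc.spanFinrank_le_of_ker_le_sq φ hφ h3
  have h5 : ((maximalIdeal (Localization.AtPrime P)).spanFinrank : WithBot ℕ∞) =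
      ringKrullDim (Localization.AtPrime P) :=
    IsRegularLocalRing.spanFinrank_maximalIdeal
  have h6 : ((maximalIdeal S).spanFinrank : WithBot ℕ∞) = ringKrullDim S :=
    IsRegularLocalRing.spanFinrank_maximalIdeal
  have hnz : algebraMap A (Localization.AtPrime P) s ∈
      nonZeroDivisors (Localization.AtPrime P) := by
    apply mem_nonZeroDivisors_of_ne_zero
    intro h0
    apply hs
    exact (IsLocalization.injective (Localization.AtPrime P)
      P.primeCompl_le_nonZeroDivisors) (by rw [h0, map_zero])
  have h7 := ringKrullDim_quotient_succ_le_of_nonZeroDivisor hnz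
  have e : (Localization.AtPrime P ⧸ Ideal.span {algebraMap A (Localization.AtPrime P) s}) ≃+*
      S :=
    (Ideal.quotEquivOfEq hk.symm).trans (RingHom.quotientKerEquivOfSurjective hφ)
  rw [ringKrullDim_eq_of_ringEquiv e] at h7
  obtain ⟨n, hn⟩ := Groth.Agent.H5.RegLoc.exists_nat_dim (Localization.AtPrime P)
  obtain ⟨k, hk'⟩ := Groth.Agent.H5.RegLoc.exists_nat_dim S
  rw [hn] at h5 h7; rw [hk'] at h6 h7
  have h5' : (maximalIdeal (Localization.AtPrime P)).spanFinrank = n := by exact_mod_cast h5
  have h6' : (maximalIdeal S).spanFinrank = k := by exact_mod_cast h6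
  have h7' : k + 1 ≤ n := by exact_mod_cast h7
  rw [h5', h6'] at h4
  omega

theorem not_mem_sq_of_regular_quotient' {A : Type u} [CommRing A] [IsDomain A] [IsRegularRing A]
    (s : A) (hs : s ≠ 0) [hreg : IsRegularRing (A ⧸ Ideal.span {s})]
    (q : Ideal (A ⧸ Ideal.span {s})) [q.IsPrime]
    (s' : A) (hs' : s' ∉ q.comap (Ideal.Quotient.mk (Ideal.span {s}))) :
    s' * s ∉ (q.comap (Ideal.Quotient.mk (Ideal.span {s}))) ^ 2 := by
  obtain ⟨φ, hφ, hk⟩ := exists_locQuot_map s q
  exact not_mem_sq_core _ _ φ hφ s hs hk s' hs'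

/-- `A` a regular domain, `s ≠ 0`, `A/(s)` regular, `P ∋ s` prime, `s' ∉ P` ⇒ `s' s ∉ P²`. -/
theorem not_mem_sq_of_regular_quotient {A : Type u} [CommRing A] [IsDomain A] [IsRegularRing A]
    (s : A) (hs : s ≠ 0) (hreg : IsRegularRing (A ⧸ Ideal.span {s})) (P : Ideal A)
    [hP : P.IsPrime] (hsP : s ∈ P) (s' : A) (hs' : s' ∉ P) : s' * s ∉ P ^ 2 := by
  have hle : Ideal.span {s} ≤ P := by
    rw [Ideal.span_singleton_le_iff_mem]; exact hsP
  have hker : RingHom.ker (Ideal.Quotient.mk (Ideal.span {s})) ≤ P := by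
    rw [Ideal.mk_ker]; exact hle
  haveI : (P.map (Ideal.Quotient.mk (Ideal.span {s}))).IsPrime :=
    Ideal.map_isPrime_of_surjective Ideal.Quotient.mk_surjective hker
  have hc : (P.map (Ideal.Quotient.mk (Ideal.span {s}))).comap
      (Ideal.Quotient.mk (Ideal.span {s})) = P := Ideal.comap_map_mk hle
  have := not_mem_sq_of_regular_quotient' s hs (P.map (Ideal.Quotient.mk (Ideal.span {s}))) s'
    (by rw [hc]; exact hs')
  rwa [hc] at this

/-- `A` regular domain, `s ≠ 0`, `A/(s)` regular, `e > 0` invertible in `A` ⇒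
`A[t]/(t^e - s)` regular. -/
theorem isRegularRing_quotient_X_pow_sub_C {A : Type u} [CommRing A] [IsDomain A]
    [IsRegularRing A] (s : A) (hs : s ≠ 0) (hreg : IsRegularRing (A ⧸ Ideal.span {s}))
    (e : ℕ) (he : 0 < e) (heu : IsUnit (e : A)) :
    IsRegularRing (Polynomial A ⧸
      Ideal.span ({Polynomial.X ^ e - Polynomial.C s} : Set (Polynomial A))) := by
  apply isRegularRing_quotient_span_singleton
  intro Q hQ hFQ s' hs' hmem
  by_cases hX : (Polynomial.X : Polynomial A) ∈ Q
  · -- constant coefficient argument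
    let P : Ideal A := Q.comap Polynomial.C
    haveI hPp : P.IsPrime := Ideal.comap_isPrime _ _
    have hev : ∀ a ∈ Q, Polynomial.constantCoeff a ∈ P := by
      intro a ha
      show Polynomial.C (Polynomial.constantCoeff a) ∈ Q
      have h1 : Polynomial.C (a.coeff 0) = a - Polynomial.X * a.divX := by
        rw [eq_sub_iff_add_eq, add_comm]; exact Polynomial.X_mul_divX_add a
      rw [Polynomial.constantCoeff_apply, h1]
      exact Q.sub_mem ha (Q.mul_mem_right _ hX)
    have hmap : (Q ^ 2).map Polynomial.constantCoeff ≤ P ^ 2 := by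
      rw [Ideal.map_pow]
      apply Ideal.pow_right_mono
      rw [Ideal.map_le_iff_le_comap]
      exact hev
    have h2 : Polynomial.constantCoeff (s' * (Polynomial.X ^ e - Polynomial.C s)) ∈ P ^ 2 :=
      hmap (Ideal.mem_map_of_mem _ hmem)
    have h3 : Polynomial.constantCoeff (s' * (Polynomial.X ^ e - Polynomial.C s)) =
        - (s'.coeff 0 * s) := by
      rw [map_mul, map_sub, map_pow]
      simp [Polynomial.constantCoeff_apply, he.ne']
    rw [h3, neg_mem_iff] at h2
    have hsP : s ∈ P := by
      show Polynomial.C s ∈ Q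
      have : Polynomial.C s = Polynomial.X ^ e - (Polynomial.X ^ e - Polynomial.C s) := by ring
      rw [this]
      exact Q.sub_mem (Q.pow_mem_of_mem hX e he) hFQ
    have hs0 : s'.coeff 0 ∉ P := by
      intro h0
      apply hs'
      rw [← Polynomial.X_mul_divX_add s']
      exact Q.add_mem (Q.mul_mem_right _ hX) h0
    exact not_mem_sq_of_regular_quotient s hs hreg P hsP _ hs0 h2
  · -- derivative argument
    let D : Derivation ℤ (Polynomial A) (Polynomial A) :=
      (Polynomial.derivative' (R := A)).restrictScalars ℤ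
    have hD : ∀ p : Polynomial A, D p = Polynomial.derivative p := fun p => rfl
    have h1 : Polynomial.derivative (s' * (Polynomial.X ^ e - Polynomial.C s)) ∈ Q :=
      derivation_sq_mem D Q hmem
    rw [Polynomial.derivative_mul] at h1
    have h2 : s' * Polynomial.derivative (Polynomial.X ^ e - Polynomial.C s) ∈ Q := by
      have := Q.sub_mem h1 (Q.mul_mem_left (Polynomial.derivative s') hFQ)
      simpa using this
    have h3 : Polynomial.derivative (Polynomial.X ^ e - Polynomial.C s) ∈ Q :=
      (hQ.mem_or_mem h2).resolve_left hs'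
    rw [Polynomial.derivative_sub, Polynomial.derivative_C, sub_zero,
      Polynomial.derivative_X_pow] at h3
    have hu : IsUnit (Polynomial.C (e : A)) := heu.map Polynomial.C
    have h4 : (Polynomial.X : Polynomial A) ^ (e - 1) ∈ Q :=
      (Ideal.unit_mul_mem_iff_mem _ hu).mp h3
    exact hX (hQ.mem_of_pow_mem _ h4)

end Groth.Agent.Lib.helper20.RegQuot
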