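import Mathlib
import Groth.Agent.Lib.helper20.RegQuot3
import Groth.Agent.Lib.helper6.SerreConvE
import Groth.Agent.S0560

/-!
Regularity can be checked at maximal ideals (uses helper6's Serre theorem); power series over a
regular ring are regular (helper20).
-/

set_option autoImplicit false

namespace Groth.Agent.Lib.helper20.RegQuot

open IsLocalRing

universe u

/-- regularity of a Noetherian ring can be checked at maximal ideals. -/
theorem isRegularRing_of_maximal {R : Type u} [CommRing R] [IsNoetherianRing R]
    (h : ∀ (m : Ideal R) [m.IsMaximal], IsRegularLocalRing (Localization.AtPrime m)) :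
    IsRegularRing R := by
  rw [isRegularRing_iff]
  intro p hp
  obtain ⟨m, hm, hpm⟩ := Ideal.exists_le_maximal p hp.ne_top
  haveI := hm
  haveI := h m
  let S := Localization.AtPrime m
  let pS := p.map (algebraMap R S)
  have disj : Disjoint (m.primeCompl : Set R) (p : Set R) := by
    rw [Set.disjoint_left]; intro x hx hxp; exact hx (hpm hxp)
  haveI hpS : pS.IsPrime := IsLocalization.isPrime_of_isPrime_disjoint m.primeCompl _ _ hp disj
  haveI : IsLocalization.AtPrime (Localization.AtPrime pS) p := by
    convert IsLocalization.isLocalization_isLocalization_atPrime_isLocalization m.primeCompl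
      (Localization.AtPrime pS) pS
    exact (IsLocalization.under_map_of_isPrime_disjoint m.primeCompl _ hp disj).symm
  haveI := Groth.Agent.Lib.helper6.SerreConvE.regular_localization S pS
  exact IsRegularLocalRing.of_ringEquiv (IsLocalization.algEquiv p.primeCompl
    (Localization.AtPrime pS) (Localization.AtPrime p)).toRingEquiv

lemma transport_loc {R : Type u} [CommRing R] {P P' : Ideal R} [hP : P.IsPrime]
    [hP' : P'.IsPrime] (h : P' = P) {S : Type u} [CommRing S] (f : R)
    (φ : Localization.AtPrime P' →+* S) (hφ : Function.Surjective φ)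
    (hk : RingHom.ker φ = Ideal.span {algebraMap R (Localization.AtPrime P') f}) :
    ∃ ψ : Localization.AtPrime P →+* S, Function.Surjective ψ ∧
      RingHom.ker ψ = Ideal.span {algebraMap R (Localization.AtPrime P) f} := by
  subst h
  exact ⟨φ, hφ, hk⟩

/-- version of `exists_locQuot_map` starting from a prime `P ∋ f` of `R`. -/
lemma exists_locQuot_map' {R : Type u} [CommRing R] (f : R) (P : Ideal R) [hP : P.IsPrime]
    (hf : f ∈ P) :
    ∃ (q : Ideal (R ⧸ Ideal.span {f})) (_ : q.IsPrime)
      (φ : Localization.AtPrime P →+* Localization.AtPrime q),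
      Function.Surjective φ ∧ RingHom.ker φ = Ideal.span {algebraMap R _ f} := by
  have hle : Ideal.span {f} ≤ P := by
    rw [Ideal.span_singleton_le_iff_mem]; exact hf
  have hker : RingHom.ker (Ideal.Quotient.mk (Ideal.span {f})) ≤ P := by
    rw [Ideal.mk_ker]; exact hle
  haveI hq : (P.map (Ideal.Quotient.mk (Ideal.span {f}))).IsPrime :=
    Ideal.map_isPrime_of_surjective Ideal.Quotient.mk_surjective hker
  have hc : (P.map (Ideal.Quotient.mk (Ideal.span {f}))).comap
      (Ideal.Quotient.mk (Ideal.span {f})) = P := Ideal.comap_map_mk hle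
  obtain ⟨φ, hφ, hk⟩ := exists_locQuot_map f (P.map (Ideal.Quotient.mk (Ideal.span {f})))
  obtain ⟨ψ, hψ, hk'⟩ := transport_loc hc f φ hφ hk
  exact ⟨_, hq, ψ, hψ, hk'⟩

/-- `A` regular ⇒ `A⟦X⟧` regular. -/
theorem isRegularRing_powerSeries {A : Type u} [CommRing A] [IsRegularRing A] :
    IsRegularRing (PowerSeries A) := by
  apply isRegularRing_of_maximal
  intro M hM
  have hX : (PowerSeries.X : PowerSeries A) ∈ M := by
    by_contra hX
    obtain ⟨y, i, hi, hyi⟩ := hM.exists_inv hX
    have hu : IsUnit i := by
      rw [PowerSeries.isUnit_iff_constantCoeff]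
      have h1 : PowerSeries.constantCoeff i = 1 := by
        have := congrArg PowerSeries.constantCoeff hyi
        simpa using this
      rw [h1]; exact isUnit_one
    exact hM.ne_top (Ideal.eq_top_of_isUnit_mem _ hi hu)
  obtain ⟨q, hq, φ, hφ, hk⟩ := exists_locQuot_map' PowerSeries.X M hX
  haveI := hq
  have hker : RingHom.ker (PowerSeries.constantCoeff (R := A)) =
      Ideal.span {PowerSeries.X} := by
    ext p; rw [RingHom.mem_ker, Ideal.mem_span_singleton, PowerSeries.X_dvd_iff]
  have hsurj : Function.Surjective (PowerSeries.constantCoeff (R := A)) :=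
    fun a => ⟨PowerSeries.C a, by simp⟩
  let e : (PowerSeries A ⧸ Ideal.span {(PowerSeries.X : PowerSeries A)}) ≃+* A :=
    (Ideal.quotEquivOfEq hker.symm).trans (RingHom.quotientKerEquivOfSurjective hsurj)
  haveI : IsRegularRing (PowerSeries A ⧸ Ideal.span {(PowerSeries.X : PowerSeries A)}) :=
    IsRegularRing.of_ringEquiv e.symm
  haveI : IsRegularLocalRing (Localization.AtPrime q) := inferInstance
  let e2 : (Localization.AtPrime M ⧸
      Ideal.span {algebraMap (PowerSeries A) (Localization.AtPrime M) PowerSeries.X}) ≃+*
      Localization.AtPrime q :=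
    (Ideal.quotEquivOfEq hk.symm).trans (RingHom.quotientKerEquivOfSurjective hφ)
  haveI : IsRegularLocalRing (Localization.AtPrime M ⧸
      Ideal.span {algebraMap (PowerSeries A) (Localization.AtPrime M) PowerSeries.X}) :=
    IsRegularLocalRing.of_ringEquiv e2.symm
  have hXnzd : (PowerSeries.X : PowerSeries A) ∈ nonZeroDivisors (PowerSeries A) := by
    rw [mem_nonZeroDivisors_iff_right]
    intro y hy
    apply PowerSeries.X_mul_cancel
    rw [mul_zero, mul_comm]; exact hy
  apply Groth.Agent.S0560.result (Localization.AtPrime M)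
    (algebraMap (PowerSeries A) (Localization.AtPrime M) PowerSeries.X)
  · rw [← Localization.AtPrime.map_eq_maximalIdeal]; exact Ideal.mem_map_of_mem _ hX
  · apply IsLocalization.map_nonZeroDivisors_le M.primeCompl (Localization.AtPrime M)
    exact Submonoid.mem_map_of_mem _ hXnzd

/-- `A` regular ⇒ `A[[T_1, …, T_n]]` regular. -/
theorem isRegularRing_mvPowerSeries {A : Type u} [CommRing A] [IsRegularRing A] (n : ℕ) :
    IsRegularRing (MvPowerSeries (Fin n) A) := by
  induction n with
  | zero =>
    exact IsRegularRing.of_ringEquiv (MvPowerSeries.isEmptyEquiv (Fin 0) A).toRingEquiv.symm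
  | succ n ih =>
    haveI := ih
    haveI : IsRegularRing (PowerSeries (MvPowerSeries (Fin n) A)) := isRegularRing_powerSeries
    exact IsRegularRing.of_ringEquiv (MvPowerSeries.finSuccEquiv A n).toRingEquiv.symm

end Groth.Agent.Lib.helper20.RegQuot
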