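import Mathlib

/-!
Localizations of regular rings are regular; surjectivity of localized maps (helper20).
-/

set_option autoImplicit false

namespace Groth.Agent.Lib.helper20.RegQuot

universe u

/-- any localization of a regular ring is regular. -/
theorem isRegularRing_localization {R : Type u} [CommRing R] [IsRegularRing R] (T : Submonoid R) :
    IsRegularRing (Localization T) := by
  haveI : IsNoetherianRing (Localization T) := IsLocalization.isNoetherianRing T _ inferInstance
  rw [isRegularRing_iff]
  intro p hp
  exact IsRegularLocalRing.of_ringEquiv
    (IsLocalization.localizationLocalizationAtPrimeIsoLocalization T p).toRingEquiv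

/-- a surjective ring map induces a surjection on localizations at `S.comap g` and `S`. -/
theorem exists_surjective_localization_comap {R C : Type u} [CommRing R] [CommRing C]
    (g : R →+* C) (hg : Function.Surjective g) (S : Submonoid C) :
    ∃ φ : Localization (S.comap g) →+* Localization S, Function.Surjective φ := by
  have hle : S.comap g ≤ Submonoid.comap g S := le_rfl
  refine ⟨IsLocalization.map (Localization S) g hle, ?_⟩
  intro y
  obtain ⟨a, s, rfl⟩ := IsLocalization.exists_mk'_eq S y
  obtain ⟨a', rfl⟩ := hg a
  obtain ⟨s', hs'⟩ := hg s.1
  have hs'T : s' ∈ S.comap g := by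
    show g s' ∈ S
    rw [hs']; exact s.2
  refine ⟨IsLocalization.mk' _ a' ⟨s', hs'T⟩, ?_⟩
  rw [IsLocalization.map_mk']
  congr 1
  exact Subtype.ext hs'

end Groth.Agent.Lib.helper20.RegQuot
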