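import Mathlib

/-!
# Fibres of a localized ring map

For `A → B`, a multiplicative set `S ⊆ A`, `A' = S⁻¹A`, `B' = S⁻¹B`, and a prime `p'` of `A'` lying
over `p` of `A`, the (geometric) fibres of `A' → B'` at `p'` coincide with those of `A → B` at `p`.
-/

universe u
open TensorProduct

namespace Groth.Agent.Lib.helper20.FiberLoc

section
variable (A B A' B' : Type u) [CommRing A] [CommRing B] [CommRing A'] [CommRing B']
  [Algebra A B] [Algebra A A'] [Algebra B B'] [Algebra A' B'] [Algebra A B']
  [IsScalarTower A A' B'] [IsScalarTower A B B'] (S : Submonoid A) [IsLocalization S A']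
  [IsLocalization (Algebra.algebraMapSubmonoid B S) B']

include S in
theorem flat_of_isLocalization [Module.Flat A B] : Module.Flat A' B' := by
  haveI : Module.Flat B B' := IsLocalization.flat B' (Algebra.algebraMapSubmonoid B S)
  haveI : Module.Flat A B' := Module.Flat.trans A B B'
  exact (Module.flat_iff_of_isLocalization A' S (M := B')).mpr inferInstance

include S in
/-- The geometric fibre of `A' → B'` over `p'` is the geometric fibre of `A → B` over `p' ∩ A`. -/
theorem exists_fiber_equiv (p' : Ideal A') [p'.IsPrime] (k' : Type u) [CommRing k']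
    [Algebra p'.ResidueField k'] :
    ∃ (alg : Algebra (p'.comap (algebraMap A A')).ResidueField k'), letI := alg
      (Module.Finite p'.ResidueField k' →
        Module.Finite (p'.comap (algebraMap A A')).ResidueField k') ∧
      (Algebra.IsAlgebraic p'.ResidueField k' →
        Algebra.IsAlgebraic (p'.comap (algebraMap A A')).ResidueField k') ∧
      Nonempty (k' ⊗[p'.ResidueField] (p'.Fiber B') ≃+*
        k' ⊗[(p'.comap (algebraMap A A')).ResidueField] ((p'.comap (algebraMap A A')).Fiber B)) := by
  let φ : (p'.comap (algebraMap A A')).ResidueField →+* p'.ResidueField :=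
    Ideal.ResidueField.map (p'.comap (algebraMap A A')) p' (algebraMap A A') rfl
  have hφ : Function.Bijective φ :=
    (RingHom.surjectiveOnStalks_of_isLocalization S A').residueFieldMap_bijective
      (p'.comap (algebraMap A A')) p' rfl
  letI alg : Algebra (p'.comap (algebraMap A A')).ResidueField k' :=
    ((algebraMap p'.ResidueField k').comp φ).toAlgebra
  letI algφ : Algebra (p'.comap (algebraMap A A')).ResidueField p'.ResidueField := φ.toAlgebra
  haveI : IsScalarTower (p'.comap (algebraMap A A')).ResidueField p'.ResidueField k' :=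
    IsScalarTower.of_algebraMap_eq (fun _ => rfl)
  haveI hfin0 : Module.Finite (p'.comap (algebraMap A A')).ResidueField p'.ResidueField :=
    Module.Finite.of_surjective (Algebra.linearMap _ _) hφ.2
  refine ⟨alg, ?_, ?_, ?_⟩
  · intro hfin
    exact Module.Finite.trans p'.ResidueField k'
  · intro halg
    exact Algebra.IsAlgebraic.trans (p'.comap (algebraMap A A')).ResidueField p'.ResidueField k'
  · letI : Algebra A' k' :=
      ((algebraMap p'.ResidueField k').comp (algebraMap A' p'.ResidueField)).toAlgebra
    haveI : IsScalarTower A' p'.ResidueField k' := IsScalarTower.of_algebraMap_eq (fun _ => rfl)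
    letI : Algebra A k' := ((algebraMap A' k').comp (algebraMap A A')).toAlgebra
    haveI : IsScalarTower A A' k' := IsScalarTower.of_algebraMap_eq (fun _ => rfl)
    haveI : IsScalarTower A (p'.comap (algebraMap A A')).ResidueField k' :=
      IsScalarTower.of_algebraMap_eq (fun a => by
        show algebraMap p'.ResidueField k' (algebraMap A' p'.ResidueField (algebraMap A A' a)) =
          algebraMap p'.ResidueField k'
            (φ (algebraMap A (p'.comap (algebraMap A A')).ResidueField a))
        rw [Ideal.ResidueField.map_algebraMap])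
    haveI hpo : Algebra.IsPushout A A' B B' :=
      (Algebra.isPushout_of_isLocalization S A' B B').symm
    let e0 : A' ⊗[A] B ≃ₐ[A'] B' := Algebra.IsPushout.equiv A A' B B'
    let e1 : k' ⊗[p'.ResidueField] (p'.Fiber B') ≃ₐ[p'.ResidueField] k' ⊗[A'] B' :=
      Algebra.TensorProduct.cancelBaseChange A' p'.ResidueField p'.ResidueField k' B'
    let e2 : k' ⊗[A'] B' ≃ₐ[A'] k' ⊗[A'] (A' ⊗[A] B) :=
      Algebra.TensorProduct.congr AlgEquiv.refl e0.symm
    let e3 : k' ⊗[A'] (A' ⊗[A] B) ≃ₐ[A'] k' ⊗[A] B :=
      Algebra.TensorProduct.cancelBaseChange A A' A' k' B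
    let e4 : k' ⊗[(p'.comap (algebraMap A A')).ResidueField]
          ((p'.comap (algebraMap A A')).Fiber B) ≃ₐ[(p'.comap (algebraMap A A')).ResidueField]
        k' ⊗[A] B :=
      Algebra.TensorProduct.cancelBaseChange A (p'.comap (algebraMap A A')).ResidueField
        (p'.comap (algebraMap A A')).ResidueField k' B
    exact ⟨e1.toRingEquiv.trans (e2.toRingEquiv.trans (e3.toRingEquiv.trans e4.toRingEquiv.symm))⟩

end

/-- The fibre ring `κ(p) ⊗ S` of a ring map to a Noetherian ring is Noetherian. -/
theorem fiber_isNoetherianRing (R S : Type u) [CommRing R] [CommRing S] [Algebra R S]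
    [IsNoetherianRing S] (p : Ideal R) [p.IsPrime] : IsNoetherianRing (p.Fiber S) := by
  letI : Algebra S (p.Fiber S) := Algebra.TensorProduct.rightAlgebra
  haveI : IsNoetherianRing (Localization (Algebra.algebraMapSubmonoid S p.primeCompl)) :=
    IsLocalization.isNoetherianRing (Algebra.algebraMapSubmonoid S p.primeCompl) _ inferInstance
  exact isNoetherianRing_of_ringEquiv _ (Ideal.Fiber.algEquivQuotient p (S := S)).symm.toRingEquiv

/-- Normality (all local rings integrally closed domains) transfers along ring isomorphisms. -/
theorem normal_of_ringEquiv {R R' : Type u} [CommRing R] [CommRing R'] (e : R ≃+* R')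
    (h : ∀ (p : Ideal R) [p.IsPrime],
      IsDomain (Localization.AtPrime p) ∧ IsIntegrallyClosed (Localization.AtPrime p)) :
    ∀ (p : Ideal R') [p.IsPrime],
      IsDomain (Localization.AtPrime p) ∧ IsIntegrallyClosed (Localization.AtPrime p) := by
  intro p hp
  let e' : Localization.AtPrime (p.comap e) ≃+* Localization.AtPrime p :=
    IsLocalization.ringEquivOfRingEquiv (Localization.AtPrime (p.comap e))
      (Localization.AtPrime p) e (e.map_primeCompl_comap_eq p)
  obtain ⟨h1, h2⟩ := h (p.comap e)
  haveI : IsDomain (Localization.AtPrime p) :=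
    e'.symm.toMulEquiv.isDomain (Localization.AtPrime (p.comap e))
  haveI := h2
  exact ⟨inferInstance, IsIntegrallyClosed.of_equiv e'⟩

end Groth.Agent.Lib.helper20.FiberLoc
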