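import Mathlib
import Groth.Agent.Lib.helper6.RegIdeal

/-!
# Ascent of regularity along flat local maps with regular closed fibre (helper20)
-/

universe u
open IsLocalRing

namespace Groth.Agent.Lib.helper20.RegAscent

lemma transport {R : Type u} [CommRing R] {P P' : Ideal R} [P.IsPrime] [P'.IsPrime]
    (h : P = P') (hr : IsRegularLocalRing (Localization.AtPrime P)) :
    IsRegularLocalRing (Localization.AtPrime P') := by
  subst h; exact hr

/-- `R` regular local, `R → S` flat local with `S` Noetherian local and `S/𝔪_R S` regular: then `S`
is regular. -/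
theorem regular_of_flat_of_regular_fiber (R S : Type u) [CommRing R] [CommRing S]
    [IsRegularLocalRing R] [IsLocalRing S] [IsNoetherianRing S] [Algebra R S]
    [IsLocalHom (algebraMap R S)] [Module.Flat R S]
    (h : IsRegularLocalRing (S ⧸ (maximalIdeal R).map (algebraMap R S))) :
    IsRegularLocalRing S := by
  letI : Field (R ⧸ maximalIdeal R) := Ideal.Quotient.field _
  haveI : IsRegularLocalRing (R ⧸ maximalIdeal R) := inferInstance
  obtain ⟨rs, hrs, hJ⟩ :=
    Groth.Agent.Lib.helper6.RegIdeal.exists_regularSeq_of_regular_quotient R (maximalIdeal R)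
  haveI : Module.FaithfullyFlat R S := Module.FaithfullyFlat.of_flat_of_isLocalHom
  have hreg : RingTheory.Sequence.IsRegular S (rs.map (algebraMap R S)) := hrs.of_faithfullyFlat
  have hI : Ideal.ofList (rs.map (algebraMap R S)) = (maximalIdeal R).map (algebraMap R S) := by
    rw [← hJ, Ideal.map_ofList]
  haveI := h
  have h' : IsRegularLocalRing (S ⧸ Ideal.ofList (rs.map (algebraMap R S))) :=
    IsRegularLocalRing.of_ringEquiv (Ideal.quotEquivOfEq hI.symm)
  exact Groth.Agent.Lib.helper6.RegIdeal.regular_of_quotient_regularSeq _ S _ rfl hreg h'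

/-- A regular ring map from a regular ring to a Noetherian ring has regular target; fibrewise form:
if `R` is regular, `R → S` flat, `S` Noetherian and all fibre rings `κ(p) ⊗ S` are regular rings, then
`S` is regular. -/
theorem isRegularRing_of_flat_of_regular_fibers (R S : Type u) [CommRing R] [CommRing S]
    [Algebra R S] [IsRegularRing R] [IsNoetherianRing S] [Module.Flat R S]
    (hfib : ∀ (p : Ideal R) [p.IsPrime], IsRegularRing (p.Fiber S)) : IsRegularRing S := by
  have claim : ∀ (p : Ideal R) [p.IsPrime] (Q : Ideal (p.Fiber S)) [Q.IsPrime],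
      IsRegularLocalRing (Localization.AtPrime (Q.comap Algebra.TensorProduct.includeRight)) := by
    intro p _ Q _
    haveI := hfib p
    letI := Localization.AtPrime.algebraOfLiesOver p (Q.comap Algebra.TensorProduct.includeRight)
    let e := Ideal.Fiber.localizationAlgEquivQuotient p Q
    haveI hquot : IsRegularLocalRing
        (Localization.AtPrime (Q.comap Algebra.TensorProduct.includeRight) ⧸
          p.map (algebraMap R (Localization.AtPrime (Q.comap Algebra.TensorProduct.includeRight)))) :=
      IsRegularLocalRing.of_ringEquiv (R := Localization.AtPrime Q) e.toRingEquiv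
    haveI : IsLocalHom (algebraMap (Localization.AtPrime p)
        (Localization.AtPrime (Q.comap Algebra.TensorProduct.includeRight))) :=
      Localization.isLocalHom_localRingHom _ _ _ _
    apply regular_of_flat_of_regular_fiber (Localization.AtPrime p)
    have hI : (maximalIdeal (Localization.AtPrime p)).map (algebraMap (Localization.AtPrime p)
        (Localization.AtPrime (Q.comap Algebra.TensorProduct.includeRight))) =
        p.map (algebraMap R (Localization.AtPrime (Q.comap Algebra.TensorProduct.includeRight))) := by
      rw [← Localization.AtPrime.map_eq_maximalIdeal, Ideal.map_map,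
        ← IsScalarTower.algebraMap_eq]
    exact IsRegularLocalRing.of_ringEquiv (Ideal.quotEquivOfEq hI.symm)
  rw [isRegularRing_iff]
  intro q hq
  haveI : q.LiesOver (q.comap (algebraMap R S)) := ⟨rfl⟩
  let q' : PrimeSpectrum ((q.comap (algebraMap R S)).Fiber S) :=
    PrimeSpectrum.primesOverOrderIsoFiber R S (q.comap (algebraMap R S)) ⟨q, ⟨hq, inferInstance⟩⟩
  have hq' : q'.asIdeal.comap Algebra.TensorProduct.includeRight = q := by
    have h1 := PrimeSpectrum.coe_primesOverOrderIsoFiber_symm_apply (R := R) (S := S)
      (p := q.comap (algebraMap R S)) q'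
    rw [OrderIso.symm_apply_apply] at h1
    exact h1.symm
  exact transport hq' (claim (q.comap (algebraMap R S)) q'.asIdeal)

end Groth.Agent.Lib.helper20.RegAscent
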