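import Mathlib
import Groth.Prelude.Def_Found
import Groth.Agent.Lib.helper20.RegAscent

/-!
# Composition of regular ring homomorphisms (helper20)
-/

universe u
open TensorProduct

namespace Groth.Agent.Lib.helper20.RegHomComp

/-- If `A → B` and `B → C` are regular and the fibres of `A → C` are Noetherian, then `A → C` is
regular. -/
theorem regularHom_comp (A B C : Type u) [CommRing A] [CommRing B] [CommRing C]
    [Algebra A B] [Algebra B C] [Algebra A C] [IsScalarTower A B C]
    (hAB : CAlg.IsRegularHom A B) (hBC : CAlg.IsRegularHom B C)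
    (hN : ∀ (p : Ideal A) [p.IsPrime], IsNoetherianRing (p.Fiber C)) :
    CAlg.IsRegularHom A C := by
  obtain ⟨hflatAB, hfibAB⟩ := hAB
  obtain ⟨hflatBC, hfibBC⟩ := hBC
  haveI := hflatAB
  haveI := hflatBC
  refine ⟨Module.Flat.trans A B C, fun p hp => ⟨hN p, ?_⟩⟩
  intro k' _ _ hfin
  letI : Algebra A k' := ((algebraMap p.ResidueField k').comp (algebraMap A p.ResidueField)).toAlgebra
  haveI : IsScalarTower A p.ResidueField k' := IsScalarTower.of_algebraMap_eq (fun _ => rfl)
  -- regularity of `B ⊗[A] k'`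
  haveI hB0 : IsRegularRing (k' ⊗[p.ResidueField] (p.Fiber B)) := (hfibAB p).2 k' hfin
  let eB : k' ⊗[p.ResidueField] (p.Fiber B) ≃+* B ⊗[A] k' :=
    ((Algebra.TensorProduct.cancelBaseChange A p.ResidueField p.ResidueField k' B).toRingEquiv).trans
      (Algebra.TensorProduct.comm A k' B).toRingEquiv
  haveI : IsRegularRing (B ⊗[A] k') :=
    IsRegularRing.of_ringEquiv (R := k' ⊗[p.ResidueField] (p.Fiber B)) eB
  -- the comparison for `C`
  let eC : (B ⊗[A] k') ⊗[B] C ≃+* k' ⊗[p.ResidueField] (p.Fiber C) :=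
    (Algebra.TensorProduct.comm B (B ⊗[A] k') C).toRingEquiv.trans <|
    (Algebra.TensorProduct.cancelBaseChange A B B C k').toRingEquiv.trans <|
    (Algebra.TensorProduct.comm A C k').toRingEquiv.trans
    (Algebra.TensorProduct.cancelBaseChange A p.ResidueField p.ResidueField k' C).toRingEquiv.symm
  haveI : IsNoetherianRing (p.Fiber C) := hN p
  haveI : Module.Finite p.ResidueField k' := hfin
  haveI : Module.Finite (p.Fiber C) ((p.Fiber C) ⊗[p.ResidueField] k') :=
    Module.Finite.base_change p.ResidueField (p.Fiber C) k'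
  haveI : IsNoetherianRing ((p.Fiber C) ⊗[p.ResidueField] k') :=
    IsNoetherianRing.of_finite (p.Fiber C) _
  haveI : IsNoetherianRing (k' ⊗[p.ResidueField] (p.Fiber C)) :=
    isNoetherianRing_of_ringEquiv ((p.Fiber C) ⊗[p.ResidueField] k')
      (Algebra.TensorProduct.comm p.ResidueField (p.Fiber C) k').toRingEquiv
  haveI : IsNoetherianRing ((B ⊗[A] k') ⊗[B] C) :=
    isNoetherianRing_of_ringEquiv _ eC.symm
  suffices h : IsRegularRing ((B ⊗[A] k') ⊗[B] C) from
    IsRegularRing.of_ringEquiv (R := (B ⊗[A] k') ⊗[B] C) eC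
  haveI : Algebra.QuasiFinite A p.ResidueField := inferInstance
  haveI : Algebra.QuasiFinite A k' := Algebra.QuasiFinite.trans A p.ResidueField k'
  haveI : Algebra.QuasiFinite B (B ⊗[A] k') := inferInstance
  apply Groth.Agent.Lib.helper20.RegAscent.isRegularRing_of_flat_of_regular_fibers (B ⊗[A] k')
  intro P hP
  let Q := P.comap (algebraMap B (B ⊗[A] k'))
  haveI : P.LiesOver Q := ⟨rfl⟩
  letI := Localization.AtPrime.algebraOfLiesOver Q P
  haveI hfinQP : Module.Finite Q.ResidueField P.ResidueField := inferInstance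
  haveI : IsScalarTower B Q.ResidueField P.ResidueField := inferInstance
  haveI hreg : IsRegularRing (P.ResidueField ⊗[Q.ResidueField] (Q.Fiber C)) :=
    (hfibBC Q).2 P.ResidueField hfinQP
  let e1 : P.ResidueField ⊗[Q.ResidueField] (Q.Fiber C) ≃+* P.ResidueField ⊗[B] C :=
    (Algebra.TensorProduct.cancelBaseChange B Q.ResidueField Q.ResidueField
      P.ResidueField C).toRingEquiv
  let e2 : P.Fiber ((B ⊗[A] k') ⊗[B] C) ≃+* P.ResidueField ⊗[B] C :=
    (Algebra.TensorProduct.cancelBaseChange B (B ⊗[A] k') (B ⊗[A] k')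
      P.ResidueField C).toRingEquiv
  exact IsRegularRing.of_ringEquiv (R := P.ResidueField ⊗[Q.ResidueField] (Q.Fiber C))
    (e1.trans e2.symm)

end Groth.Agent.Lib.helper20.RegHomComp
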