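import Mathlib

/-!
# Descent of normality along (faithfully) flat ring maps (helper20)
-/

universe u

namespace Groth.Agent.Lib.helper20.NormalDescent

/-- A domain with a faithfully flat integrally closed domain over it is integrally closed. -/
theorem ic_of_faithfullyFlat (A B : Type u) [CommRing A] [CommRing B] [Algebra A B]
    [Module.FaithfullyFlat A B] [IsDomain A] [IsDomain B] [IsIntegrallyClosed B] :
    IsIntegrallyClosed A := by
  have hinj : Function.Injective (algebraMap A B) := FaithfulSMul.algebraMap_injective A B
  let L := FractionRing B
  have hinjL : Function.Injective (algebraMap A L) := by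
    rw [IsScalarTower.algebraMap_eq A B L]
    exact (IsFractionRing.injective B L).comp hinj
  haveI : FaithfulSMul A L := (faithfulSMul_iff_algebraMap_injective A L).mpr hinjL
  letI : Algebra (FractionRing A) L := FractionRing.liftAlgebra A L
  haveI : IsScalarTower A (FractionRing A) L := FractionRing.isScalarTower_liftAlgebra A L
  refine (isIntegrallyClosed_iff (FractionRing A)).mpr ?_
  intro x hx
  obtain ⟨a, b, hb, rfl⟩ := IsFractionRing.div_surjective (A := A) x
  have h1 : IsIntegral B (algebraMap (FractionRing A) L
      (algebraMap A (FractionRing A) a / algebraMap A (FractionRing A) b)) :=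
    (hx.map (IsScalarTower.toAlgHom A (FractionRing A) L)).tower_top
  obtain ⟨y, hy⟩ := IsIntegrallyClosed.isIntegral_iff.mp h1
  have hb0 : algebraMap A (FractionRing A) b ≠ 0 := by
    intro h0
    have := (IsFractionRing.injective A (FractionRing A)) (h0.trans (map_zero _).symm)
    exact nonZeroDivisors.ne_zero hb this
  have h2 : y * algebraMap A B b = algebraMap A B a := by
    apply IsFractionRing.injective B L
    rw [map_mul, hy, ← IsScalarTower.algebraMap_apply A B L, ← IsScalarTower.algebraMap_apply A B L,
      IsScalarTower.algebraMap_apply A (FractionRing A) L b, ← map_mul, div_mul_cancel₀ _ hb0,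
      ← IsScalarTower.algebraMap_apply]
  have h3 : a ∈ ((Ideal.span {b}).map (algebraMap A B)).comap (algebraMap A B) := by
    rw [Ideal.mem_comap, Ideal.map_span, Set.image_singleton, Ideal.mem_span_singleton']
    exact ⟨y, h2⟩
  rw [Ideal.comap_map_eq_self_of_faithfullyFlat] at h3
  obtain ⟨c, rfl⟩ := Ideal.mem_span_singleton'.mp h3
  refine ⟨c, ?_⟩
  rw [map_mul, mul_div_assoc, div_self hb0, mul_one]

/-- Flat local descent of normality (no Noetherian hypotheses). -/
theorem normal_local_descent (A B : Type u) [CommRing A] [CommRing B] [Algebra A B]
    [Module.Flat A B] (q : Ideal B) [q.IsPrime]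
    [IsDomain (Localization.AtPrime q)] [IsIntegrallyClosed (Localization.AtPrime q)] :
    IsDomain (Localization.AtPrime (q.comap (algebraMap A B))) ∧
      IsIntegrallyClosed (Localization.AtPrime (q.comap (algebraMap A B))) := by
  haveI hlo : q.LiesOver (q.comap (algebraMap A B)) := ⟨rfl⟩
  letI := Localization.AtPrime.algebraOfLiesOver (q.comap (algebraMap A B)) q
  haveI : Module.Flat (Localization.AtPrime (q.comap (algebraMap A B))) (Localization.AtPrime q) :=
    inferInstance
  haveI : IsLocalHom (algebraMap (Localization.AtPrime (q.comap (algebraMap A B)))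
      (Localization.AtPrime q)) :=
    Localization.isLocalHom_localRingHom _ _ _ _
  haveI : Module.FaithfullyFlat (Localization.AtPrime (q.comap (algebraMap A B)))
      (Localization.AtPrime q) := Module.FaithfullyFlat.of_flat_of_isLocalHom
  have hinj : Function.Injective (algebraMap (Localization.AtPrime (q.comap (algebraMap A B)))
      (Localization.AtPrime q)) := FaithfulSMul.algebraMap_injective _ _
  haveI : IsDomain (Localization.AtPrime (q.comap (algebraMap A B))) := hinj.isDomain _
  exact ⟨inferInstance, ic_of_faithfullyFlat _ (Localization.AtPrime q)⟩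

lemma transport {R : Type u} [CommRing R] {P P' : Ideal R} [P.IsPrime] [P'.IsPrime]
    (h : P = P')
    (hr : IsDomain (Localization.AtPrime P) ∧ IsIntegrallyClosed (Localization.AtPrime P)) :
    IsDomain (Localization.AtPrime P') ∧ IsIntegrallyClosed (Localization.AtPrime P') := by
  subst h; exact hr

/-- Normality (all local rings integrally closed domains) descends along faithfully flat maps. -/
theorem normal_of_faithfullyFlat (R S : Type u) [CommRing R] [CommRing S] [Algebra R S]
    [Module.FaithfullyFlat R S]
    (h : ∀ (q : Ideal S) [q.IsPrime],
      IsDomain (Localization.AtPrime q) ∧ IsIntegrallyClosed (Localization.AtPrime q)) :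
    ∀ (p : Ideal R) [p.IsPrime],
      IsDomain (Localization.AtPrime p) ∧ IsIntegrallyClosed (Localization.AtPrime p) := by
  intro p hp
  obtain ⟨q, hq, hqp⟩ := Ideal.exists_isPrime_liesOver_of_faithfullyFlat (B := S) p
  obtain ⟨h1, h2⟩ := h q
  have := normal_local_descent R S q
  exact transport hqp.over.symm this

end Groth.Agent.Lib.helper20.NormalDescent
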