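import Mathlib

/-!
# Directed colimits of integrally closed domains (helper20)

An elementwise criterion for integral closedness and its passage to directed "unions".
-/

universe u v

namespace Groth.Agent.Lib.helper20.ColimNormal

open Polynomial

/-- Elementwise form of integral closedness: if `a/b` satisfies a monic equation (written
homogeneously via `scaleRoots`) then `b ∣ a`. -/
def IC' (S : Type u) [CommRing S] : Prop :=
  ∀ (a b : S) (p : S[X]), b ≠ 0 → p.Monic → (p.scaleRoots b).eval a = 0 → b ∣ a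

theorem ic'_of_isIntegrallyClosed (S : Type u) [CommRing S] [IsDomain S] [IsIntegrallyClosed S] :
    IC' S := by
  intro a b p hb hp h0
  let K := FractionRing S
  let f := algebraMap S K
  have hfb : f b ≠ 0 := by
    intro h
    exact hb ((IsFractionRing.injective S K) (h.trans (map_zero _).symm))
  have h1 : eval₂ f (f b * (f a / f b)) (scaleRoots p b) = f b ^ p.natDegree *
      eval₂ f (f a / f b) p := scaleRoots_eval₂_mul f (f a / f b) b
  have h2 : f b * (f a / f b) = f a := by
    rw [mul_div_assoc']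
    exact mul_div_cancel_left₀ _ hfb
  rw [h2, eval₂_at_apply, h0, map_zero] at h1
  have h3 : eval₂ f (f a / f b) p = 0 := by
    rcases mul_eq_zero.mp h1.symm with h | h
    · exact absurd (pow_eq_zero_iff (n := p.natDegree) (by
        intro hn
        exact absurd h (by rw [hn, pow_zero]; exact one_ne_zero)) |>.mp h) hfb
    · exact h
  have hint : IsIntegral S (f a / f b) := ⟨p, hp, h3⟩
  obtain ⟨c, hc⟩ := IsIntegrallyClosed.isIntegral_iff.mp hint
  refine ⟨c, ?_⟩
  apply IsFractionRing.injective S K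
  rw [map_mul]
  show f a = f b * algebraMap S K c
  rw [hc]
  exact h2.symm

theorem isIntegrallyClosed_of_ic' (S : Type u) [CommRing S] [IsDomain S] (h : IC' S) :
    IsIntegrallyClosed S := by
  refine (isIntegrallyClosed_iff (FractionRing S)).mpr ?_
  intro x hx
  obtain ⟨a, b, hb, rfl⟩ := IsFractionRing.div_surjective (A := S) x
  obtain ⟨p, hp, hpx⟩ := hx
  have h1 := scaleRoots_eval₂_eq_zero_of_eval₂_div_eq_zero
    (IsFractionRing.injective S (FractionRing S)) hpx hb
  rw [eval₂_at_apply] at h1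
  have h2 : eval a (scaleRoots p b) = 0 :=
    (IsFractionRing.injective S (FractionRing S)) (h1.trans (map_zero _).symm)
  obtain ⟨c, hc⟩ := h a b p (nonZeroDivisors.ne_zero hb) hp h2
  refine ⟨c, ?_⟩
  have hb0 : algebraMap S (FractionRing S) b ≠ 0 := by
    intro h0
    exact nonZeroDivisors.ne_zero hb
      ((IsFractionRing.injective S (FractionRing S)) (h0.trans (map_zero _).symm))
  rw [hc, map_mul]
  field_simp

/-- A directed "union" of integrally closed domains is an integrally closed domain. -/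
theorem ic_domain_of_directed {ι : Type v} [Preorder ι] [IsDirected ι (· ≤ ·)] [Nonempty ι]
    (T : ι → Type u) [∀ i, CommRing (T i)] (S : Type u) [CommRing S] [Nontrivial S]
    (g : ∀ i j, i ≤ j → T i →+* T j) (ψ : ∀ i, T i →+* S)
    (hcompat : ∀ i j (h : i ≤ j) x, ψ j (g i j h x) = ψ i x)
    (hsurj : ∀ s : S, ∃ i x, ψ i x = s)
    (hker : ∀ i x, ψ i x = 0 → ∃ j, ∃ h : i ≤ j, g i j h x = 0)
    (hT : ∀ i, IsDomain (T i) ∧ IsIntegrallyClosed (T i)) :
    IsDomain S ∧ IsIntegrallyClosed S := by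
  have hrange : ∀ i j, i ≤ j → Set.range (ψ i) ⊆ Set.range (ψ j) := by
    rintro i j h _ ⟨x, rfl⟩
    exact ⟨g i j h x, hcompat i j h x⟩
  have hlift2 : ∀ s1 s2 : S, ∃ i x1 x2, ψ i x1 = s1 ∧ ψ i x2 = s2 := by
    intro s1 s2
    obtain ⟨i1, x1, h1⟩ := hsurj s1
    obtain ⟨i2, x2, h2⟩ := hsurj s2
    obtain ⟨k, hk1, hk2⟩ := exists_ge_ge i1 i2
    exact ⟨k, g i1 k hk1 x1, g i2 k hk2 x2, by rw [hcompat, h1], by rw [hcompat, h2]⟩
  haveI : NoZeroDivisors S := by
    refine ⟨fun {a b} hab => ?_⟩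
    obtain ⟨i, x, y, rfl, rfl⟩ := hlift2 a b
    rw [← map_mul] at hab
    obtain ⟨j, hij, hj⟩ := hker i _ hab
    haveI := (hT j).1
    rw [map_mul] at hj
    rcases mul_eq_zero.mp hj with h | h
    · left
      rw [← hcompat i j hij, h, map_zero]
    · right
      rw [← hcompat i j hij, h, map_zero]
  haveI : IsDomain S := NoZeroDivisors.to_isDomain S
  refine ⟨inferInstance, isIntegrallyClosed_of_ic' S ?_⟩
  intro a b p hb hp h0
  -- lift the polynomial
  have hpl : ∃ i, p ∈ lifts (ψ i) := by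
    classical
    have hc : ∀ n : ℕ, ∃ i, p.coeff n ∈ Set.range (ψ i) := by
      intro n
      obtain ⟨i, x, hx⟩ := hsurj (p.coeff n)
      exact ⟨i, x, hx⟩
    choose idx hidx using hc
    obtain ⟨M, hM⟩ := Finset.exists_le (p.support.image idx)
    refine ⟨M, (lifts_iff_coeff_lifts p).mpr fun n => ?_⟩
    by_cases hn : n ∈ p.support
    · exact hrange _ _ (hM _ (Finset.mem_image_of_mem _ hn)) (hidx n)
    · rw [notMem_support_iff.mp hn]
      exact ⟨0, map_zero _⟩
  obtain ⟨i0, hi0⟩ := hpl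
  obtain ⟨q0, hq0, -, hq0m⟩ := lifts_and_degree_eq_and_monic hi0 hp
  obtain ⟨i1, x1, y1, hx1, hy1⟩ := hlift2 a b
  obtain ⟨i, hi0i, hi1i⟩ := exists_ge_ge i0 i1
  -- everything at level i
  set q := q0.map (g i0 i hi0i) with hq
  set x := g i1 i hi1i x1 with hx
  set y := g i1 i hi1i y1 with hy
  have hqm : q.Monic := hq0m.map _
  have hqp : q.map (ψ i) = p := by
    rw [hq, Polynomial.map_map]
    have : (ψ i).comp (g i0 i hi0i) = ψ i0 := RingHom.ext (hcompat i0 i hi0i)
    rw [this, hq0]
  have hxa : ψ i x = a := by rw [hx, hcompat, hx1]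
  have hyb : ψ i y = b := by rw [hy, hcompat, hy1]
  have hone : ∀ {A B : Type u} [CommRing A] [CommRing B] [Nontrivial B] (φ : A →+* B)
      (r : A[X]), r.Monic → φ r.leadingCoeff ≠ 0 := by
    intro A B _ _ _ φ r hr
    rw [hr.leadingCoeff, map_one]
    exact one_ne_zero
  have hz : ψ i (eval x (scaleRoots q y)) = 0 := by
    rw [← eval_map_apply, map_scaleRoots q y (ψ i) (hone _ q hqm), hqp, hxa, hyb]
    exact h0
  obtain ⟨j, hij, hj⟩ := hker i _ hz
  haveI := (hT j).1
  haveI := (hT j).2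
  rw [← eval_map_apply, map_scaleRoots q y (g i j hij) (hone _ q hqm)] at hj
  have hyj : g i j hij y ≠ 0 := by
    intro h
    apply hb
    rw [← hyb, ← hcompat i j hij, h, map_zero]
  obtain ⟨c, hc⟩ := ic'_of_isIntegrallyClosed (T j) (g i j hij x) (g i j hij y)
    (q.map (g i j hij)) hyj (hqm.map _) hj
  refine ⟨ψ j c, ?_⟩
  rw [← hxa, ← hyb, ← hcompat i j hij x, ← hcompat i j hij y, hc, map_mul]

end Groth.Agent.Lib.helper20.ColimNormal
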