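import Mathlib
import Groth.Agent.Lib.helper20.ColimNormal1

/-!
# Directed colimits of normal rings are normal (helper20)
-/

universe u v

namespace Groth.Agent.Lib.helper20.ColimNormal

/-- A ring which is a directed "union" (surjective + kernel conditions) of normal rings is normal. -/
theorem normal_of_directed {ι : Type v} [Preorder ι] [IsDirected ι (· ≤ ·)] [Nonempty ι]
    (G : ι → Type u) [∀ i, CommRing (G i)] (R : Type u) [CommRing R]
    (f : ∀ i j, i ≤ j → G i →+* G j) (φ : ∀ i, G i →+* R)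
    (hfunct : ∀ i j k (h1 : i ≤ j) (h2 : j ≤ k) x, f j k h2 (f i j h1 x) = f i k (h1.trans h2) x)
    (hcompat : ∀ i j (h : i ≤ j) x, φ j (f i j h x) = φ i x)
    (hsurj : ∀ r : R, ∃ i x, φ i x = r)
    (hker : ∀ i x, φ i x = 0 → ∃ j, ∃ h : i ≤ j, f i j h x = 0)
    (hG : ∀ i, ∀ (p : Ideal (G i)) [p.IsPrime],
      IsDomain (Localization.AtPrime p) ∧ IsIntegrallyClosed (Localization.AtPrime p)) :
    ∀ (P : Ideal R) [P.IsPrime],
      IsDomain (Localization.AtPrime P) ∧ IsIntegrallyClosed (Localization.AtPrime P) := by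
  intro P hP
  let Q : ∀ i, Ideal (G i) := fun i => P.comap (φ i)
  haveI hQp : ∀ i, (Q i).IsPrime := fun i => Ideal.comap_isPrime (φ i) P
  have hQ : ∀ i j (h : i ≤ j), Q i = (Q j).comap (f i j h) := by
    intro i j h
    ext x
    simp only [Q, Ideal.mem_comap, hcompat]
  let g : ∀ i j, i ≤ j → Localization.AtPrime (Q i) →+* Localization.AtPrime (Q j) :=
    fun i j h => Localization.localRingHom (Q i) (Q j) (f i j h) (hQ i j h)
  let ψ : ∀ i, Localization.AtPrime (Q i) →+* Localization.AtPrime P :=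
    fun i => Localization.localRingHom (Q i) P (φ i) rfl
  have hlift2 : ∀ s1 s2 : R, ∃ i x1 x2, φ i x1 = s1 ∧ φ i x2 = s2 := by
    intro s1 s2
    obtain ⟨i1, x1, h1⟩ := hsurj s1
    obtain ⟨i2, x2, h2⟩ := hsurj s2
    obtain ⟨k, hk1, hk2⟩ := exists_ge_ge i1 i2
    exact ⟨k, f i1 k hk1 x1, f i2 k hk2 x2, by rw [hcompat, h1], by rw [hcompat, h2]⟩
  refine ic_domain_of_directed (fun i => Localization.AtPrime (Q i)) (Localization.AtPrime P)
    g ψ ?_ ?_ ?_ (fun i => hG i (Q i))
  · intro i j h x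
    have : (ψ j).comp (g i j h) = ψ i := by
      apply IsLocalization.ringHom_ext (Q i).primeCompl
      ext a
      simp only [RingHom.comp_apply, g, ψ, Localization.localRingHom_to_map, hcompat]
    exact RingHom.congr_fun this x
  · intro s
    obtain ⟨r, t, rfl⟩ := IsLocalization.exists_mk'_eq P.primeCompl s
    obtain ⟨i, a, b, ha, hb⟩ := hlift2 r t.1
    have hbQ : b ∈ (Q i).primeCompl := by
      show b ∉ Q i
      simp only [Q, Ideal.mem_comap, hb]
      exact t.2
    refine ⟨i, IsLocalization.mk' _ a ⟨b, hbQ⟩, ?_⟩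
    simp only [ψ, Localization.localRingHom_mk']
    congr 1 <;> first | exact ha | exact Subtype.ext hb
  · intro i x hx
    obtain ⟨a, s, rfl⟩ := IsLocalization.exists_mk'_eq (Q i).primeCompl x
    simp only [ψ, Localization.localRingHom_mk'] at hx
    obtain ⟨t, ht⟩ := (IsLocalization.mk'_eq_zero_iff _ _).mp hx
    obtain ⟨i', c, hc⟩ := hsurj t.1
    obtain ⟨j, hij, hi'j⟩ := exists_ge_ge i i'
    have h0 : φ j (f i' j hi'j c * f i j hij a) = 0 := by
      rw [map_mul, hcompat, hcompat, hc]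
      exact ht
    obtain ⟨k, hjk, hk⟩ := hker j _ h0
    refine ⟨k, hij.trans hjk, ?_⟩
    simp only [g, Localization.localRingHom_mk']
    rw [IsLocalization.mk'_eq_zero_iff]
    have hcQ : f j k hjk (f i' j hi'j c) ∈ (Q k).primeCompl := by
      show _ ∉ Q k
      simp only [Q, Ideal.mem_comap, hcompat, hc]
      exact t.2
    refine ⟨⟨_, hcQ⟩, ?_⟩
    have h2 : f i k (hij.trans hjk) a = f j k hjk (f i j hij a) := (hfunct i j k hij hjk a).symm
    show f j k hjk (f i' j hi'j c) * f i k (hij.trans hjk) a = 0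
    rw [h2, ← map_mul]
    exact hk

end Groth.Agent.Lib.helper20.ColimNormal
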