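import Mathlib

/-!
# Rings whose local rings are domains (helper20)

Annihilators of elements are generated by idempotents; connected such rings are domains.
-/

universe u

namespace Groth.Agent.Lib.helper20.NormalSmooth

/-- In a Noetherian ring all of whose localizations at maximal ideals are domains, the annihilator
of any element is generated by an idempotent. -/
theorem exists_idem_ann (D : Type u) [CommRing D] [IsNoetherianRing D]
    (hD : ∀ (P : Ideal D) [P.IsMaximal], IsDomain (Localization.AtPrime P)) (a : D) :
    ∃ e : D, IsIdempotentElem e ∧ ∀ x : D, x * a = 0 ↔ ∃ d, x = d * e := by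
  set I : Ideal D := (Ideal.span {a}).annihilator with hI
  have hmem : ∀ x : D, x ∈ I ↔ x * a = 0 := by
    intro x
    rw [hI, Submodule.mem_annihilator_span_singleton, smul_eq_mul]
  have hII : IsIdempotentElem I := by
    show I * I = I
    apply le_antisymm Ideal.mul_le_left
    intro x hx
    by_contra hxn
    have hJ : (I * I).colon ({x} : Set D) ≠ ⊤ := by
      intro htop
      have h1 : (1 : D) ∈ (I * I).colon ({x} : Set D) := htop ▸ Submodule.mem_top
      rw [Submodule.mem_colon_singleton, one_smul] at h1
      exact hxn h1
    obtain ⟨P, hP, hJP⟩ := Ideal.exists_le_maximal _ hJ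
    have := hD P
    have hxa : algebraMap D (Localization.AtPrime P) x * algebraMap D (Localization.AtPrime P) a
        = 0 := by
      rw [← map_mul, (hmem x).mp hx, map_zero]
    rcases mul_eq_zero.mp hxa with h0 | h0
    · obtain ⟨m, hm⟩ := (IsLocalization.map_eq_zero_iff P.primeCompl _ x).mp h0
      have hmJ : (m : D) ∈ (I * I).colon ({x} : Set D) := by
        rw [Submodule.mem_colon_singleton, smul_eq_mul, hm]
        exact zero_mem _
      exact m.2 (hJP hmJ)
    · obtain ⟨m, hm⟩ := (IsLocalization.map_eq_zero_iff P.primeCompl _ a).mp h0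
      have hmI : (m : D) ∈ I := (hmem _).mpr hm
      have hmJ : (m : D) ∈ (I * I).colon ({x} : Set D) := by
        rw [Submodule.mem_colon_singleton, smul_eq_mul]
        exact Ideal.mul_mem_mul hmI hx
      exact m.2 (hJP hmJ)
  obtain ⟨e, he, hIe⟩ := (Ideal.isIdempotentElem_iff_of_fg I (IsNoetherian.noetherian I)).mp hII
  refine ⟨e, he, fun x => ?_⟩
  rw [← hmem, hIe, Ideal.mem_span_singleton']
  constructor
  · rintro ⟨d, hd⟩
    exact ⟨d, hd.symm⟩
  · rintro ⟨d, hd⟩
    exact ⟨d, hd.symm⟩

/-- A nontrivial Noetherian ring with domain localizations and only trivial idempotents is a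
domain. -/
theorem isDomain_of_idem_trivial (D : Type u) [CommRing D] [IsNoetherianRing D] [Nontrivial D]
    (hD : ∀ (P : Ideal D) [P.IsMaximal], IsDomain (Localization.AtPrime P))
    (hidem : ∀ e : D, IsIdempotentElem e → e = 0 ∨ e = 1) : IsDomain D := by
  haveI : NoZeroDivisors D := by
    refine ⟨fun {x a} hxa => ?_⟩
    by_cases ha : a = 0
    · exact Or.inr ha
    · left
      obtain ⟨e, he, hann⟩ := exists_idem_ann D hD a
      rcases hidem e he with h0 | h1
      · obtain ⟨d, hd⟩ := (hann x).mp hxa
        rw [hd, h0, mul_zero]
      · exfalso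
        have : (1 : D) * a = 0 := (hann 1).mpr ⟨1, by rw [h1, mul_one]⟩
        rw [one_mul] at this
        exact ha this
  exact NoZeroDivisors.to_isDomain D

/-- A domain whose localizations at maximal ideals are integrally closed is integrally closed. -/
theorem isIntegrallyClosed_of_local (D : Type u) [CommRing D] [IsDomain D]
    (h : ∀ (P : Ideal D) [P.IsMaximal], IsIntegrallyClosed (Localization.AtPrime P)) :
    IsIntegrallyClosed D :=
  IsIntegrallyClosed.of_localization_maximal (fun P _ _ => h P)

end Groth.Agent.Lib.helper20.NormalSmooth
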