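import Mathlib
import Groth.Agent.Lib.helper20.NormalSmooth1

/-!
# Integral closedness passes to localizations; local criterion (helper20)
-/

universe u

namespace Groth.Agent.Lib.helper20.NormalSmooth

open Polynomial

/-- If `C` is integrally closed in `D`, then `M⁻¹C` is integrally closed in `M⁻¹D`. -/
theorem ic_localization (C D E F : Type u) [CommRing C] [CommRing D] [CommRing E] [CommRing F]
    [Algebra C D] [Algebra C E] [Algebra D F] [Algebra E F] [Algebra C F]
    [IsScalarTower C D F] [IsScalarTower C E F]
    (M : Submonoid C) [IsLocalization M E] [IsLocalization (Algebra.algebraMapSubmonoid D M) F]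
    (hic : ∀ x : D, IsIntegral C x → x ∈ (algebraMap C D).range) :
    ∀ y : F, IsIntegral E y → y ∈ (algebraMap E F).range := by
  intro y hy
  obtain ⟨⟨x, _, m₁, hm₁, rfl⟩, e⟩ := IsLocalization.surj (Algebra.algebraMapSubmonoid D M) y
  simp only [← IsScalarTower.algebraMap_apply] at e
  obtain ⟨⟨m₂, hm₂⟩, hm₂s⟩ := IsIntegral.exists_multiple_integral_of_isLocalization M y hy
  simp only [Submonoid.smul_def, Algebra.smul_def] at hm₂s
  obtain ⟨m₃, hm₃, hm₃s⟩ := IsLocalization.exists_isIntegral_smul_of_isIntegral_map (Sₘ := F)
    M (x := m₂ • x) <| by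
      simp only [Algebra.smul_def, map_mul, ← IsScalarTower.algebraMap_apply, ← e, ← mul_assoc]
      exact hm₂s.mul isIntegral_algebraMap
  obtain ⟨c, hc⟩ := hic _ hm₃s
  have hm : m₁ * m₂ * m₃ ∈ M := mul_mem (mul_mem hm₁ hm₂) hm₃
  refine ⟨IsLocalization.mk' E c ⟨m₁ * m₂ * m₃, hm⟩, ?_⟩
  have hu : IsUnit (algebraMap C F (m₁ * m₂ * m₃)) := by
    rw [IsScalarTower.algebraMap_apply C E F]
    exact (IsLocalization.map_units E ⟨m₁ * m₂ * m₃, hm⟩).map _
  apply hu.mul_right_cancel
  have h1 : algebraMap E F (IsLocalization.mk' E c ⟨m₁ * m₂ * m₃, hm⟩) *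
      algebraMap C F (m₁ * m₂ * m₃) = algebraMap C F c := by
    have h2 := IsLocalization.mk'_spec E c (⟨m₁ * m₂ * m₃, hm⟩ : M)
    rw [IsScalarTower.algebraMap_apply C E F, ← map_mul, h2, ← IsScalarTower.algebraMap_apply]
  rw [h1, IsScalarTower.algebraMap_apply C D F c, hc]
  simp only [Algebra.smul_def, map_mul, ← IsScalarTower.algebraMap_apply, ← e]
  ring

/-- The local rings of a localization are local rings of the original ring. -/
theorem normal_of_isLocalization (D F : Type u) [CommRing D] [CommRing F] [Algebra D F]
    (M : Submonoid D) [IsLocalization M F]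
    (h : ∀ (P : Ideal D) [P.IsPrime],
      IsDomain (Localization.AtPrime P) ∧ IsIntegrallyClosed (Localization.AtPrime P)) :
    ∀ (P : Ideal F) [P.IsPrime],
      IsDomain (Localization.AtPrime P) ∧ IsIntegrallyClosed (Localization.AtPrime P) := by
  intro P hP
  haveI : IsScalarTower D F (Localization.AtPrime P) := IsScalarTower.of_algebraMap_eq' rfl
  haveI : IsLocalization.AtPrime (Localization.AtPrime P) (P.comap (algebraMap D F)) :=
    IsLocalization.isLocalization_isLocalization_atPrime_isLocalization M _ P
  let e : Localization.AtPrime (P.comap (algebraMap D F)) ≃ₐ[D] Localization.AtPrime P :=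
    IsLocalization.algEquiv (P.comap (algebraMap D F)).primeCompl _ _
  obtain ⟨h1, h2⟩ := h (P.comap (algebraMap D F))
  haveI : IsDomain (Localization.AtPrime P) :=
    e.symm.toRingEquiv.toMulEquiv.isDomain (Localization.AtPrime (P.comap (algebraMap D F)))
  exact ⟨inferInstance, IsIntegrallyClosed.of_equiv e.toRingEquiv⟩

/-- Abstract criterion: a local localization `E` of `C` is an integrally closed domain as soon as
`C` is integrally closed in a Noetherian normal localization `D` of itself. -/
theorem ic_domain_of_localization (C D E : Type u) [CommRing C] [CommRing D] [CommRing E]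
    [Algebra C D] [Algebra C E]
    (M : Submonoid C) [IsLocalization M E] [IsLocalRing E]
    (N : Submonoid C) [IsLocalization N D]
    (hinj : Function.Injective (algebraMap C D))
    (hic : ∀ x : D, IsIntegral C x → x ∈ (algebraMap C D).range)
    [IsNoetherianRing D]
    (hD : ∀ (P : Ideal D) [P.IsPrime],
      IsDomain (Localization.AtPrime P) ∧ IsIntegrallyClosed (Localization.AtPrime P)) :
    IsDomain E ∧ IsIntegrallyClosed E := by
  let F := Localization (Algebra.algebraMapSubmonoid D M)
  letI : Algebra E F := localizationAlgebra M D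
  haveI : IsScalarTower C E F := isScalarTower_localizationAlgebra M D
  have hEF : Function.Injective (algebraMap E F) := localizationAlgebra_injective E F hinj
  have hicEF := ic_localization C D E F M hic
  haveI : IsNoetherianRing F := inferInstance
  have hF := normal_of_isLocalization D F (Algebra.algebraMapSubmonoid D M) hD
  haveI : Nontrivial F := hEF.nontrivial
  have hidem : ∀ e : F, IsIdempotentElem e → e = 0 ∨ e = 1 := by
    intro e he
    have hint : IsIntegral E e := by
      refine ⟨X ^ 2 - X, monic_X_pow_sub (n := 2)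
        (degree_X_le.trans_lt (by exact_mod_cast one_lt_two)), ?_⟩
      simp [pow_two, he.eq]
    obtain ⟨e', rfl⟩ := hicEF e hint
    have he' : e' * e' = e' := hEF (by rw [map_mul]; exact he)
    rcases IsLocalRing.isUnit_or_isUnit_one_sub_self e' with hu | hu
    · right
      have : e' = 1 := by
        have := hu.mul_left_cancel (he'.trans (mul_one e').symm)
        exact this
      rw [this, map_one]
    · left
      have : e' = 0 := by
        apply hu.mul_left_cancel
        rw [mul_zero, sub_mul, one_mul, he', sub_self]
      rw [this, map_zero]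
  haveI : IsDomain F := isDomain_of_idem_trivial F (fun P _ => (hF P).1) hidem
  haveI : IsIntegrallyClosed F := isIntegrallyClosed_of_local F (fun P _ => (hF P).2)
  haveI : IsDomain E := hEF.isDomain _
  refine ⟨inferInstance, ?_⟩
  haveI : IsLocalization (Algebra.algebraMapSubmonoid E N) F := IsLocalization.commutes E D F M N
  let L := FractionRing E
  have hNE : Algebra.algebraMapSubmonoid E N ≤ nonZeroDivisors E := by
    rintro _ ⟨n, hn, rfl⟩
    rw [mem_nonZeroDivisors_iff_ne_zero]
    intro h0
    have hu : IsUnit (algebraMap E F (algebraMap C E n)) :=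
      IsLocalization.map_units F (⟨_, ⟨n, hn, rfl⟩⟩ : Algebra.algebraMapSubmonoid E N)
    rw [h0, map_zero] at hu
    exact not_isUnit_zero hu
  letI : Algebra F L := (IsLocalization.lift (M := Algebra.algebraMapSubmonoid E N)
    (g := algebraMap E L) (fun y => IsLocalization.map_units L ⟨y.1, hNE y.2⟩)).toAlgebra
  haveI : IsScalarTower E F L := IsScalarTower.of_algebraMap_eq' (IsLocalization.lift_comp _).symm
  haveI : IsFractionRing F L :=
    IsFractionRing.isFractionRing_of_isDomain_of_isLocalization
      (Algebra.algebraMapSubmonoid E N) F L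
  refine (isIntegrallyClosed_iff L).mpr ?_
  intro x hx
  have hxF : IsIntegral F x := hx.tower_top
  obtain ⟨y, rfl⟩ := IsIntegrallyClosed.isIntegral_iff.mp hxF
  have hy : IsIntegral E y := (isIntegral_algebraMap_iff (IsFractionRing.injective F L)).mp hx
  obtain ⟨z, rfl⟩ := hicEF y hy
  exact ⟨z, IsScalarTower.algebraMap_apply E F L z⟩

end Groth.Agent.Lib.helper20.NormalSmooth
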