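import Mathlib
import Groth.Prelude.Def_EGA4b
import Groth.Agent.Lib.helper20.SmoothReg
import Groth.Agent.Lib.helper6.RegNormal

/-!
# A smooth ring map is a normal homomorphism; regular rings are normal (helper20)
-/

universe u

namespace Groth.Agent.Lib.helper20.SmoothReg

/-- A regular ring is normal: its local rings are integrally closed domains. -/
theorem isNormalRing_of_isRegularRing (R : Type u) [CommRing R] [IsRegularRing R] :
    EGA4.IsNormalRing R := by
  intro p hp
  exact ⟨Groth.Agent.H5.RegLoc.isDomain _, Groth.Agent.Lib.helper6.RegNormal.isIntegrallyClosed _⟩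

/-- A smooth ring map is normal: flat with geometrically normal fibres. -/
theorem isNormalHom_of_smooth (A B : Type u) [CommRing A] [CommRing B] [Algebra A B]
    [Algebra.Smooth A B] : EGA4.IsNormalHom A B := by
  refine ⟨inferInstance, ?_⟩
  intro p hp
  haveI : Algebra.Smooth p.ResidueField (p.Fiber B) := inferInstance
  intro k' _ _ hfin
  haveI : Algebra.Smooth k' (TensorProduct p.ResidueField k' (p.Fiber B)) := inferInstance
  haveI : IsRegularRing k' := inferInstance
  haveI : IsRegularRing (TensorProduct p.ResidueField k' (p.Fiber B)) :=
    isRegularRing_of_smooth k' _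
  exact isNormalRing_of_isRegularRing _

end Groth.Agent.Lib.helper20.SmoothReg
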