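import Mathlib
import Groth.Agent.Lib.helper20.NormalSmooth2
import Groth.Agent.Lib.helper20.SmoothNormalHom
import Groth.Agent.Lib.helper20.FiberLoc

/-!
# Smooth algebras over normal rings are normal (helper20)
-/

universe u

namespace Groth.Agent.Lib.helper20.NormalSmooth

open TensorProduct

/-- A smooth algebra over an integrally closed domain is integrally closed in its generic fibre. -/
theorem ic_in_generic_fibre (R C : Type u) [CommRing R] [IsDomain R] [IsIntegrallyClosed R]
    [CommRing C] [Algebra R C] [Algebra.Smooth R C] :
    ∀ x : C ⊗[R] FractionRing R, IsIntegral C x →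
      x ∈ (algebraMap C (C ⊗[R] FractionRing R)).range := by
  intro x hx
  have hbij := TensorProduct.toIntegralClosure_bijective_of_smooth (R := R) (S := C)
    (B := FractionRing R)
  obtain ⟨t, ht⟩ := hbij.2 ⟨x, hx⟩
  have hx' : x = Algebra.TensorProduct.map (AlgHom.id C C)
      (integralClosure R (FractionRing R)).val t := by
    have := congrArg Subtype.val ht
    exact this.symm
  rw [hx']
  clear hx' ht hx
  induction t with
  | zero => rw [map_zero]; exact zero_mem _
  | add a b ha hb => rw [map_add]; exact add_mem ha hb
  | tmul c k =>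
    obtain ⟨k, hk⟩ := k
    obtain ⟨r, rfl⟩ := IsIntegrallyClosed.isIntegral_iff.mp hk
    refine ⟨r • c, ?_⟩
    rw [Algebra.TensorProduct.map_tmul, Algebra.TensorProduct.algebraMap_apply]
    simp only [AlgHom.coe_id, id_eq, Subalgebra.coe_val, Algebra.algebraMap_self, RingHom.id_apply]
    rw [TensorProduct.smul_tmul, Algebra.smul_def, mul_one]

/-- Core case: local localizations of a smooth algebra over an integrally closed domain are
integrally closed domains. -/
theorem ic_domain_of_smooth (R C E : Type u) [CommRing R] [IsDomain R] [IsIntegrallyClosed R]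
    [CommRing C] [Algebra R C] [Algebra.Smooth R C] [CommRing E] [Algebra C E]
    (M : Submonoid C) [IsLocalization M E] [IsLocalRing E] :
    IsDomain E ∧ IsIntegrallyClosed E := by
  let K := FractionRing R
  let D := C ⊗[R] K
  haveI : IsLocalization (Algebra.algebraMapSubmonoid C (nonZeroDivisors R)) D :=
    IsLocalization.tensor K (nonZeroDivisors R)
  have hinj : Function.Injective (algebraMap C D) := by
    have h := Algebra.TensorProduct.includeLeft_injective (R := R) (S := C) (A := C) (B := K)
      (IsFractionRing.injective R K)
    exact h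
  have e : D ≃ₐ[R] K ⊗[R] C := Algebra.TensorProduct.comm R C K
  haveI : Algebra.Smooth K (K ⊗[R] C) := inferInstance
  haveI : IsNoetherianRing (K ⊗[R] C) := Algebra.FiniteType.isNoetherianRing K (K ⊗[R] C)
  haveI : IsNoetherianRing D := isNoetherianRing_of_ringEquiv (K ⊗[R] C) e.symm.toRingEquiv
  haveI : IsRegularRing (K ⊗[R] C) := Groth.Agent.Lib.helper20.SmoothReg.isRegularRing_of_smooth K _
  have hN : EGA4.IsNormalRing (K ⊗[R] C) :=
    Groth.Agent.Lib.helper20.SmoothReg.isNormalRing_of_isRegularRing _
  have hD := Groth.Agent.Lib.helper20.FiberLoc.normal_of_ringEquiv e.symm.toRingEquiv hN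
  exact ic_domain_of_localization C D E M (Algebra.algebraMapSubmonoid C (nonZeroDivisors R))
    hinj (ic_in_generic_fibre R C) hD

/-- Smooth algebras over normal rings are normal. -/
theorem normal_of_smooth (A B : Type u) [CommRing A] [CommRing B] [Algebra A B]
    [Algebra.Smooth A B]
    (hA : ∀ (p : Ideal A) [p.IsPrime],
      IsDomain (Localization.AtPrime p) ∧ IsIntegrallyClosed (Localization.AtPrime p)) :
    ∀ (q : Ideal B) [q.IsPrime],
      IsDomain (Localization.AtPrime q) ∧ IsIntegrallyClosed (Localization.AtPrime q) := by
  intro q hq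
  let p := q.comap (algebraMap A B)
  let R := Localization.AtPrime p
  obtain ⟨h1, h2⟩ := hA p
  let C := R ⊗[A] B
  letI : Algebra B C := Algebra.TensorProduct.rightAlgebra
  haveI : IsLocalization (Algebra.algebraMapSubmonoid B p.primeCompl) C :=
    IsLocalization.tensorRight R p.primeCompl
  let E := Localization.AtPrime q
  have hle : Algebra.algebraMapSubmonoid B p.primeCompl ≤ q.primeCompl := by
    rintro _ ⟨a, ha, rfl⟩
    exact ha
  letI : Algebra C E := (IsLocalization.lift (M := Algebra.algebraMapSubmonoid B p.primeCompl)
    (g := algebraMap B E) (fun y => IsLocalization.map_units E ⟨y.1, hle y.2⟩)).toAlgebra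
  haveI : IsScalarTower B C E := IsScalarTower.of_algebraMap_eq' (IsLocalization.lift_comp _).symm
  haveI := IsLocalization.isLocalization_of_submonoid_le C E
    (Algebra.algebraMapSubmonoid B p.primeCompl) q.primeCompl hle
  exact ic_domain_of_smooth R C E (q.primeCompl.map (algebraMap B C))

end Groth.Agent.Lib.helper20.NormalSmooth
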