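import Mathlib
import Groth.Agent.Lib.helper22.SmoothModel
import Groth.Agent.Lib.helper14.SepGen

/-!
# A geometrically reduced field extension is a directed union of smooth subalgebras (helper20)
-/

universe u

namespace Groth.Agent.Lib.helper20.SepNormal

open IntermediateField

/-- Every finite subset of a geometrically reduced field extension `k'/k` lies in a finitely
generated smooth `k`-subalgebra of `k'`. -/
theorem exists_smooth_subalgebra_of_finset (k k' : Type u) [Field k] [Field k'] [Algebra k k']
    [Algebra.IsGeometricallyReduced k k'] (s : Finset k') :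
    ∃ B : Subalgebra k k', Algebra.FiniteType k B ∧ Algebra.Smooth k B ∧ (s : Set k') ⊆ B := by
  classical
  let K : IntermediateField k k' := IntermediateField.adjoin k (s : Set k')
  haveI : Algebra.IsGeometricallyReduced k K :=
    Algebra.IsGeometricallyReduced.of_injective K.val K.val.injective
  haveI : Algebra.EssFiniteType k K :=
    IntermediateField.essFiniteType_iff.mpr (IntermediateField.fg_adjoin_finset s)
  haveI : Algebra.FormallySmooth k K := Groth.Agent.H14.formallySmooth_of_isGeometricallyReduced k K
  let s' : Finset K := s.subtype (· ∈ K)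
  have hs' : ∀ t ∈ s, ∃ t' : K, t' ∈ s' ∧ (t' : k') = t := by
    intro t ht
    exact ⟨⟨t, IntermediateField.subset_adjoin k _ ht⟩, Finset.mem_subtype.mpr ht, rfl⟩
  have himage : (Algebra.adjoin k (s' : Set K)).map K.val = Algebra.adjoin k (s : Set k') := by
    rw [AlgHom.map_adjoin]
    congr 1
    ext t
    constructor
    · rintro ⟨t', ht', rfl⟩
      exact Finset.mem_subtype.mp ht'
    · intro ht
      obtain ⟨t', ht', rfl⟩ := hs' t ht
      exact ⟨t', ht', rfl⟩
  have hfrac : ∀ z : K, ∃ x ∈ Algebra.adjoin k (s' : Set K),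
      ∃ y ∈ Algebra.adjoin k (s' : Set K), z = x / y := by
    intro z
    obtain ⟨r, hr, q, hq, hz⟩ := IntermediateField.mem_adjoin_iff_div.mp z.2
    rw [← himage] at hr hq
    obtain ⟨x, hx, rfl⟩ := hr
    obtain ⟨y, hy, rfl⟩ := hq
    refine ⟨x, hx, y, hy, ?_⟩
    apply Subtype.ext
    rw [hz]
    simp
  obtain ⟨A, hAft, hAsm, hAle⟩ :=
    Groth.Agent.H22.SmoothModel.exists_smooth_subalgebra k K s' hfrac
  let e : A ≃ₐ[k] A.map K.val := Subalgebra.equivMapOfInjective A K.val K.val.injective
  refine ⟨A.map K.val, hAft.equiv e, ?_, ?_⟩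
  · haveI := hAsm
    exact Algebra.Smooth.of_equiv e
  · intro t ht
    obtain ⟨t', ht', rfl⟩ := hs' t ht
    exact ⟨t', hAle (Algebra.subset_adjoin ht'), rfl⟩

end Groth.Agent.Lib.helper20.SepNormal
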