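import Mathlib
import Groth.Agent.Lib.helper20.SepNormal1
import Groth.Agent.Lib.helper20.ColimNormal2
import Groth.Agent.Lib.helper20.NormalSmooth3

/-!
# Normality is preserved by geometrically reduced (separable) base field extensions (helper20)
-/

universe u

namespace Groth.Agent.Lib.helper20.SepNormal

open TensorProduct

/-- `A` normal `k`-algebra, `k'/k` geometrically reduced field extension ⇒ `A ⊗[k] k'` normal. -/
theorem normal_tensor_of_geomReduced (k A k' : Type u) [Field k] [CommRing A] [Algebra k A]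
    [Field k'] [Algebra k k'] [Algebra.IsGeometricallyReduced k k']
    (hA : ∀ (p : Ideal A) [p.IsPrime],
      IsDomain (Localization.AtPrime p) ∧ IsIntegrallyClosed (Localization.AtPrime p)) :
    ∀ (P : Ideal (A ⊗[k] k')) [P.IsPrime],
      IsDomain (Localization.AtPrime P) ∧ IsIntegrallyClosed (Localization.AtPrime P) := by
  classical
  let ι := {B : Subalgebra k k' // Algebra.FiniteType k B ∧ Algebra.Smooth k B}
  haveI : Nonempty ι := by
    obtain ⟨B, h1, h2, -⟩ := exists_smooth_subalgebra_of_finset k k' ∅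
    exact ⟨⟨B, h1, h2⟩⟩
  haveI : IsDirected ι (· ≤ ·) := by
    refine ⟨fun B1 B2 => ?_⟩
    obtain ⟨s1, hs1⟩ := (Subalgebra.fg_iff_finiteType B1.1).mpr B1.2.1
    obtain ⟨s2, hs2⟩ := (Subalgebra.fg_iff_finiteType B2.1).mpr B2.2.1
    obtain ⟨B, h1, h2, h3⟩ := exists_smooth_subalgebra_of_finset k k' (s1 ∪ s2)
    refine ⟨⟨B, h1, h2⟩, ?_, ?_⟩
    · show B1.1 ≤ B
      rw [← hs1]
      refine Algebra.adjoin_le fun t ht => h3 ?_
      simp only [Finset.coe_union, Set.mem_union]
      exact Or.inl ht
    · show B2.1 ≤ B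
      rw [← hs2]
      refine Algebra.adjoin_le fun t ht => h3 ?_
      simp only [Finset.coe_union, Set.mem_union]
      exact Or.inr ht
  let G : ι → Type u := fun B => A ⊗[k] B.1
  let f : ∀ i j : ι, i ≤ j → G i →+* G j := fun i j h =>
    (Algebra.TensorProduct.map (AlgHom.id A A) (Subalgebra.inclusion (show i.1 ≤ j.1 from h))).toRingHom
  let φ : ∀ i : ι, G i →+* A ⊗[k] k' := fun i =>
    (Algebra.TensorProduct.map (AlgHom.id A A) i.1.val).toRingHom
  have hf_tmul : ∀ (i j : ι) (h : i ≤ j) (a : A) (b : i.1),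
      f i j h (a ⊗ₜ b) = a ⊗ₜ (Subalgebra.inclusion (show i.1 ≤ j.1 from h) b) := by
    intro i j h a b
    exact Algebra.TensorProduct.map_tmul _ _ _ _
  have hφ_tmul : ∀ (i : ι) (a : A) (b : i.1), φ i (a ⊗ₜ b) = a ⊗ₜ (b : k') := by
    intro i a b
    exact Algebra.TensorProduct.map_tmul _ _ _ _
  have hfunct : ∀ i j l (h1 : i ≤ j) (h2 : j ≤ l) x,
      f j l h2 (f i j h1 x) = f i l (h1.trans h2) x := by
    intro i j l h1 h2 x
    induction x using TensorProduct.induction_on with
    | zero => simp only [map_zero]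
    | tmul a b => rw [hf_tmul i j h1, hf_tmul j l h2, hf_tmul i l (h1.trans h2)]; rfl
    | add x y hx hy => simp only [map_add, hx, hy]
  have hcompat : ∀ i j (h : i ≤ j) x, φ j (f i j h x) = φ i x := by
    intro i j h x
    induction x using TensorProduct.induction_on with
    | zero => simp only [map_zero]
    | tmul a b => rw [hf_tmul i j h, hφ_tmul, hφ_tmul]; rfl
    | add x y hx hy => simp only [map_add, hx, hy]
  have hsurj : ∀ r : A ⊗[k] k', ∃ i x, φ i x = r := by
    intro r
    induction r using TensorProduct.induction_on with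
    | zero => exact ⟨Classical.arbitrary ι, 0, map_zero _⟩
    | tmul a c =>
      obtain ⟨B, h1, h2, h3⟩ := exists_smooth_subalgebra_of_finset k k' {c}
      have hc : c ∈ B := h3 (by simp)
      exact ⟨⟨B, h1, h2⟩, a ⊗ₜ ⟨c, hc⟩, hφ_tmul _ _ _⟩
    | add x y hx hy =>
      obtain ⟨i1, x1, h1⟩ := hx
      obtain ⟨i2, x2, h2⟩ := hy
      obtain ⟨l, hl1, hl2⟩ := exists_ge_ge i1 i2
      exact ⟨l, f i1 l hl1 x1 + f i2 l hl2 x2, by rw [map_add, hcompat i1 l hl1, hcompat i2 l hl2, h1, h2]⟩
  have hinj : ∀ i : ι, Function.Injective (φ i) := by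
    intro i
    have h := Module.Flat.lTensor_preserves_injective_linearMap (M := A) i.1.val.toLinearMap
      Subtype.val_injective
    intro x y hxy
    apply h
    have hx : ∀ z : G i, (LinearMap.lTensor A i.1.val.toLinearMap) z = φ i z := by
      intro z
      induction z using TensorProduct.induction_on with
      | zero => simp only [map_zero]
      | tmul a b => rw [hφ_tmul]; rfl
      | add x y hx hy => simp only [map_add, hx, hy]
    rw [hx, hx, hxy]
  have hker : ∀ i x, φ i x = 0 → ∃ j, ∃ h : i ≤ j, f i j h x = 0 := by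
    intro i x hx
    have : x = 0 := hinj i (hx.trans (map_zero _).symm)
    exact ⟨i, le_rfl, by rw [this, map_zero]⟩
  have hG : ∀ i : ι, ∀ (p : Ideal (G i)) [p.IsPrime],
      IsDomain (Localization.AtPrime p) ∧ IsIntegrallyClosed (Localization.AtPrime p) := by
    intro i
    haveI : Algebra.Smooth k i.1 := i.2.2
    haveI : Algebra.Smooth A (A ⊗[k] i.1) := inferInstance
    exact Groth.Agent.Lib.helper20.NormalSmooth.normal_of_smooth A (A ⊗[k] i.1) hA
  exact Groth.Agent.Lib.helper20.ColimNormal.normal_of_directed G (A ⊗[k] k') f φ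
    hfunct hcompat hsurj hker hG

end Groth.Agent.Lib.helper20.SepNormal
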