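import Mathlib
import Groth.Agent.Lib.helper20.SmoothReg
import Groth.Agent.Lib.helper20.RegQuot6
import Groth.Agent.Lib.helper6.SerreConvE

/-!
# Pointwise ascent/descent of regularity along smooth ring maps (helper20)
-/

universe u

namespace Groth.Agent.Lib.helper20.RegSmoothPt

open TensorProduct

/-- A regular local ring is a regular ring. -/
theorem isRegularRing_of_isRegularLocalRing (R : Type u) [CommRing R] [IsRegularLocalRing R] :
    IsRegularRing R := by
  rw [isRegularRing_iff]
  intro p hp
  exact Groth.Agent.Lib.helper6.SerreConvE.regular_localization R p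

/-- A local ring which is a localization of a regular ring is a regular local ring. -/
theorem regular_of_isLocalization (C E : Type u) [CommRing C] [CommRing E] [Algebra C E]
    (M : Submonoid C) [IsLocalization M E] [IsLocalRing E] [IsRegularRing C] :
    IsRegularLocalRing E := by
  haveI : IsRegularRing (Localization M) :=
    Groth.Agent.Lib.helper20.RegQuot.isRegularRing_localization M
  haveI : IsRegularRing E :=
    IsRegularRing.of_ringEquiv (R := Localization M)
      (IsLocalization.algEquiv M (Localization M) E).toRingEquiv
  exact IsRegularLocalRing.of_isRegularRing_of_isLocalRing E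

/-- Pointwise ascent: `A_p` regular, `B` smooth over `A`, `q` over `p` ⇒ `B_q` regular. -/
theorem regular_at_prime (A B : Type u) [CommRing A] [CommRing B] [Algebra A B]
    [Algebra.Smooth A B] (q : Ideal B) [q.IsPrime]
    (h : IsRegularLocalRing (Localization.AtPrime (q.comap (algebraMap A B)))) :
    IsRegularLocalRing (Localization.AtPrime q) := by
  let p := q.comap (algebraMap A B)
  let R := Localization.AtPrime p
  haveI : IsRegularRing R := isRegularRing_of_isRegularLocalRing R
  let C := R ⊗[A] B
  haveI : IsRegularRing C := Groth.Agent.Lib.helper20.SmoothReg.isRegularRing_of_smooth R C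
  letI : Algebra B C := Algebra.TensorProduct.rightAlgebra
  haveI : IsLocalization (Algebra.algebraMapSubmonoid B p.primeCompl) C :=
    IsLocalization.tensorRight R p.primeCompl
  let E := Localization.AtPrime q
  have hle : Algebra.algebraMapSubmonoid B p.primeCompl ≤ q.primeCompl := by
    rintro _ ⟨a, ha, rfl⟩
    exact ha
  letI : Algebra C E := (IsLocalization.lift (M := Algebra.algebraMapSubmonoid B p.primeCompl)
    (g := algebraMap B E) (fun y => IsLocalization.map_units E ⟨y.1, hle y.2⟩)).toAlgebra
  haveI : IsScalarTower B C E := IsScalarTower.of_algebraMap_eq' (IsLocalization.lift_comp _).symm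
  haveI := IsLocalization.isLocalization_of_submonoid_le C E
    (Algebra.algebraMapSubmonoid B p.primeCompl) q.primeCompl hle
  exact regular_of_isLocalization C E (q.primeCompl.map (algebraMap B C))

/-- Pointwise descent of regularity along flat maps of Noetherian rings. -/
theorem regular_descent_at_prime (A B : Type u) [CommRing A] [CommRing B] [Algebra A B]
    [IsNoetherianRing A] [Module.Flat A B] (q : Ideal B) [q.IsPrime]
    (h : IsRegularLocalRing (Localization.AtPrime q)) :
    IsRegularLocalRing (Localization.AtPrime (q.comap (algebraMap A B))) := by
  haveI hlo : q.LiesOver (q.comap (algebraMap A B)) := ⟨rfl⟩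
  letI := Localization.AtPrime.algebraOfLiesOver (q.comap (algebraMap A B)) q
  haveI : Module.Flat (Localization.AtPrime (q.comap (algebraMap A B))) (Localization.AtPrime q) :=
    inferInstance
  haveI : IsLocalHom (algebraMap (Localization.AtPrime (q.comap (algebraMap A B)))
      (Localization.AtPrime q)) :=
    Localization.isLocalHom_localRingHom _ _ _ _
  exact Groth.Agent.Lib.helper6.SerreConvE.regular_of_flat_local
    (Localization.AtPrime (q.comap (algebraMap A B))) (Localization.AtPrime q)

/-- Height does not drop along flat maps: `ht (q ∩ A) ≤ ht q`. -/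
theorem height_comap_le_of_flat (A B : Type u) [CommRing A] [CommRing B] [Algebra A B]
    [IsNoetherianRing A] [IsNoetherianRing B] [Module.Flat A B] (q : Ideal B) [q.IsPrime] :
    (q.comap (algebraMap A B)).height ≤ q.height := by
  haveI hlo : q.LiesOver (q.comap (algebraMap A B)) := ⟨rfl⟩
  rw [Ideal.height_eq_height_add_of_liesOver_of_hasGoingDown (q.comap (algebraMap A B)) q]
  exact le_self_add

end Groth.Agent.Lib.helper20.RegSmoothPt
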