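import Mathlib
import Groth.Prelude.Def_Found
import Groth.Agent.Lib.helper20.SmoothReg

/-!
# A smooth ring map is a regular homomorphism (helper20)
-/

universe u

namespace Groth.Agent.Lib.helper20.SmoothReg

/-- A smooth ring map is regular: flat with Noetherian geometrically regular fibres. -/
theorem isRegularHom_of_smooth (A B : Type u) [CommRing A] [CommRing B] [Algebra A B]
    [Algebra.Smooth A B] : CAlg.IsRegularHom A B := by
  refine ⟨inferInstance, ?_⟩
  intro p hp
  haveI : Algebra.Smooth p.ResidueField (p.Fiber B) := inferInstance
  constructor
  · haveI : Algebra.FiniteType p.ResidueField (p.Fiber B) := inferInstance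
    exact Algebra.FiniteType.isNoetherianRing p.ResidueField _
  · intro k' _ _ hfin
    haveI : Algebra.Smooth k' (TensorProduct p.ResidueField k' (p.Fiber B)) := inferInstance
    haveI : IsRegularRing k' := inferInstance
    exact isRegularRing_of_smooth k' _

end Groth.Agent.Lib.helper20.SmoothReg
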