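import Mathlib
import Groth.Prelude.Def_W4bk5brsh16IT

/-!
# Concrete model of the ideal transform `LocCoh.DT I M = colim_n Hom(I^n, M)`

`cls I M n φ` : class of `φ : I^n →ₗ M`; `cls_surj`, `cls_eq_zero_iff`, `cls_res`, `desc`, `map_cls`,
`toDT_eq`.
-/

universe u
open CategoryTheory CategoryTheory.Limits Opposite

namespace Groth.Agent.Lib.helper20.IT

variable {R : Type u} [CommRing R] (I : Ideal R) (M : Type u) [AddCommGroup M] [Module R M]

instance presForget : PreservesColimitsOfShape ℕᵒᵖᵒᵖ (forget (ModuleCat.{u} R)) := by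
  haveI := preservesSmallestFilteredColimits_of_preservesFilteredColimits.{u, u}
    (forget (ModuleCat.{u} R))
  exact PreservesFilteredColimitsOfSize.preserves_filtered_colimits ℕᵒᵖᵒᵖ

/-- The evaluated cocone, a colimit cocone in `ModuleCat R`. -/
noncomputable def evCocone :
    Cocone (LocCoh.transformDiagram I ⋙ (evaluation _ _).obj (ModuleCat.of R M)) :=
  ((evaluation _ _).obj (ModuleCat.of R M)).mapCocone (colimit.cocone (LocCoh.transformDiagram I))

noncomputable def evIsColimit : IsColimit (evCocone I M) :=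
  isColimitOfPreserves _ (colimit.isColimit _)

/-- restriction `Hom(I^n, M) → Hom(I^m, M)` for `n ≤ m`. -/
def res {n m : ℕ} (h : n ≤ m) : (↥(I ^ n) →ₗ[R] M) →ₗ[R] (↥(I ^ m) →ₗ[R] M) :=
  LinearMap.lcomp R M (Submodule.inclusion (Ideal.pow_le_pow_right h))

@[simp] lemma res_apply {n m : ℕ} (h : n ≤ m) (φ : ↥(I ^ n) →ₗ[R] M) (a : ↥(I ^ m)) :
    res I M h φ a = φ ⟨a.1, Ideal.pow_le_pow_right h a.2⟩ := rfl

/-- The class of `φ : I^n → M` in `D_I(M)`. -/
noncomputable def cls (n : ℕ) : (↥(I ^ n) →ₗ[R] M) →ₗ[R] LocCoh.DT I M :=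
  ((colimit.ι (LocCoh.transformDiagram I) (op (op n))).app (ModuleCat.of R M)).hom ∘ₗ
    (ModuleCat.homLinearEquiv (S := R) (M := ModuleCat.of R ↥(I ^ n))
      (N := ModuleCat.of R M)).symm.toLinearMap

lemma cls_def (n : ℕ) (φ : ↥(I ^ n) →ₗ[R] M) :
    cls I M n φ = ((colimit.ι (LocCoh.transformDiagram I) (op (op n))).app (ModuleCat.of R M)).hom
      (ModuleCat.ofHom φ) := rfl

lemma cls_res {n m : ℕ} (h : n ≤ m) (φ : ↥(I ^ n) →ₗ[R] M) :
    cls I M m (res I M h φ) = cls I M n φ := by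
  have hw := colimit.w (LocCoh.transformDiagram I) ((homOfLE h).op.op : op (op n) ⟶ op (op m))
  have hw2 := congrArg (fun t => (t.app (ModuleCat.of R M)).hom (ModuleCat.ofHom φ)) hw
  simp only [NatTrans.comp_app, ModuleCat.hom_comp, LinearMap.comp_apply] at hw2
  rw [cls_def, cls_def, ← hw2]
  rfl

lemma cls_surj (x : LocCoh.DT I M) : ∃ (n : ℕ) (φ : ↥(I ^ n) →ₗ[R] M), cls I M n φ = x := by
  obtain ⟨j, y, hy⟩ := Concrete.isColimit_exists_rep _ (evIsColimit I M) x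
  obtain ⟨⟨n⟩⟩ := j
  exact ⟨n, ModuleCat.Hom.hom y, hy⟩

lemma cls_eq_iff {n m : ℕ} (φ : ↥(I ^ n) →ₗ[R] M) (ψ : ↥(I ^ m) →ₗ[R] M) :
    cls I M n φ = cls I M m ψ ↔
      ∃ (k : ℕ) (h1 : n ≤ k) (h2 : m ≤ k), res I M h1 φ = res I M h2 ψ := by
  constructor
  · intro h
    obtain ⟨j, f, g, hfg⟩ := (Concrete.isColimit_rep_eq_iff_exists
      (LocCoh.transformDiagram I ⋙ (evaluation _ _).obj (ModuleCat.of R M)) (evIsColimit I M)
      (i := op (op n)) (j := op (op m))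
      (ModuleCat.ofHom φ : ModuleCat.of R ↥(I ^ n) ⟶ ModuleCat.of R M)
      (ModuleCat.ofHom ψ : ModuleCat.of R ↥(I ^ m) ⟶ ModuleCat.of R M)).mp h
    obtain ⟨⟨k⟩⟩ := j
    have h1 : n ≤ k := leOfHom f.unop.unop
    have h2 : m ≤ k := leOfHom g.unop.unop
    refine ⟨k, h1, h2, ?_⟩
    have := congrArg ModuleCat.Hom.hom hfg
    exact this
  · rintro ⟨k, h1, h2, h⟩
    rw [← cls_res I M h1 φ, ← cls_res I M h2 ψ, h]

lemma cls_eq_zero_iff {n : ℕ} (φ : ↥(I ^ n) →ₗ[R] M) :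
    cls I M n φ = 0 ↔ ∃ (k : ℕ) (h1 : n ≤ k), res I M h1 φ = 0 := by
  rw [← map_zero (cls I M n), cls_eq_iff]
  constructor
  · rintro ⟨k, h1, h2, h⟩
    exact ⟨k, h1, by rw [h, map_zero]⟩
  · rintro ⟨k, h1, h⟩
    exact ⟨k, h1, h1, by rw [h, map_zero]⟩

/-- Two linear maps out of `D_I(M)` agreeing on all classes are equal. -/
lemma hom_ext {X : Type*} [AddCommGroup X] [Module R X] (f g : LocCoh.DT I M →ₗ[R] X)
    (h : ∀ n φ, f (cls I M n φ) = g (cls I M n φ)) : f = g := by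
  ext x
  obtain ⟨n, φ, rfl⟩ := cls_surj I M x
  exact h n φ

section desc
variable {X : Type u} [AddCommGroup X] [Module R X]
  (g : ∀ n : ℕ, (↥(I ^ n) →ₗ[R] M) →ₗ[R] X)
  (hg : ∀ (n m : ℕ) (h : n ≤ m) (φ : ↥(I ^ n) →ₗ[R] M), g m (res I M h φ) = g n φ)

/-- The cocone built from a compatible family. -/
noncomputable def descCocone :
    Cocone (LocCoh.transformDiagram I ⋙ (evaluation _ _).obj (ModuleCat.of R M)) where
  pt := ModuleCat.of R X
  ι :=
    { app := fun j => ModuleCat.ofHom ((g j.unop.unop) ∘ₗ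
        (ModuleCat.homLinearEquiv (S := R) (M := ModuleCat.of R ↥(I ^ j.unop.unop))
          (N := ModuleCat.of R M)).toLinearMap)
      naturality := by
        intro j j' f
        obtain ⟨⟨n⟩⟩ := j
        obtain ⟨⟨m⟩⟩ := j'
        have h : n ≤ m := leOfHom f.unop.unop
        ext φ
        exact hg n m h (ModuleCat.Hom.hom φ) }

/-- The induced map out of `D_I(M)`. -/
noncomputable def desc : LocCoh.DT I M →ₗ[R] X :=
  ((evIsColimit I M).desc (descCocone I M g hg)).hom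

lemma desc_cls (n : ℕ) (φ : ↥(I ^ n) →ₗ[R] M) : desc I M g hg (cls I M n φ) = g n φ := by
  have h := (evIsColimit I M).fac (descCocone I M g hg) (op (op n))
  have h2 := congrArg (fun t => t.hom (ModuleCat.ofHom φ)) h
  exact h2

end desc

lemma map_cls {M' : Type u} [AddCommGroup M'] [Module R M'] (e : M →ₗ[R] M') (n : ℕ)
    (φ : ↥(I ^ n) →ₗ[R] M) :
    ((LocCoh.idealTransform I).map (ModuleCat.ofHom e)).hom (cls I M n φ) =
      cls I M' n (e ∘ₗ φ) := by
  have h := (colimit.ι (LocCoh.transformDiagram I) (op (op n))).naturality (ModuleCat.ofHom e)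
  have h2 := congrArg (fun t => t.hom (ModuleCat.ofHom φ)) h
  exact h2.symm

/-- The map `a ↦ a • m` on `I^n`. -/
def sm (n : ℕ) : M →ₗ[R] (↥(I ^ n) →ₗ[R] M) := ((LinearMap.lsmul R M).domRestrict (I ^ n)).flip

@[simp] lemma sm_apply (n : ℕ) (m : M) (a : ↥(I ^ n)) : sm I M n m a = (a : R) • m := rfl

lemma toDT_eq_zero (m : M) : LocCoh.toDT I M m = cls I M 0 (sm I M 0 m) := rfl

lemma toDT_eq (n : ℕ) (m : M) : LocCoh.toDT I M m = cls I M n (sm I M n m) := by
  rw [toDT_eq_zero, ← cls_res I M (Nat.zero_le n)]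
  rfl

end Groth.Agent.Lib.helper20.IT
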