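import Mathlib
import Groth.Agent.Lib.helper20.IT

/-!
# Ideal transform: torsion lemmas
-/

universe u
open CategoryTheory CategoryTheory.Limits Opposite

namespace Groth.Agent.Lib.helper20.IT

variable {R : Type u} [CommRing R] (I : Ideal R) (M : Type u) [AddCommGroup M] [Module R M]

lemma res_eq_zero_of_smul {n k : ℕ} (φ : ↥(I ^ n) →ₗ[R] M)
    (h : ∀ a : ↥(I ^ n), ∀ b ∈ I ^ k, b • φ a = 0) :
    res I M (Nat.le_add_right n k) φ = 0 := by
  have key : ∀ c (hc : c ∈ I ^ n * I ^ k), φ ⟨c, Ideal.mul_le_left hc⟩ = 0 := by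
    intro c hc
    refine Submodule.mul_induction_on'
      (C := fun c hc => φ ⟨c, Ideal.mul_le_left hc⟩ = 0) ?_ ?_ hc
    · intro a ha b hb
      have h1 : (⟨a * b, Ideal.mul_le_left (Ideal.mul_mem_mul ha hb)⟩ : ↥(I ^ n)) =
          b • (⟨a, ha⟩ : ↥(I ^ n)) := by
        apply Subtype.ext; simp [mul_comm]
      rw [h1, map_smul]; exact h _ b hb
    · intro x hx y hy h1 h2
      have h3 : (⟨x + y, Ideal.mul_le_left (add_mem hx hy)⟩ : ↥(I ^ n)) =
          ⟨x, Ideal.mul_le_left hx⟩ + ⟨y, Ideal.mul_le_left hy⟩ := rfl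
      rw [h3, map_add, h1, h2, add_zero]
  ext ⟨c, hc⟩
  simp only [res_apply, LinearMap.zero_apply]
  exact key c (by rw [← pow_add]; exact hc)

variable {M} in
lemma exists_pow_of_fg (P : Submodule R M) (hP : P.FG)
    (h : ∀ m ∈ P, ∃ k : ℕ, ∀ b ∈ I ^ k, b • m = 0) :
    ∃ k : ℕ, ∀ m ∈ P, ∀ b ∈ I ^ k, b • m = 0 := by
  classical
  obtain ⟨s, rfl⟩ := hP
  have h' : ∀ m : M, ∃ k : ℕ, m ∈ s → ∀ b ∈ I ^ k, b • m = 0 := by
    intro m
    by_cases hm : m ∈ s
    · obtain ⟨k, hk⟩ := h m (Submodule.subset_span hm)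
      exact ⟨k, fun _ => hk⟩
    · exact ⟨0, fun h => absurd h hm⟩
  choose kf hkf using h'
  refine ⟨s.sup kf, ?_⟩
  intro m hm
  induction hm using Submodule.span_induction with
  | mem x hx =>
    intro b hb
    exact hkf x hx b (Ideal.pow_le_pow_right (Finset.le_sup (f := kf) hx) hb)
  | zero => intro b _; exact smul_zero b
  | add x y _ _ hx hy => intro b hb; rw [smul_add, hx b hb, hy b hb, add_zero]
  | smul a x _ hx => intro b hb; rw [smul_comm, hx b hb, smul_zero]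

lemma cls_eq_zero_of_torsion [IsNoetherianRing R] {n : ℕ} (φ : ↥(I ^ n) →ₗ[R] M)
    (h : ∀ a, ∃ k : ℕ, ∀ b ∈ I ^ k, b • φ a = 0) : cls I M n φ = 0 := by
  have hfg : (LinearMap.range φ).FG := by
    rw [LinearMap.range_eq_map]
    exact Submodule.FG.map φ Module.Finite.fg_top
  obtain ⟨k, hk⟩ := exists_pow_of_fg I (LinearMap.range φ) hfg (by
    rintro _ ⟨a, rfl⟩; exact h a)
  rw [cls_eq_zero_iff]
  exact ⟨n + k, Nat.le_add_right n k,
    res_eq_zero_of_smul I M φ (fun a b hb => hk _ ⟨a, rfl⟩ b hb)⟩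

end Groth.Agent.Lib.helper20.IT
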