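import Mathlib
import Groth.Agent.Lib.helper20.IT2

/-!
# Ideal transform: maps with torsion kernel and cokernel induce bijections
-/

universe u
open CategoryTheory CategoryTheory.Limits Opposite

namespace Groth.Agent.Lib.helper20.IT

variable {R : Type u} [CommRing R] (I : Ideal R) (M : Type u) [AddCommGroup M] [Module R M]

lemma res_res {n m k : ℕ} (h1 : n ≤ m) (h2 : m ≤ k) (φ : ↥(I ^ n) →ₗ[R] M) :
    res I M h2 (res I M h1 φ) = res I M (h1.trans h2) φ := rfl

lemma comp_res {M' : Type u} [AddCommGroup M'] [Module R M'] (e : M →ₗ[R] M') {n m : ℕ}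
    (h : n ≤ m) (φ : ↥(I ^ n) →ₗ[R] M) : e ∘ₗ res I M h φ = res I M' h (e ∘ₗ φ) := rfl

lemma mem_torsionSub_iff (m : M) :
    m ∈ DRing.torsionSub I M ↔ ∃ n : ℕ, ∀ a ∈ I ^ n, a • m = 0 := Iff.rfl

lemma exists_factor {A B C : Type*} [AddCommGroup A] [AddCommGroup B] [AddCommGroup C]
    [Module R A] [Module R B] [Module R C] (f : A →ₗ[R] B) (hf : Function.Surjective f)
    (g : A →ₗ[R] C) (h : LinearMap.ker f ≤ LinearMap.ker g) :
    ∃ φ : B →ₗ[R] C, ∀ a, φ (f a) = g a := by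
  refine ⟨(LinearMap.ker f).liftQ g h ∘ₗ (f.quotKerEquivOfSurjective hf).symm.toLinearMap, ?_⟩
  intro a
  simp [LinearMap.quotKerEquivOfSurjective_symm_apply]

/-- injectivity -/
lemma map_injective_of_ker_le [IsNoetherianRing R] {M' : Type u} [AddCommGroup M'] [Module R M']
    (e : M →ₗ[R] M') (hker : LinearMap.ker e ≤ DRing.torsionSub I M) :
    Function.Injective ((LocCoh.idealTransform I).map (ModuleCat.ofHom e)).hom := by
  rw [← LinearMap.ker_eq_bot, LinearMap.ker_eq_bot']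
  intro x hx
  obtain ⟨n, φ, rfl⟩ := cls_surj I M x
  rw [map_cls, cls_eq_zero_iff] at hx
  obtain ⟨k, h1, hk⟩ := hx
  rw [← cls_res I M h1 φ]
  apply cls_eq_zero_of_torsion
  intro a
  have h2 : res I M h1 φ a ∈ LinearMap.ker e := by
    rw [LinearMap.mem_ker]
    exact LinearMap.congr_fun hk a
  exact (mem_torsionSub_iff I M _).mp (hker h2)

/-- representatives with values in a submodule with torsion quotient -/
lemma exists_codRestrict [IsNoetherianRing R] (N : Submodule R M)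
    (hN : LocCoh.IsPowerTorsion I (M ⧸ N)) {n : ℕ} (ψ : ↥(I ^ n) →ₗ[R] M) :
    ∃ (k : ℕ) (h : n ≤ k) (φ : ↥(I ^ k) →ₗ[R] N), N.subtype ∘ₗ φ = res I M h ψ := by
  have h0 : cls I (M ⧸ N) n (N.mkQ ∘ₗ ψ) = 0 :=
    cls_eq_zero_of_torsion I (M ⧸ N) _ (fun a => hN _)
  rw [cls_eq_zero_iff] at h0
  obtain ⟨k, h1, hk⟩ := h0
  have hmem : ∀ c, res I M h1 ψ c ∈ N := by
    intro c
    have := LinearMap.congr_fun hk c
    rw [← Submodule.Quotient.mk_eq_zero N]
    exact this
  exact ⟨k, h1, LinearMap.codRestrict N (res I M h1 ψ) hmem, rfl⟩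

/-- lifting representatives along a surjection with torsion kernel (Artin–Rees) -/
lemma exists_lift [IsNoetherianRing R] {M'' : Type u} [AddCommGroup M''] [Module R M'']
    (q : M →ₗ[R] M'') (hq : Function.Surjective q)
    (hker : LinearMap.ker q ≤ DRing.torsionSub I M) {n : ℕ} (ψ : ↥(I ^ n) →ₗ[R] M'') :
    ∃ (k : ℕ) (h : n ≤ k) (φ : ↥(I ^ k) →ₗ[R] M), q ∘ₗ φ = res I M'' h ψ := by
  obtain ⟨r, π, hπ⟩ := Module.Finite.exists_fin' R ↥(I ^ n)
  obtain ⟨μ, hμ⟩ := Module.projective_lifting_property q (ψ ∘ₗ π) hq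
  set K := LinearMap.ker π with hK
  have hKfg : (Submodule.map μ K).FG := Submodule.FG.map μ (IsNoetherian.noetherian K)
  obtain ⟨m, hm⟩ := exists_pow_of_fg I (Submodule.map μ K) hKfg (by
    rintro _ ⟨z, hz, rfl⟩
    refine (mem_torsionSub_iff I M _).mp (hker ?_)
    rw [LinearMap.mem_ker]
    have := LinearMap.congr_fun hμ z
    simp only [LinearMap.comp_apply] at this
    rw [this, LinearMap.mem_ker.mp hz, map_zero])
  obtain ⟨c, hc⟩ := Ideal.exists_pow_inf_eq_pow_smul I K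
  -- the stage
  set k := c + m with hk
  let G : Submodule R (Fin r → R) := I ^ k • ⊤
  let Q : Submodule R ↥(I ^ n) := I ^ k • ⊤
  have hGQ : ∀ z ∈ G, π z ∈ Q := by
    intro z hz
    have : Submodule.map π G = Q := by
      show Submodule.map π (I ^ k • ⊤) = I ^ k • ⊤
      rw [Submodule.map_smul'', Submodule.map_top, LinearMap.range_eq_top.mpr hπ]
    rw [← this]; exact Submodule.mem_map_of_mem hz
  let π' : G →ₗ[R] Q := π.restrict hGQ
  have hπ' : Function.Surjective π' := by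
    rintro ⟨y, hy⟩
    have : Submodule.map π G = Q := by
      show Submodule.map π (I ^ k • ⊤) = I ^ k • ⊤
      rw [Submodule.map_smul'', Submodule.map_top, LinearMap.range_eq_top.mpr hπ]
    rw [← this] at hy
    obtain ⟨z, hz, rfl⟩ := hy
    exact ⟨⟨z, hz⟩, rfl⟩
  let μ' : G →ₗ[R] M := μ.domRestrict G
  have hle : LinearMap.ker π' ≤ LinearMap.ker μ' := by
    rintro ⟨z, hz⟩ hzk
    rw [LinearMap.mem_ker] at hzk ⊢
    have hzK : z ∈ K := by
      rw [hK, LinearMap.mem_ker]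
      have := congrArg Subtype.val hzk
      exact this
    have h1 : z ∈ I ^ k • ⊤ ⊓ K := ⟨hz, hzK⟩
    rw [hc k (by omega)] at h1
    have h2 : z ∈ I ^ m • K := by
      have : k - c = m := by omega
      rw [this] at h1
      exact Submodule.smul_mono le_rfl inf_le_right h1
    have h3 : μ z ∈ Submodule.map μ (I ^ m • K) := Submodule.mem_map_of_mem h2
    rw [Submodule.map_smul''] at h3
    have h4 : I ^ m • Submodule.map μ K ≤ ⊥ := by
      rw [Submodule.smul_le]
      intro b hb x hx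
      rw [Submodule.mem_bot]; exact hm x hx b hb
    exact (Submodule.mem_bot R).mp (h4 h3)
  obtain ⟨φQ, hφQ⟩ := exists_factor π' hπ' μ' hle
  -- inclusion of I^(k+n) into Q
  have hin : ∀ a : ↥(I ^ (n + k)), (⟨a.1, Ideal.pow_le_pow_right (Nat.le_add_right n k) a.2⟩ :
      ↥(I ^ n)) ∈ Q := by
    intro a
    show _ ∈ I ^ k • (⊤ : Submodule R ↥(I ^ n))
    rw [Submodule.mem_smul_top_iff, smul_eq_mul, ← pow_add, add_comm]
    exact a.2
  let inclQ : ↥(I ^ (n + k)) →ₗ[R] Q :=
    LinearMap.codRestrict Q (Submodule.inclusion (Ideal.pow_le_pow_right (Nat.le_add_right n k))) hin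
  refine ⟨n + k, Nat.le_add_right n k, φQ ∘ₗ inclQ, ?_⟩
  ext a
  obtain ⟨z, hz⟩ := hπ' (inclQ a)
  simp only [LinearMap.comp_apply]
  rw [← hz, hφQ]
  have h5 := LinearMap.congr_fun hμ z.1
  simp only [LinearMap.comp_apply] at h5
  show q (μ z.1) = _
  rw [h5]
  have h6 : π z.1 = ⟨a.1, Ideal.pow_le_pow_right (Nat.le_add_right n k) a.2⟩ := by
    have := congrArg Subtype.val hz
    exact this
  rw [h6]
  rfl

/-- the main bijectivity theorem -/
theorem map_bijective [IsNoetherianRing R] {M' : Type u} [AddCommGroup M'] [Module R M']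
    (e : M →ₗ[R] M') (hker : LinearMap.ker e ≤ DRing.torsionSub I M)
    (hcoker : LocCoh.IsPowerTorsion I (M' ⧸ LinearMap.range e)) :
    Function.Bijective ((LocCoh.idealTransform I).map (ModuleCat.ofHom e)).hom := by
  refine ⟨map_injective_of_ker_le I M e hker, ?_⟩
  intro y
  obtain ⟨n, ψ, rfl⟩ := cls_surj I M' y
  obtain ⟨k, h1, φ, hφ⟩ := exists_codRestrict I M' (LinearMap.range e) hcoker ψ
  obtain ⟨k', h2, φ', hφ'⟩ := exists_lift I M e.rangeRestrict e.surjective_rangeRestrict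
    (by rw [LinearMap.ker_rangeRestrict]; exact hker) φ
  refine ⟨cls I M k' φ', ?_⟩
  rw [map_cls]
  have h3 : e ∘ₗ φ' = res I M' (h1.trans h2) ψ := by
    have : e = (LinearMap.range e).subtype ∘ₗ e.rangeRestrict := rfl
    rw [this, LinearMap.comp_assoc, hφ', comp_res, hφ, res_res]
  rw [h3, cls_res]

end Groth.Agent.Lib.helper20.IT
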