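import Mathlib
import Groth.Agent.Lib.helper20.IT3

/-!
# Ideal transform: torsion-freeness of `D_I(M)`, universal property
-/

universe u
open CategoryTheory CategoryTheory.Limits Opposite

namespace Groth.Agent.Lib.helper20.IT

variable {R : Type u} [CommRing R] (I : Ideal R) (M : Type u) [AddCommGroup M] [Module R M]

lemma smul_cls_eq_toDT {n : ℕ} (φ : ↥(I ^ n) →ₗ[R] M) (a : ↥(I ^ n)) :
    (a : R) • cls I M n φ = LocCoh.toDT I M (φ a) := by
  rw [toDT_eq I M n, ← map_smul]
  congr 1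
  ext b
  simp only [LinearMap.smul_apply, sm_apply]
  rw [← map_smul, ← map_smul]
  congr 1
  apply Subtype.ext
  simp [mul_comm]

lemma ker_toDT : LinearMap.ker (LocCoh.toDT I M) = DRing.torsionSub I M := by
  ext m
  rw [LinearMap.mem_ker, toDT_eq_zero, cls_eq_zero_iff]
  constructor
  · rintro ⟨k, h1, h⟩
    refine ⟨k, fun a ha => ?_⟩
    have := LinearMap.congr_fun h ⟨a, ha⟩
    simpa using this
  · rintro ⟨k, hk⟩
    refine ⟨k, Nat.zero_le k, ?_⟩
    ext ⟨a, ha⟩
    simpa using hk a ha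

lemma torsionSub_DT_eq_bot [IsNoetherianRing R] : DRing.torsionSub I (LocCoh.DT I M) = ⊥ := by
  rw [eq_bot_iff]
  intro x hx
  rw [Submodule.mem_bot]
  obtain ⟨k, hk⟩ := (mem_torsionSub_iff I _ x).mp hx
  obtain ⟨n, φ, rfl⟩ := cls_surj I M x
  rw [← cls_res I M (le_max_left n k) φ] at hk ⊢
  apply cls_eq_zero_of_torsion
  intro a
  have h1 : LocCoh.toDT I M (res I M (le_max_left n k) φ a) = 0 := by
    rw [← smul_cls_eq_toDT]
    exact hk _ (Ideal.pow_le_pow_right (le_max_right n k) a.2)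
  have h2 : res I M (le_max_left n k) φ a ∈ DRing.torsionSub I M := by
    rw [← ker_toDT, LinearMap.mem_ker]; exact h1
  exact (mem_torsionSub_iff I M _).mp h2

lemma toDT_natural {K : Type u} [AddCommGroup K] [Module R K] (ψ : M →ₗ[R] K) (m : M) :
    ((LocCoh.idealTransform I).map (ModuleCat.ofHom ψ)).hom (LocCoh.toDT I M m) =
      LocCoh.toDT I K (ψ m) := by
  rw [toDT_eq_zero, map_cls, toDT_eq_zero]
  congr 1
  ext a
  simp

lemma coker_toDT_torsion : LocCoh.IsPowerTorsion I (LocCoh.DT I M ⧸ LinearMap.range (LocCoh.toDT I M)) := by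
  intro q
  obtain ⟨x, rfl⟩ := Submodule.Quotient.mk_surjective _ q
  obtain ⟨n, φ, rfl⟩ := cls_surj I M x
  refine ⟨n, fun a ha => ?_⟩
  rw [← Submodule.Quotient.mk_smul, Submodule.Quotient.mk_eq_zero]
  have := smul_cls_eq_toDT I M φ ⟨a, ha⟩
  exact ⟨_, this.symm⟩

/-- uniqueness of maps to `D_I(K)` -/
lemma ext_of_comp_eq [IsNoetherianRing R] {M' K : Type u} [AddCommGroup M'] [Module R M']
    [AddCommGroup K] [Module R K] (e : M →ₗ[R] M')
    (hcoker : LocCoh.IsPowerTorsion I (M' ⧸ LinearMap.range e))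
    (ψ1 ψ2 : M' →ₗ[R] LocCoh.DT I K) (h : ψ1 ∘ₗ e = ψ2 ∘ₗ e) : ψ1 = ψ2 := by
  ext m'
  rw [← sub_eq_zero, ← LinearMap.sub_apply]
  have h1 : (ψ1 - ψ2) m' ∈ DRing.torsionSub I (LocCoh.DT I K) := by
    obtain ⟨k, hk⟩ := hcoker (Submodule.Quotient.mk m')
    refine ⟨k, fun a ha => ?_⟩
    have h2 := hk a ha
    rw [← Submodule.Quotient.mk_smul, Submodule.Quotient.mk_eq_zero] at h2
    obtain ⟨m, hm⟩ := h2
    rw [← map_smul, ← hm, LinearMap.sub_apply, sub_eq_zero]
    exact LinearMap.congr_fun h m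
  rw [torsionSub_DT_eq_bot] at h1
  exact (Submodule.mem_bot R).mp h1

/-- the canonical extension -/
noncomputable def lift [IsNoetherianRing R] {M' K : Type u} [AddCommGroup M'] [Module R M']
    [AddCommGroup K] [Module R K] (e : M →ₗ[R] M')
    (hker : LinearMap.ker e ≤ DRing.torsionSub I M)
    (hcoker : LocCoh.IsPowerTorsion I (M' ⧸ LinearMap.range e)) (ψ : M →ₗ[R] K) :
    M' →ₗ[R] LocCoh.DT I K :=
  ((LocCoh.idealTransform I).map (ModuleCat.ofHom ψ)).hom ∘ₗ
    (LinearEquiv.ofBijective _ (map_bijective I M e hker hcoker)).symm.toLinearMap ∘ₗ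
      LocCoh.toDT I M'

lemma lift_comp [IsNoetherianRing R] {M' K : Type u} [AddCommGroup M'] [Module R M']
    [AddCommGroup K] [Module R K] (e : M →ₗ[R] M')
    (hker : LinearMap.ker e ≤ DRing.torsionSub I M)
    (hcoker : LocCoh.IsPowerTorsion I (M' ⧸ LinearMap.range e)) (ψ : M →ₗ[R] K) :
    lift I M e hker hcoker ψ ∘ₗ e = LocCoh.toDT I K ∘ₗ ψ := by
  ext m
  simp only [lift, LinearMap.comp_apply, LinearEquiv.coe_coe]
  rw [← toDT_natural I M e m]
  have : (LinearEquiv.ofBijective _ (map_bijective I M e hker hcoker)).symm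
      (((LocCoh.idealTransform I).map (ModuleCat.ofHom e)).hom (LocCoh.toDT I M m)) =
      LocCoh.toDT I M m :=
    (LinearEquiv.ofBijective _ (map_bijective I M e hker hcoker)).symm_apply_apply _
  rw [this, toDT_natural]

lemma lift_bijective [IsNoetherianRing R] {M' K : Type u} [AddCommGroup M'] [Module R M']
    [AddCommGroup K] [Module R K] (e : M →ₗ[R] M')
    (hker : LinearMap.ker e ≤ DRing.torsionSub I M)
    (hcoker : LocCoh.IsPowerTorsion I (M' ⧸ LinearMap.range e)) (ψ : M →ₗ[R] K)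
    (hψ : Function.Bijective ψ) (hη : Function.Bijective (LocCoh.toDT I M')) :
    Function.Bijective (lift I M e hker hcoker ψ) := by
  have h1 : Function.Bijective ((LocCoh.idealTransform I).map (ModuleCat.ofHom ψ)).hom := by
    apply map_bijective
    · rw [LinearMap.ker_eq_bot.mpr hψ.1]; exact bot_le
    · intro q
      obtain ⟨x, rfl⟩ := Submodule.Quotient.mk_surjective _ q
      refine ⟨0, fun a _ => ?_⟩
      rw [← Submodule.Quotient.mk_smul, Submodule.Quotient.mk_eq_zero]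
      rw [LinearMap.range_eq_top.mpr hψ.2]; trivial
  have h2 := (LinearEquiv.ofBijective _ (map_bijective I M e hker hcoker)).symm.bijective
  exact h1.comp (h2.comp hη)

end Groth.Agent.Lib.helper20.IT
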