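import Mathlib
import Groth.Agent.Lib.helper20.RegQuot

/-!
Quotients of a regular local ring by elements linearly independent mod `m²` (helper20).
-/

set_option autoImplicit false

namespace Groth.Agent.Lib.helper20.RegQuot

open IsLocalRing

universe u

/-- linear independence of `f` modulo `m²` (in elementary form). -/
def LI {R : Type u} [CommRing R] [IsLocalRing R] {m : ℕ} (f : Fin m → R) : Prop :=
  ∀ a : Fin m → R, (∑ j, a j * f j) ∈ maximalIdeal R ^ 2 → ∀ j, a j ∈ maximalIdeal R

theorem LI_of_derivations {R : Type u} [CommRing R] [IsLocalRing R] {m : ℕ} (f : Fin m → R)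
    (hf : ∀ i, f i ∈ maximalIdeal R) (D : Fin m → Derivation ℤ R R)
    (hdet : IsUnit (Matrix.det (Matrix.of (fun i j : Fin m => D i (f j))))) : LI f := by
  intro a hsum
  set M : Matrix (Fin m) (Fin m) R := Matrix.of (fun i j : Fin m => D i (f j)) with hM
  have h1 : ∀ i, (M.mulVec a) i ∈ maximalIdeal R := by
    intro i
    have h2 := derivation_sq_mem (D i) (maximalIdeal R) hsum
    rw [map_sum] at h2
    have h3 : ∑ j, D i (a j * f j) = M.mulVec a i + ∑ j, f j * D i (a j) := by
      rw [Matrix.mulVec, dotProduct, ← Finset.sum_add_distrib]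
      apply Finset.sum_congr rfl
      intro j _
      rw [Derivation.leibniz, smul_eq_mul, smul_eq_mul]
      simp only [hM, Matrix.of_apply]
      ring
    rw [h3] at h2
    have h4 : ∑ j, f j * D i (a j) ∈ maximalIdeal R :=
      Ideal.sum_mem _ (fun j _ => Ideal.mul_mem_right _ _ (hf j))
    exact (Ideal.add_mem_iff_left _ h4).mp h2
  have h5 : a = M⁻¹.mulVec (M.mulVec a) := by
    rw [Matrix.mulVec_mulVec, Matrix.nonsing_inv_mul M hdet, Matrix.one_mulVec]
  intro j
  rw [h5]
  simp only [Matrix.mulVec, dotProduct]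
  exact Ideal.sum_mem _ (fun i _ => Ideal.mul_mem_left _ _ (h1 i))

theorem regular_of_LI : ∀ (m : ℕ) (R : Type u) [CommRing R] [IsRegularLocalRing R]
    (f : Fin m → R), (∀ i, f i ∈ maximalIdeal R) → LI f →
    IsRegularLocalRing (R ⧸ Ideal.span (Set.range f)) ∧
      RingTheory.Sequence.IsRegular R (List.ofFn f) := by
  intro m
  induction m with
  | zero =>
    intro R _ _ f _ _
    constructor
    · have h0 : Ideal.span (Set.range f) = ⊥ := by
        rw [Set.range_eq_empty f, Ideal.span_empty]
      exact IsRegularLocalRing.of_ringEquiv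
        ((RingEquiv.quotientBot R).symm.trans (Ideal.quotEquivOfEq h0.symm))
    · rw [List.ofFn_zero]
      exact RingTheory.Sequence.IsRegular.nil R R
  | succ m ih =>
    intro R _ _ f hf hLI
    have hx0 : f 0 ∈ maximalIdeal R := hf 0
    have hx2 : f 0 ∉ maximalIdeal R ^ 2 := by
      intro h
      have := hLI (Pi.single 0 1) (by
        rw [Finset.sum_eq_single 0]
        · simpa using h
        · intro j _ hj; simp [Pi.single_eq_of_ne hj]
        · intro h0; exact absurd (Finset.mem_univ _) h0) 0
      rw [Pi.single_eq_same] at this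
      exact (maximalIdeal.isMaximal R).ne_top ((Ideal.eq_top_iff_one _).mpr this)
    haveI : Nontrivial (R ⧸ Ideal.span {f 0}) :=
      Ideal.Quotient.nontrivial_iff.mpr (Groth.Agent.H5.RegLoc.span_singleton_ne_top hx0)
    haveI : IsLocalRing (R ⧸ Ideal.span {f 0}) :=
      IsLocalRing.of_surjective' (Ideal.Quotient.mk (Ideal.span {f 0}))
        Ideal.Quotient.mk_surjective
    obtain ⟨hreg, -⟩ := Groth.Agent.H5.RegLoc.regular_of_quotient
      (Ideal.Quotient.mk (Ideal.span {f 0})) Ideal.Quotient.mk_surjective (f 0) Ideal.mk_ker hx2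
    haveI := hreg
    haveI := Groth.Agent.H5.RegLoc.isDomain R
    have hne : f 0 ≠ 0 := fun h => hx2 (h ▸ Ideal.zero_mem _)
    have hmax : (maximalIdeal R).map (Ideal.Quotient.mk (Ideal.span {f 0})) =
        maximalIdeal (R ⧸ Ideal.span {f 0}) :=
      Groth.Agent.H5.RegLoc.map_maximalIdeal _ Ideal.Quotient.mk_surjective
    let f' : Fin m → R ⧸ Ideal.span {f 0} := fun i => Ideal.Quotient.mk (Ideal.span {f 0}) (f i.succ)
    have hf' : ∀ i, f' i ∈ maximalIdeal (R ⧸ Ideal.span {f 0}) := by
      intro i; rw [← hmax]; exact Ideal.mem_map_of_mem _ (hf i.succ)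
    have hLI' : LI f' := by
      intro a' hsum j
      obtain ⟨a, ha⟩ : ∃ a : Fin m → R, ∀ j, Ideal.Quotient.mk (Ideal.span {f 0}) (a j) = a' j :=
        ⟨fun j => (Ideal.Quotient.mk_surjective (a' j)).choose,
          fun j => (Ideal.Quotient.mk_surjective (a' j)).choose_spec⟩
      have h1 : ∑ j, a' j * f' j =
          Ideal.Quotient.mk (Ideal.span {f 0}) (∑ j, a j * f j.succ) := by
        rw [map_sum]; apply Finset.sum_congr rfl; intro j _; rw [map_mul, ha]
      rw [h1, ← hmax, ← Ideal.map_pow,
        Ideal.mem_map_iff_of_surjective _ Ideal.Quotient.mk_surjective] at hsum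
      obtain ⟨b, hb, hbe⟩ := hsum
      rw [Ideal.Quotient.eq, Ideal.mem_span_singleton'] at hbe
      obtain ⟨c, hc⟩ := hbe
      have h2 := hLI (Fin.cons c a) (by
        rw [Fin.sum_univ_succ]
        simp only [Fin.cons_zero, Fin.cons_succ]
        rw [hc]; simpa using hb) j.succ
      rw [Fin.cons_succ] at h2
      rw [← ha j, ← hmax]
      exact Ideal.mem_map_of_mem _ h2
    obtain ⟨hreg', hseq'⟩ := ih (R ⧸ Ideal.span {f 0}) f' hf' hLI'
    constructor
    · have e1 : Ideal.span (Set.range f') =
          (Ideal.span (Set.range (fun i : Fin m => f i.succ))).map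
            (Ideal.Quotient.mk (Ideal.span {f 0})) := by
        rw [Ideal.map_span, ← Set.range_comp]; rfl
      have e2 : Ideal.span {f 0} ⊔ Ideal.span (Set.range (fun i : Fin m => f i.succ)) =
          Ideal.span (Set.range f) := by
        apply le_antisymm
        · rw [sup_le_iff]
          constructor
          · rw [Ideal.span_singleton_le_iff_mem]; exact Ideal.subset_span ⟨0, rfl⟩
          · apply Ideal.span_mono; rintro _ ⟨j, rfl⟩; exact ⟨j.succ, rfl⟩
        · rw [Ideal.span_le]
          rintro _ ⟨i, rfl⟩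
          refine Fin.cases ?_ (fun j => ?_) i
          · exact Submodule.mem_sup_left (Ideal.mem_span_singleton_self _)
          · exact Submodule.mem_sup_right (Ideal.subset_span ⟨j, rfl⟩)
      exact IsRegularLocalRing.of_ringEquiv
        (((Ideal.quotEquivOfEq e1).trans (DoubleQuot.quotQuotEquivQuotSup _ _)).trans
          (Ideal.quotEquivOfEq e2))
    · rw [List.ofFn_succ, RingTheory.Sequence.isRegular_cons_iff']
      refine ⟨(IsRegular.of_ne_zero hne).left.isSMulRegular, ?_⟩
      rw [Groth.Agent.H5.RegLoc.isRegular_quotSMulTop_iff, List.map_ofFn]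
      exact hseq'

end Groth.Agent.Lib.helper20.RegQuot
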