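import Mathlib
import Groth.Agent.Lib.helper20.RegQuot2
import Groth.Agent.Lib.helper5.RegLoc3

/-!
Regular local rings and partial regular systems of parameters: the converse direction (helper20).
-/

set_option autoImplicit false

namespace Groth.Agent.Lib.helper20.RegQuot

open IsLocalRing

universe u

/-- `A` Noetherian local, `f i ∈ m`, `A/(f)` regular with `dim A/(f) + r = dim A` ⇒ `A` regular and
the `f i` are independent mod `m²`. -/
theorem regular_and_LI_of_quotient {A : Type u} [CommRing A] [IsLocalRing A] [IsNoetherianRing A]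
    {r : ℕ} (f : Fin r → A) (hf : ∀ i, f i ∈ maximalIdeal A)
    [hreg : IsRegularLocalRing (A ⧸ Ideal.span (Set.range f))]
    (hdim : ringKrullDim (A ⧸ Ideal.span (Set.range f)) + r = ringKrullDim A) :
    IsRegularLocalRing A ∧ LI f := by
  classical
  set J := Ideal.span (Set.range f) with hJ
  obtain ⟨d, hd⟩ := Groth.Agent.H5.RegLoc.exists_nat_dim A
  obtain ⟨e, he⟩ := Groth.Agent.H5.RegLoc.exists_nat_dim (A ⧸ J)
  rw [hd, he] at hdim
  have hder : e + r = d := by exact_mod_cast hdim
  have hse : (maximalIdeal (A ⧸ J)).spanFinrank = e :=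
    Groth.Agent.H5.RegLoc.spanFinrank_eq_of_dim he
  obtain ⟨t, ht1, ht2⟩ := Groth.Agent.H5.RegLoc.exists_lift_gens (Ideal.Quotient.mk J)
    Ideal.Quotient.mk_surjective
  rw [Ideal.mk_ker] at ht2
  have hrange : (Set.range f).ncard ≤ r := by
    rw [← Set.image_univ]
    refine le_trans (Set.ncard_image_le Set.finite_univ) ?_
    simp [Set.ncard_univ]
  -- A is regular
  have hA : IsRegularLocalRing A := by
    apply IsRegularLocalRing.of_spanFinrank_maximalIdeal_le
    rw [hd]
    have h1 : (maximalIdeal A).spanFinrank ≤ d := by
      rw [ht2, hJ, ← Ideal.span_union]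
      have hfin : ((t : Set A) ∪ Set.range f).Finite :=
        t.finite_toSet.union (Set.finite_range f)
      refine le_trans (Submodule.spanFinrank_span_le_ncard_of_finite hfin) ?_
      refine le_trans (Set.ncard_union_le _ _) ?_
      rw [Set.ncard_coe_finset]
      omega
    exact_mod_cast h1
  refine ⟨hA, ?_⟩
  have hsd : (maximalIdeal A).spanFinrank = d := Groth.Agent.H5.RegLoc.spanFinrank_eq_of_dim hd
  -- independence
  intro a hsum j0
  by_contra hj0
  have hu : IsUnit (a j0) := by
    by_contra h
    exact hj0 ((IsLocalRing.mem_maximalIdeal _).mpr h)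
  obtain ⟨u, hu1⟩ := hu.exists_left_inv
  set s0 : Finset A := t ∪ (Finset.univ.erase j0).image f with hs0
  have hcard : s0.card ≤ e + (r - 1) := by
    refine le_trans (Finset.card_union_le _ _) ?_
    have h1 : ((Finset.univ.erase j0).image f).card ≤ r - 1 := by
      refine le_trans Finset.card_image_le ?_
      rw [Finset.card_erase_of_mem (Finset.mem_univ _), Finset.card_univ, Fintype.card_fin]
    omega
  have hr1 : 1 ≤ r := by
    have := j0.2; omega
  have hfj : ∀ j, f j ∈ Ideal.span (s0 : Set A) ⊔ maximalIdeal A • maximalIdeal A := by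
    intro j
    by_cases hj : j = j0
    · subst hj
      have h1 : f j = u * (∑ i, a i * f i) - ∑ i ∈ Finset.univ.erase j, u * a i * f i := by
        rw [← Finset.add_sum_erase Finset.univ (fun i => a i * f i) (Finset.mem_univ j),
          mul_add, ← mul_assoc, hu1, one_mul, Finset.mul_sum]
        simp only [mul_assoc]
        ring
      rw [h1]
      apply Ideal.sub_mem
      · apply Submodule.mem_sup_right
        rw [smul_eq_mul, ← pow_two]
        exact Ideal.mul_mem_left _ _ hsum
      · apply Submodule.mem_sup_left
        apply Ideal.sum_mem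
        intro i hi
        apply Ideal.mul_mem_left
        apply Ideal.subset_span
        rw [hs0, Finset.coe_union]
        exact Or.inr (Finset.mem_coe.mpr (Finset.mem_image_of_mem f hi))
    · apply Submodule.mem_sup_left
      apply Ideal.subset_span
      rw [hs0, Finset.coe_union]
      refine Or.inr (Finset.mem_coe.mpr (Finset.mem_image_of_mem f ?_))
      exact Finset.mem_erase.mpr ⟨hj, Finset.mem_univ _⟩
  have hle : maximalIdeal A ≤ Ideal.span (s0 : Set A) := by
    apply Submodule.le_of_le_smul_of_le_jacobson_bot (maximalIdeal A).fg_of_isNoetherianRing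
      (IsLocalRing.jacobson_eq_maximalIdeal _ bot_ne_top).ge
    conv_lhs => rw [ht2]
    rw [sup_le_iff]
    constructor
    · refine le_trans (Ideal.span_mono ?_) le_sup_left
      rw [hs0, Finset.coe_union]
      exact Set.subset_union_left
    · rw [hJ, Ideal.span_le]
      rintro _ ⟨j, rfl⟩
      exact hfj j
  have hle' : Ideal.span (s0 : Set A) ≤ maximalIdeal A := by
    rw [Ideal.span_le]
    intro y hy
    rw [hs0, Finset.coe_union] at hy
    rcases hy with hy | hy
    · rw [ht2]; exact Submodule.mem_sup_left (Ideal.subset_span hy)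
    · obtain ⟨i, -, rfl⟩ := Finset.mem_image.mp (Finset.mem_coe.mp hy)
      exact hf i
  have hfin : (maximalIdeal A).spanFinrank ≤ s0.card := by
    rw [le_antisymm hle hle']
    refine le_trans (Submodule.spanFinrank_span_le_ncard_of_finite s0.finite_toSet) ?_
    rw [Set.ncard_coe_finset]
  omega

/-- elementary independence mod `m²` is linear independence in the cotangent space. -/
theorem LI_iff_linearIndependent {A : Type u} [CommRing A] [IsLocalRing A] {r : ℕ}
    (x : Fin r → maximalIdeal A) :
    LI (fun i => (x i : A)) ↔
      LinearIndependent (ResidueField A) (fun i => (maximalIdeal A).toCotangent (x i)) := by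
  have key : ∀ a : Fin r → A,
      (∑ j, a j * (x j : A)) ∈ maximalIdeal A ^ 2 ↔
        ∑ j, (residue A (a j)) • (maximalIdeal A).toCotangent (x j) = 0 := by
    intro a
    have h1 : ∑ j, (residue A (a j)) • (maximalIdeal A).toCotangent (x j) =
        (maximalIdeal A).toCotangent (∑ j, a j • x j) := by
      rw [map_sum]
      apply Finset.sum_congr rfl
      intro j _
      rw [map_smul]
      rfl
    rw [h1, Ideal.toCotangent_eq_zero]
    have h2 : ((∑ j, a j • x j : maximalIdeal A) : A) = ∑ j, a j * (x j : A) := by
      rw [Submodule.coe_sum]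
      rfl
    rw [h2]
  constructor
  · intro hLI
    rw [Fintype.linearIndependent_iff]
    intro g hg i
    obtain ⟨a, ha⟩ : ∃ a : Fin r → A, ∀ j, residue A (a j) = g j :=
      ⟨fun j => (IsLocalRing.residue_surjective (g j)).choose,
        fun j => (IsLocalRing.residue_surjective (g j)).choose_spec⟩
    have h3 : ∑ j, (residue A (a j)) • (maximalIdeal A).toCotangent (x j) = 0 := by
      rw [← hg]
      apply Finset.sum_congr rfl
      intro j _
      rw [ha]
    have h4 := hLI a ((key a).mpr h3) i
    rw [← ha i]
    exact (IsLocalRing.residue_eq_zero_iff _).mpr h4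
  · intro hlin a hsum j
    rw [Fintype.linearIndependent_iff] at hlin
    have h3 := hlin (fun j => residue A (a j)) ((key a).mp hsum) j
    exact (IsLocalRing.residue_eq_zero_iff _).mp h3

end Groth.Agent.Lib.helper20.RegQuot
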