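import Mathlib
import Groth.Agent.Lib.helper20.RegQuot4
import Groth.Agent.Lib.helper5.RegLoc3
import Groth.Agent.Lib.helper6.RegIdeal
import Groth.Agent.S0543

/-!
Flat local extensions with `m_R S = m_S` of regular local rings are regular; adic completion of a
regular ring is regular (helper20).
-/

set_option autoImplicit false

namespace Groth.Agent.Lib.helper20.RegQuot

open IsLocalRing

universe u

/-- `R` regular local, `S` Noetherian local flat over `R` with `m_R S = m_S` ⇒ `S` regular. -/
theorem regular_of_flat_of_map_maximalIdeal (R S : Type u) [CommRing R] [IsRegularLocalRing R]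
    [CommRing S] [IsLocalRing S] [IsNoetherianRing S] [Algebra R S] [Module.Flat R S]
    (h : (maximalIdeal R).map (algebraMap R S) = maximalIdeal S) : IsRegularLocalRing S := by
  obtain ⟨d, hd⟩ := Groth.Agent.H5.RegLoc.exists_nat_dim R
  have hsf := Groth.Agent.H5.RegLoc.spanFinrank_eq_of_dim hd
  obtain ⟨x, hx⟩ := Groth.Agent.H5.RegLoc.exists_fin_generators R d hsf
  have hreg := Groth.Agent.H5.RegLoc.isRegular_of_generators d R hd x hx
  set rs : List S := (List.ofFn x).map (algebraMap R S) with hrs
  have hw : RingTheory.Sequence.IsWeaklyRegular S rs :=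
    RingTheory.Sequence.IsWeaklyRegular.of_flat hreg.toIsWeaklyRegular
  have hset : {r | r ∈ List.ofFn x} = Set.range x := by
    ext y; simp only [Set.mem_setOf_eq, List.mem_ofFn, Set.mem_range]
  have hof : Ideal.ofList rs = maximalIdeal S := by
    rw [hrs, ← Ideal.map_ofList, ← h, ← hx]
    show Ideal.map _ (Ideal.span {r | r ∈ List.ofFn x}) = _
    rw [hset]
  have hmem : ∀ r ∈ rs, r ∈ maximalIdeal S := by
    intro r hr
    rw [← hof]
    exact Ideal.subset_span hr
  have hreg' : RingTheory.Sequence.IsRegular S rs :=
    (IsLocalRing.isRegular_iff_isWeaklyRegular_of_subset_maximalIdeal hmem).mpr hw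
  letI : Field (S ⧸ maximalIdeal S) := Ideal.Quotient.field _
  haveI : IsRegularLocalRing (S ⧸ maximalIdeal S) := inferInstance
  haveI : IsRegularLocalRing (S ⧸ Ideal.ofList rs) :=
    IsRegularLocalRing.of_ringEquiv (Ideal.quotEquivOfEq hof.symm)
  exact Groth.Agent.Lib.helper6.RegIdeal.regular_of_quotient_regularSeq rs.length S rs rfl hreg'
    inferInstance

/-- The `J`-adic completion of a regular ring is regular. -/
theorem isRegularRing_adicCompletion (A : Type u) [CommRing A] [IsRegularRing A] (J : Ideal A) :
    IsRegularRing (AdicCompletion J A) := by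
  haveI : IsNoetherianRing (AdicCompletion J A) := Groth.Agent.S0543.result A J
  have hJ : J.FG := (isNoetherianRing_iff_ideal_fg A).mp inferInstance J
  apply isRegularRing_of_maximal
  intro M hM
  have hcomp := AdicCompletion.isAdicComplete_self J hJ
  have hJM : J.map (algebraMap A (AdicCompletion J A)) ≤ M :=
    (IsAdicComplete.le_jacobson_bot _).trans (sInf_le ⟨bot_le, hM⟩)
  set m : Ideal A := M.under A with hm
  have hJm : J ≤ m := by
    intro x hx
    show algebraMap A (AdicCompletion J A) x ∈ M
    exact hJM (Ideal.mem_map_of_mem _ hx)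
  have hmM : m.map (algebraMap A (AdicCompletion J A)) = M := by
    apply le_antisymm
    · exact Ideal.map_comap_le
    · intro b hb
      obtain ⟨a, ha⟩ := Ideal.Quotient.mk_surjective (AdicCompletion.evalOneₐ J b)
      have h1 : b - algebraMap A (AdicCompletion J A) a ∈
          RingHom.ker (AdicCompletion.evalOneₐ J).toRingHom := by
        rw [RingHom.mem_ker]
        show (AdicCompletion.evalOneₐ J) (b - algebraMap A (AdicCompletion J A) a) = 0
        rw [map_sub, AlgHom.commutes, ← ha]
        exact sub_self _
      rw [AdicCompletion.ker_evalOneₐ_eq_map J hJ] at h1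
      have h2 : algebraMap A (AdicCompletion J A) a ∈ M := by
        have := M.sub_mem hb (hJM h1)
        simpa using this
      have h3 : a ∈ m := h2
      have h4 : b = algebraMap A (AdicCompletion J A) a +
          (b - algebraMap A (AdicCompletion J A) a) := by ring
      rw [h4]
      exact Ideal.add_mem _ (Ideal.mem_map_of_mem _ h3) (Ideal.map_mono hJm h1)
  letI := Localization.AtPrime.algebraOfLiesOver m M
  apply regular_of_flat_of_map_maximalIdeal (Localization.AtPrime m) (Localization.AtPrime M)
  rw [← Localization.AtPrime.map_eq_maximalIdeal, ← Localization.AtPrime.map_eq_maximalIdeal,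
    Ideal.map_map, ← IsScalarTower.algebraMap_eq,
    IsScalarTower.algebraMap_eq A (AdicCompletion J A) (Localization.AtPrime M), ← Ideal.map_map,
    hmM]

end Groth.Agent.Lib.helper20.RegQuot
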