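import Mathlib

/-!
# Adic precompleteness for sums of ideals (helper20)

`isPrecomplete_sup`: precomplete w.r.t. `I₁` and `I₂` implies precomplete w.r.t. `I₁ ⊔ I₂`.
`isPrecomplete_span_singleton`: `J`-adically complete and `f ∈ J` implies `(f)`-adically precomplete.
`isPrecomplete_span_finset`.
-/

set_option autoImplicit false

namespace Groth.Agent.Lib.helper20.AdicSup

variable {R : Type*} [CommRing R] {M : Type*} [AddCommGroup M] [Module R M]

theorem partialSum_cauchy (I : Ideal R) (u : ℕ → M)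
    (hu : ∀ c, u c ∈ (I ^ c • ⊤ : Submodule R M)) {m n : ℕ} (hmn : m ≤ n) :
    (∑ c ∈ Finset.range m, u c) ≡ (∑ c ∈ Finset.range n, u c)
      [SMOD (I ^ m • ⊤ : Submodule R M)] := by
  rw [SModEq.sub_mem]
  have e : (∑ c ∈ Finset.range m, u c) - (∑ c ∈ Finset.range n, u c) =
      - ∑ c ∈ Finset.Ico m n, u c := by
    rw [Finset.sum_Ico_eq_sub _ hmn]; abel
  rw [e]
  refine Submodule.neg_mem _ (Submodule.sum_mem _ fun c hc => ?_)
  rw [Finset.mem_Ico] at hc
  exact Submodule.smul_mono_left (Ideal.pow_le_pow_right hc.1) (hu c)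

theorem isPrecomplete_sup (I₁ I₂ : Ideal R) (h₁ : IsPrecomplete I₁ M) (h₂ : IsPrecomplete I₂ M) :
    IsPrecomplete (I₁ ⊔ I₂) M := by
  refine ⟨fun x hx => ?_⟩
  have hx' : ∀ m n, m ≤ n → x n - x m ∈ ((I₁ ⊔ I₂) ^ m • ⊤ : Submodule R M) := fun m n h =>
    SModEq.sub_mem.mp (hx h).symm
  have hdec : ∀ n, ∃ u ∈ (I₁ ^ n • ⊤ : Submodule R M), ∃ v ∈ (I₂ ^ n • ⊤ : Submodule R M),
      x (2 * (n + 1)) - x (2 * n) = u + v := by
    intro n
    have h1 := hx' (2 * n) (2 * (n + 1)) (by omega)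
    have h2 : ((I₁ ⊔ I₂) ^ (2 * n) • ⊤ : Submodule R M) ≤ I₁ ^ n • ⊤ ⊔ I₂ ^ n • ⊤ := by
      rw [← Submodule.sup_smul, two_mul]
      exact Submodule.smul_mono_left Ideal.sup_pow_add_le_pow_sup_pow
    obtain ⟨u, hu, v, hv, huv⟩ := Submodule.mem_sup.mp (h2 h1)
    exact ⟨u, hu, v, hv, huv.symm⟩
  choose u hu v hv huv using hdec
  obtain ⟨A, hA⟩ := h₁.prec (f := fun N => ∑ c ∈ Finset.range N, u c)
    (fun hmn => partialSum_cauchy I₁ u hu hmn)
  obtain ⟨B, hB⟩ := h₂.prec (f := fun N => ∑ c ∈ Finset.range N, v c)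
    (fun hmn => partialSum_cauchy I₂ v hv hmn)
  have htel : ∀ n, x (2 * n) =
      x 0 + ∑ c ∈ Finset.range n, u c + ∑ c ∈ Finset.range n, v c := by
    intro n
    induction n with
    | zero => simp
    | succ n ih =>
      have e : x (2 * (n + 1)) = x (2 * n) + (u n + v n) := by rw [← huv n]; abel
      rw [Finset.sum_range_succ, Finset.sum_range_succ, e, ih]; abel
  refine ⟨x 0 + A + B, fun m => ?_⟩
  rw [SModEq.sub_mem]
  have hAm : (∑ c ∈ Finset.range m, u c) - A ∈ (I₁ ^ m • ⊤ : Submodule R M) :=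
    SModEq.sub_mem.mp (hA m)
  have hBm : (∑ c ∈ Finset.range m, v c) - B ∈ (I₂ ^ m • ⊤ : Submodule R M) :=
    SModEq.sub_mem.mp (hB m)
  have hle1 : (I₁ ^ m • ⊤ : Submodule R M) ≤ (I₁ ⊔ I₂) ^ m • ⊤ :=
    Submodule.smul_mono_left (Ideal.pow_right_mono le_sup_left m)
  have hle2 : (I₂ ^ m • ⊤ : Submodule R M) ≤ (I₁ ⊔ I₂) ^ m • ⊤ :=
    Submodule.smul_mono_left (Ideal.pow_right_mono le_sup_right m)
  have h3 := hx' m (2 * m) (by omega)
  have e : x m - (x 0 + A + B) = -(x (2 * m) - x m) + ((∑ c ∈ Finset.range m, u c) - A) +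
      ((∑ c ∈ Finset.range m, v c) - B) := by
    rw [htel m]; abel
  rw [e]
  exact Submodule.add_mem _ (Submodule.add_mem _ (Submodule.neg_mem _ h3) (hle1 hAm)) (hle2 hBm)

theorem isPrecomplete_span_singleton (J : Ideal R) [IsAdicComplete J M] (f : R) (hf : f ∈ J) :
    IsPrecomplete (Ideal.span {f}) M := by
  refine ⟨fun x hx => ?_⟩
  have hstep : ∀ n, ∃ z : M, x (n + 1) - x n = f ^ n • z := by
    intro n
    have h := SModEq.sub_mem.mp (hx (Nat.le_succ n)).symm
    rw [Ideal.span_singleton_pow, Submodule.ideal_span_singleton_smul] at h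
    obtain ⟨z, -, hz⟩ := (Submodule.mem_smul_pointwise_iff_exists _ _ _).mp h
    exact ⟨z, hz.symm⟩
  choose z hz using hstep
  have htel : ∀ n, x n = x 0 + ∑ c ∈ Finset.range n, f ^ c • z c := by
    intro n
    induction n with
    | zero => simp
    | succ n ih =>
      rw [Finset.sum_range_succ, ← add_assoc, ← ih, ← hz n]; abel
  have hterm : ∀ n c, f ^ c • z (n + c) ∈ (J ^ c • ⊤ : Submodule R M) := fun n c =>
    Submodule.smul_mem_smul (Ideal.pow_mem_pow hf c) Submodule.mem_top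
  have hw : ∀ n, ∃ w : M, ∀ N,
      (∑ c ∈ Finset.range N, f ^ c • z (n + c)) - w ∈ (J ^ N • ⊤ : Submodule R M) := by
    intro n
    obtain ⟨w, hw⟩ := (IsAdicComplete.toIsPrecomplete (I := J) (M := M)).prec
      (f := fun N => ∑ c ∈ Finset.range N, f ^ c • z (n + c))
      (fun hmn => partialSum_cauchy J _ (hterm n) hmn)
    exact ⟨w, fun N => SModEq.sub_mem.mp (hw N)⟩
  choose w hw using hw
  refine ⟨x 0 + w 0, fun n => ?_⟩
  have key : x 0 + w 0 - x n = f ^ n • w n := by
    rw [← sub_eq_zero]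
    apply IsHausdorff.haus (IsAdicComplete.toIsHausdorff (I := J) (M := M))
    intro N
    rw [SModEq.sub_mem, sub_zero]
    have e : x 0 + w 0 - x n - f ^ n • w n =
        -((∑ c ∈ Finset.range (n + N), f ^ c • z (0 + c)) - w 0) +
          f ^ n • ((∑ c ∈ Finset.range N, f ^ c • z (n + c)) - w n) := by
      rw [htel n, Finset.sum_range_add, smul_sub, Finset.smul_sum]
      simp only [zero_add, smul_smul, ← pow_add]
      abel
    rw [e]
    refine Submodule.add_mem _ (Submodule.neg_mem _ ?_) (Submodule.smul_mem _ _ (hw n N))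
    exact Submodule.smul_mono_left (Ideal.pow_le_pow_right (Nat.le_add_left N n)) (hw 0 (n + N))
  rw [SModEq.sub_mem]
  have e2 : x n - (x 0 + w 0) = -(f ^ n • w n) := by rw [← key]; abel
  rw [e2]
  exact Submodule.neg_mem _ (Submodule.smul_mem_smul
    (Ideal.pow_mem_pow (Ideal.mem_span_singleton_self f) n) Submodule.mem_top)

theorem isPrecomplete_span_finset (s : Finset R)
    (h : ∀ a ∈ s, IsPrecomplete (Ideal.span {a}) M) :
    IsPrecomplete (Ideal.span (s : Set R)) M := by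
  classical
  induction s using Finset.induction_on with
  | empty =>
    rw [Finset.coe_empty, Ideal.span_empty]
    infer_instance
  | insert a s _ ih =>
    rw [Finset.coe_insert, Ideal.span_insert]
    exact isPrecomplete_sup _ _ (h a (Finset.mem_insert_self a s))
      (ih fun b hb => h b (Finset.mem_insert_of_mem hb))

end Groth.Agent.Lib.helper20.AdicSup
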