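import Mathlib

/-!
# Lengths of `M[t]` and `M/tM` (helper20), part 1: the six-term sequence

For an exact sequence `0 → M' → M → M'' → 0` and `t : A`, the snake lemma gives
`0 → M'[t] → M[t] → M''[t] → M'/tM' → M/tM → M''/tM'' → 0`, hence an identity of lengths
(valid in `ℕ∞` without any finiteness assumption).
-/

set_option autoImplicit false
universe u

namespace Groth.Agent.Lib.helper20.OneDim

open Pointwise

variable {A : Type u} [CommRing A]

section Length

variable {X Y Z : Type*} [AddCommGroup X] [Module A X] [AddCommGroup Y] [Module A Y]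
  [AddCommGroup Z] [Module A Z]

theorem length_eq_range_add (f : X →ₗ[A] Y) (g : Y →ₗ[A] Z) (h : Function.Exact f g) :
    Module.length A Y = Module.length A (LinearMap.range f) + Module.length A (LinearMap.range g) :=
  Module.length_eq_add_of_exact (LinearMap.range f).subtype g.rangeRestrict
    (Submodule.injective_subtype _) g.surjective_rangeRestrict
    (by rw [LinearMap.exact_iff, LinearMap.ker_rangeRestrict, Submodule.range_subtype]
        exact LinearMap.exact_iff.mp h)

theorem length_range_of_injective (f : X →ₗ[A] Y) (hf : Function.Injective f) :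
    Module.length A (LinearMap.range f) = Module.length A X :=
  (LinearEquiv.ofInjective f hf).length_eq.symm

theorem length_range_of_surjective (g : Y →ₗ[A] Z) (hg : Function.Surjective g) :
    Module.length A (LinearMap.range g) = Module.length A Z := by
  rw [LinearMap.range_eq_top.mpr hg, Module.length_top]

end Length

section Six

variable (t : A)

/-- the `t`-torsion `M[t]` -/
abbrev tk (M : Type*) [AddCommGroup M] [Module A M] : Submodule A M :=
  LinearMap.ker (t • (LinearMap.id : M →ₗ[A] M))

theorem mem_tk {M : Type*} [AddCommGroup M] [Module A M] {x : M} : x ∈ tk t M ↔ t • x = 0 := by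
  simp [tk]

/-- the induced map on `t`-torsion -/
def kmap {M N : Type*} [AddCommGroup M] [Module A M] [AddCommGroup N] [Module A N]
    (f : M →ₗ[A] N) : tk t M →ₗ[A] tk t N :=
  f.restrict (fun x hx => by
    rw [mem_tk] at hx ⊢
    rw [← map_smul, hx, map_zero])

@[simp] theorem kmap_apply {M N : Type*} [AddCommGroup M] [Module A M] [AddCommGroup N] [Module A N]
    (f : M →ₗ[A] N) (x : tk t M) : (kmap t f x : N) = f x := rfl

theorem exact_smul_mkQ (M : Type*) [AddCommGroup M] [Module A M] :
    Function.Exact (t • (LinearMap.id : M →ₗ[A] M)) (t • (⊤ : Submodule A M)).mkQ := by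
  rw [LinearMap.exact_iff, Submodule.ker_mkQ]
  ext x
  simp [Submodule.mem_smul_pointwise_iff_exists]

variable {M' M M'' : Type*} [AddCommGroup M'] [Module A M'] [AddCommGroup M] [Module A M]
  [AddCommGroup M''] [Module A M'']
  (i : M' →ₗ[A] M) (p : M →ₗ[A] M'') (hi : Function.Injective i) (hp : Function.Surjective p)
  (hex : Function.Exact i p)

include hi hp hex in
/-- The length identity from the six-term exact sequence. -/
theorem six_term :
    Module.length A (tk t M') + Module.length A (tk t M'') + Module.length A (QuotSMulTop t M) =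
      Module.length A (tk t M) + Module.length A (QuotSMulTop t M') +
        Module.length A (QuotSMulTop t M'') := by
  have h₁ : i.comp (t • (LinearMap.id : M' →ₗ[A] M')) = (t • (LinearMap.id : M →ₗ[A] M)).comp i := by
    ext x; simp
  have h₂ : p.comp (t • (LinearMap.id : M →ₗ[A] M)) = (t • (LinearMap.id : M'' →ₗ[A] M'')).comp p := by
    ext x; simp
  have hι₃ : Function.Exact (tk t M'').subtype (t • (LinearMap.id : M'' →ₗ[A] M'')) :=
    LinearMap.exact_subtype_ker_map _
  have hι₂ : Function.Exact (tk t M).subtype (t • (LinearMap.id : M →ₗ[A] M)) :=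
    LinearMap.exact_subtype_ker_map _
  have hπ₁ := exact_smul_mkQ t M'
  have hπ₂ := exact_smul_mkQ t M
  let δ : tk t M'' →ₗ[A] QuotSMulTop t M' :=
    SnakeLemma.δ' (t • (LinearMap.id : M' →ₗ[A] M')) (t • (LinearMap.id : M →ₗ[A] M))
      (t • (LinearMap.id : M'' →ₗ[A] M'')) i p hex i p hex h₁ h₂ (tk t M'').subtype hι₃
      (t • (⊤ : Submodule A M')).mkQ hπ₁ hp hi
  have e3 : Function.Exact (kmap t p) δ :=
    SnakeLemma.exact_δ'_right (t • (LinearMap.id : M' →ₗ[A] M')) (t • (LinearMap.id : M →ₗ[A] M))
      (t • (LinearMap.id : M'' →ₗ[A] M'')) i p hex i p hex h₁ h₂ (tk t M).subtype hι₂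
      (tk t M'').subtype hι₃ (t • (⊤ : Submodule A M')).mkQ hπ₁ hp hi (kmap t p)
      (by ext x; rfl) (Submodule.injective_subtype _)
  have e4 : Function.Exact δ (QuotSMulTop.map t i) :=
    SnakeLemma.exact_δ'_left (t • (LinearMap.id : M' →ₗ[A] M')) (t • (LinearMap.id : M →ₗ[A] M))
      (t • (LinearMap.id : M'' →ₗ[A] M'')) i p hex i p hex h₁ h₂
      (tk t M'').subtype hι₃ (t • (⊤ : Submodule A M')).mkQ hπ₁
      (t • (⊤ : Submodule A M)).mkQ hπ₂ hp hi (QuotSMulTop.map t i)
      (by ext x; rfl) (Submodule.mkQ_surjective _)
  have e1 : Function.Injective (kmap t i) := by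
    intro x y hxy
    apply Subtype.ext
    apply hi
    have := congrArg Subtype.val hxy
    simpa using this
  have e2 : Function.Exact (kmap t i) (kmap t p) := by
    intro x
    constructor
    · intro hx
      have hx' : p (x : M) = 0 := by
        have := congrArg Subtype.val hx
        simpa using this
      obtain ⟨y, hy⟩ := (hex (x : M)).mp hx'
      have hty : t • y = 0 := by
        apply hi
        rw [map_smul, hy, map_zero]
        exact (mem_tk t).mp x.2
      exact ⟨⟨y, (mem_tk t).mpr hty⟩, Subtype.ext hy⟩
    · rintro ⟨y, rfl⟩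
      apply Subtype.ext
      simp only [kmap_apply, ZeroMemClass.coe_zero]
      exact (hex _).mpr ⟨y, rfl⟩
  have e5 : Function.Exact (QuotSMulTop.map t i) (QuotSMulTop.map t p) :=
    QuotSMulTop.map_exact t hex hp
  have e6 : Function.Surjective (QuotSMulTop.map t p) := QuotSMulTop.map_surjective t hp
  have l1 := length_range_of_injective (kmap t i) e1
  have l2 := length_eq_range_add (kmap t i) (kmap t p) e2
  have l3 := length_eq_range_add (kmap t p) δ e3
  have l4 := length_eq_range_add δ (QuotSMulTop.map t i) e4
  have l5 := length_eq_range_add (QuotSMulTop.map t i) (QuotSMulTop.map t p) e5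
  have l6 := length_range_of_surjective (QuotSMulTop.map t p) e6
  rw [l2, l3, l4, l5, ← l1, ← l6]
  ring

end Six

end Groth.Agent.Lib.helper20.OneDim
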