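import Mathlib
import Groth.Agent.Lib.helper20.OneDim1

/-!
# Lengths of `M[t]` and `M/tM` (helper20), part 2: finiteness and the torsion-free quotient
-/

set_option autoImplicit false
universe u

namespace Groth.Agent.Lib.helper20.OneDim

open Pointwise

variable {A : Type u} [CommRing A]

theorem isArtinianRing_quotient_of_nonZeroDivisor [IsNoetherianRing A] [Ring.KrullDimLE 1 A]
    {t : A} (ht : t ∈ nonZeroDivisors A) : IsArtinianRing (A ⧸ Ideal.span {t}) := by
  rw [isArtinianRing_iff_krullDimLE_zero, Ring.KrullDimLE, Order.krullDimLE_iff,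
    ← ENat.WithBot.add_le_add_one_right_iff, Nat.cast_zero, zero_add]
  exact (ringKrullDim_quotient_succ_le_of_nonZeroDivisor ht).trans (Order.KrullDimLE.krullDim_le)

/-- A finite module killed by `t` with `A/tA` Artinian has finite length. -/
theorem isFiniteLength_of_smul_eq_zero [IsNoetherianRing A] (t : A)
    [IsArtinianRing (A ⧸ Ideal.span {t})] (N : Type*) [AddCommGroup N] [Module A N]
    [Module.Finite A N] (h : ∀ x : N, t • x = 0) : IsFiniteLength A N := by
  rw [isFiniteLength_iff_isNoetherian_isArtinian]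
  refine ⟨inferInstance, ?_⟩
  have htors : Module.IsTorsionBySet A N (Ideal.span {t} : Set A) := by
    rw [Module.isTorsionBySet_span_singleton_iff]
    intro x
    exact h x
  letI := htors.module
  haveI : IsScalarTower A (A ⧸ Ideal.span {t}) N := htors.isScalarTower
  haveI : Module.Finite (A ⧸ Ideal.span {t}) N := Module.Finite.of_restrictScalars_finite A _ _
  haveI : IsArtinian (A ⧸ Ideal.span {t}) N := inferInstance
  exact isArtinian_of_surjective_algebraMap (R := A ⧸ Ideal.span {t}) Ideal.Quotient.mk_surjective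

section

variable [IsNoetherianRing A] (t : A) [IsArtinianRing (A ⧸ Ideal.span {t})]
  (N : Type*) [AddCommGroup N] [Module A N] [Module.Finite A N]

theorem isFiniteLength_tk : IsFiniteLength A (tk t N) :=
  isFiniteLength_of_smul_eq_zero t _ (fun x => Subtype.ext ((mem_tk t).mp x.2))

theorem isFiniteLength_quot : IsFiniteLength A (QuotSMulTop t N) := by
  refine isFiniteLength_of_smul_eq_zero t _ (fun x => ?_)
  obtain ⟨y, rfl⟩ := Submodule.mkQ_surjective _ x
  rw [← map_smul]
  exact (Submodule.Quotient.mk_eq_zero _).mpr (Submodule.smul_mem_pointwise_smul y t ⊤ trivial)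

theorem length_tk_ne_top : Module.length A (tk t N) ≠ ⊤ :=
  Module.length_ne_top_iff.mpr (isFiniteLength_tk t N)

theorem length_quot_ne_top : Module.length A (QuotSMulTop t N) ≠ ⊤ :=
  Module.length_ne_top_iff.mpr (isFiniteLength_quot t N)

end

/-- For a module of finite length, `M[t]` and `M/tM` have the same length. -/
theorem length_tk_eq_length_quot (t : A) (N : Type*) [AddCommGroup N] [Module A N]
    (h : Module.length A N ≠ ⊤) : Module.length A (tk t N) = Module.length A (QuotSMulTop t N) := by
  have l1 := length_eq_range_add (tk t N).subtype (t • (LinearMap.id : N →ₗ[A] N))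
    (LinearMap.exact_subtype_ker_map _)
  have l2 := length_eq_range_add (t • (LinearMap.id : N →ₗ[A] N)) (t • (⊤ : Submodule A N)).mkQ
    (exact_smul_mkQ t N)
  rw [length_range_of_injective _ (Submodule.injective_subtype _)] at l1
  rw [length_range_of_surjective _ (Submodule.mkQ_surjective _)] at l2
  have hr : Module.length A (LinearMap.range (t • (LinearMap.id : N →ₗ[A] N))) ≠ ⊤ := by
    intro htop
    rw [htop, add_top] at l1
    exact h l1
  have h3 : Module.length A (tk t N) +
      Module.length A (LinearMap.range (t • (LinearMap.id : N →ₗ[A] N))) =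
      Module.length A (QuotSMulTop t N) +
      Module.length A (LinearMap.range (t • (LinearMap.id : N →ₗ[A] N))) := by
    rw [← l1, add_comm, ← l2]
  exact ENat.add_left_injective_of_ne_top hr h3

/-- the `t`-power torsion stabilizes, and the quotient has no `t`-torsion -/
theorem exists_tk_quotient_eq_bot [IsNoetherianRing A] (t : A) (M : Type*) [AddCommGroup M]
    [Module A M] [Module.Finite A M] : ∃ n : ℕ, tk t (M ⧸ tk (t ^ n) M) = ⊥ := by
  let f : ℕ →o Submodule A M :=
    ⟨fun n => tk (t ^ n) M, fun m n hmn x hx => by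
      rw [mem_tk] at hx ⊢
      obtain ⟨k, rfl⟩ := Nat.exists_eq_add_of_le hmn
      rw [pow_add, mul_comm, mul_smul, hx, smul_zero]⟩
  obtain ⟨n, hn⟩ := monotone_stabilizes_iff_noetherian.mpr (inferInstance : IsNoetherian A M) f
  refine ⟨n, ?_⟩
  rw [eq_bot_iff]
  intro x hx
  obtain ⟨y, rfl⟩ := Submodule.mkQ_surjective _ x
  rw [mem_tk, ← map_smul] at hx
  have h1 : t • y ∈ tk (t ^ n) M := (Submodule.Quotient.mk_eq_zero _).mp hx
  have h2 : y ∈ tk (t ^ (n + 1)) M := by
    rw [mem_tk] at h1 ⊢
    rw [pow_succ, mul_smul]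
    exact h1
  have h3 : y ∈ tk (t ^ n) M := by
    have := hn (n + 1) (Nat.le_succ n)
    change tk (t ^ n) M = tk (t ^ (n + 1)) M at this
    rw [this]
    exact h2
  rw [Submodule.mem_bot]
  exact (Submodule.Quotient.mk_eq_zero _).mpr h3

/-- The key formula `l(M/tM) = l(M[t]) + l(M''/tM'')` with `M'' = M/M[t^n]` without `t`-torsion. -/
theorem exists_length_quot_eq [IsNoetherianRing A] (t : A)
    (hart : ∀ n : ℕ, IsArtinianRing (A ⧸ Ideal.span {t ^ n}))
    (M : Type*) [AddCommGroup M] [Module A M] [Module.Finite A M] :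
    ∃ n : ℕ, tk t (M ⧸ tk (t ^ n) M) = ⊥ ∧ IsFiniteLength A (tk (t ^ n) M) ∧
      Module.length A (QuotSMulTop t M) =
        Module.length A (tk t M) + Module.length A (QuotSMulTop t (M ⧸ tk (t ^ n) M)) := by
  obtain ⟨n, hn⟩ := exists_tk_quotient_eq_bot t M
  haveI := hart n
  haveI : IsArtinianRing (A ⧸ Ideal.span {t}) := by
    have := hart 1
    rwa [pow_one] at this
  have hT : IsFiniteLength A (tk (t ^ n) M) := isFiniteLength_tk (t ^ n) M
  refine ⟨n, hn, hT, ?_⟩
  have h6 := six_term t (tk (t ^ n) M).subtype (tk (t ^ n) M).mkQ (Submodule.injective_subtype _)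
    (Submodule.mkQ_surjective _) (LinearMap.exact_subtype_mkQ _)
  have h0 : Module.length A (tk t (M ⧸ tk (t ^ n) M)) = 0 := by
    rw [hn]
    exact Module.length_eq_zero
  have hTT := length_tk_eq_length_quot t (tk (t ^ n) M) (Module.length_ne_top_iff.mpr hT)
  rw [h0, add_zero, hTT] at h6
  have hfin : Module.length A (QuotSMulTop t (tk (t ^ n) M)) ≠ ⊤ := length_quot_ne_top t _
  have h7 : Module.length A (QuotSMulTop t M) + Module.length A (QuotSMulTop t (tk (t ^ n) M)) =
      (Module.length A (tk t M) + Module.length A (QuotSMulTop t (M ⧸ tk (t ^ n) M))) +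
        Module.length A (QuotSMulTop t (tk (t ^ n) M)) := by
    rw [add_comm, h6]
    ring
  exact ENat.add_left_injective_of_ne_top hfin h7

end Groth.Agent.Lib.helper20.OneDim
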