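import Mathlib
import Groth.Agent.Lib.helper20.OneDim2

/-!
# Lengths of `M[t]` and `M/tM` (helper20), part 3: modules generically free of rank `n`
-/

set_option autoImplicit false
universe u

namespace Groth.Agent.Lib.helper20.OneDim

open Pointwise

variable {A : Type u} [CommRing A]

theorem length_quot_pi (t : A) (n : ℕ) :
    Module.length A (QuotSMulTop t (Fin n → A)) = n * Module.length A (A ⧸ Ideal.span {t}) := by
  have e1 : QuotSMulTop t (Fin n → A) ≃ₗ[A] (Fin n → A ⧸ Ideal.span {t}) :=
    (QuotSMulTop.equivQuotTensor t (Fin n → A)).trans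
      (TensorProduct.piScalarRight A A (A ⧸ Ideal.span {t}) (Fin n))
  rw [e1.length_eq, Module.length_pi_of_fintype]
  simp

theorem tk_pi_eq_bot {t : A} (ht : t ∈ nonZeroDivisors A) (n : ℕ) : tk t (Fin n → A) = ⊥ := by
  rw [eq_bot_iff]
  intro x hx
  rw [mem_tk] at hx
  rw [Submodule.mem_bot]
  funext j
  have := congrFun hx j
  simp only [Pi.smul_apply, smul_eq_mul, Pi.zero_apply] at this
  exact (mul_left_mem_nonZeroDivisors_eq_zero_iff ht).mp this

/-- A finite module whose localization at `S ≤ A⁰` is free of rank `n` contains a copy of `A^n`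
with cokernel killed by an element of `S`. -/
theorem exists_injective_pi_of_free (S : Submonoid A) (hS : S ≤ nonZeroDivisors A)
    (M : Type*) [AddCommGroup M] [Module A M] [Module.Finite A M] (n : ℕ)
    (e : LocalizedModule S M ≃ₗ[Localization S] (Fin n → Localization S)) :
    ∃ φ : (Fin n → A) →ₗ[A] M, Function.Injective φ ∧
      ∃ w ∈ S, ∀ q : M ⧸ LinearMap.range φ, w • q = 0 := by
  classical
  set ι := LocalizedModule.mkLinearMap S M with hι
  let b : Fin n → LocalizedModule S M := fun j => e.symm (fun j' => if j = j' then 1 else 0)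
  have hb : ∀ j, ∃ (m : M) (s : S), s • b j = ι m := fun j => by
    obtain ⟨⟨m, s⟩, h⟩ := IsLocalizedModule.surj S ι (b j)
    exact ⟨m, s, h⟩
  choose m s hms using hb
  let φ : (Fin n → A) →ₗ[A] M := Fintype.linearCombination A m
  have hsymm : ∀ c : Fin n → Localization S, e.symm c = ∑ j, c j • b j := fun c =>
    LinearMap.pi_apply_eq_sum_univ e.symm.toLinearMap c
  have hφ : ∀ a : Fin n → A,
      ι (φ a) = e.symm (fun j => algebraMap A (Localization S) (a j * (s j : A))) := by
    intro a
    rw [hsymm]
    simp only [φ, Fintype.linearCombination_apply, map_sum, map_smul]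
    refine Finset.sum_congr rfl (fun j _ => ?_)
    rw [← hms j, algebraMap_smul, mul_smul]
    rfl
  have hinj : Function.Injective φ := by
    rw [injective_iff_map_eq_zero]
    intro a ha
    have h1 : e.symm (fun j => algebraMap A (Localization S) (a j * (s j : A))) = 0 := by
      rw [← hφ, ha, map_zero]
    have h2 := e.symm.map_eq_zero_iff.mp h1
    funext j
    have h3 : algebraMap A (Localization S) (a j * (s j : A)) = 0 := congrFun h2 j
    rw [IsLocalization.map_eq_zero_iff S] at h3
    obtain ⟨u, hu⟩ := h3
    have h4 : a j * (s j : A) = 0 := (mul_left_mem_nonZeroDivisors_eq_zero_iff (hS u.2)).mp hu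
    exact (mul_right_mem_nonZeroDivisors_eq_zero_iff (hS (s j).2)).mp h4
  refine ⟨φ, hinj, ?_⟩
  -- every element is pushed into the range by some element of `S`
  have hpush : ∀ x : M, ∃ w : S, (w : A) • x ∈ LinearMap.range φ := by
    intro x
    set c := e (ι x) with hc
    obtain ⟨u, hu⟩ := IsLocalization.exist_integer_multiples_of_finite S c
    choose a ha using hu
    let P : A := ∏ k, (s k : A)
    let r : Fin n → A := fun j => ∏ k ∈ Finset.univ.erase j, (s k : A)
    have hP : ∀ j, (s j : A) * r j = P := fun j =>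
      Finset.mul_prod_erase Finset.univ (fun k => (s k : A)) (Finset.mem_univ j)
    have hPS : P ∈ S := Submonoid.prod_mem S (fun k _ => (s k).2)
    have h1 : ι (((u : A) * P) • x) = ι (φ (fun j => a j * r j)) := by
      rw [hφ, map_smul, ← algebraMap_smul (Localization S) ((u : A) * P) (ι x)]
      have h2 : ι x = e.symm c := by rw [hc, e.symm_apply_apply]
      rw [h2, ← map_smul]
      congr 1
      funext j
      have h3 : algebraMap A (Localization S) (a j) = (u : A) • c j := ha j
      rw [Algebra.smul_def] at h3
      have h4 : a j * r j * (s j : A) = a j * P := by rw [mul_assoc, mul_comm (r j), hP j]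
      show algebraMap A (Localization S) ((u : A) * P) * c j =
        algebraMap A (Localization S) (a j * r j * (s j : A))
      rw [h4]
      simp only [map_mul, h3]
      ring
    obtain ⟨v, hv⟩ := IsLocalizedModule.exists_of_eq (S := S) h1
    refine ⟨v * u * ⟨P, hPS⟩, ?_⟩
    refine ⟨(v : A) • (fun j => a j * r j), ?_⟩
    rw [map_smul]
    have : ((v * u * ⟨P, hPS⟩ : S) : A) • x = (v : A) • (((u : A) * P) • x) := by
      simp only [Submonoid.coe_mul, mul_smul]
    rw [this]
    exact hv.symm
  obtain ⟨G, hG⟩ := (Module.Finite.fg_top : (⊤ : Submodule A M).FG)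
  choose w hw using hpush
  refine ⟨∏ g ∈ G, (w g : A), Submonoid.prod_mem S (fun g _ => (w g).2), ?_⟩
  intro q
  obtain ⟨x, rfl⟩ := Submodule.mkQ_surjective _ q
  rw [← map_smul]
  apply (Submodule.Quotient.mk_eq_zero _).mpr
  have hx : x ∈ Submodule.span A (G : Set M) := by rw [hG]; trivial
  induction hx using Submodule.span_induction with
  | mem g hg =>
    rw [← Finset.mul_prod_erase G (fun g => (w g : A)) hg, mul_comm, mul_smul]
    exact Submodule.smul_mem _ _ (hw g)
  | zero => rw [smul_zero]; exact Submodule.zero_mem _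
  | add x y _ _ hx hy => rw [smul_add]; exact Submodule.add_mem _ hx hy
  | smul a x _ hx => rw [smul_comm]; exact Submodule.smul_mem _ _ hx

/-- `l(M/tM) = l(M[t]) + n · l(A/tA)` for `M` generically free of rank `n`. -/
theorem length_quot_eq_of_free [IsNoetherianRing A] [Ring.KrullDimLE 1 A] {t : A}
    (ht : t ∈ nonZeroDivisors A) (M : Type*) [AddCommGroup M] [Module A M] [Module.Finite A M]
    (n : ℕ) (e : LocalizedModule (nonZeroDivisors A) M ≃ₗ[Localization (nonZeroDivisors A)]
      (Fin n → Localization (nonZeroDivisors A))) :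
    Module.length A (QuotSMulTop t M) =
      Module.length A (tk t M) + n * Module.length A (A ⧸ Ideal.span {t}) := by
  obtain ⟨φ, hφ, w, hw, hQ⟩ := exists_injective_pi_of_free (nonZeroDivisors A) le_rfl M n e
  haveI : IsArtinianRing (A ⧸ Ideal.span {w}) := isArtinianRing_quotient_of_nonZeroDivisor hw
  haveI : IsArtinianRing (A ⧸ Ideal.span {t}) := isArtinianRing_quotient_of_nonZeroDivisor ht
  have hQfl : IsFiniteLength A (M ⧸ LinearMap.range φ) := isFiniteLength_of_smul_eq_zero w _ hQ
  have h6 := six_term t φ (LinearMap.range φ).mkQ hφ (Submodule.mkQ_surjective _)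
    (LinearMap.exact_map_mkQ_range φ)
  have h0 : Module.length A (tk t (Fin n → A)) = 0 := by
    rw [tk_pi_eq_bot ht]
    exact Module.length_eq_zero
  have hQQ := length_tk_eq_length_quot t (M ⧸ LinearMap.range φ)
    (Module.length_ne_top_iff.mpr hQfl)
  rw [h0, zero_add, hQQ, length_quot_pi] at h6
  have hfin : Module.length A (QuotSMulTop t (M ⧸ LinearMap.range φ)) ≠ ⊤ :=
    length_quot_ne_top t _
  have h7 : Module.length A (QuotSMulTop t M) +
      Module.length A (QuotSMulTop t (M ⧸ LinearMap.range φ)) =
      (Module.length A (tk t M) + n * Module.length A (A ⧸ Ideal.span {t})) +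
        Module.length A (QuotSMulTop t (M ⧸ LinearMap.range φ)) := by
    rw [add_comm, h6]
  exact ENat.add_left_injective_of_ne_top hfin h7

end Groth.Agent.Lib.helper20.OneDim
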