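import Mathlib
import Groth.Agent.Lib.helper20.OneDim3

/-!
# Lengths of `M[t]` and `M/tM` (helper20), part 4: the multiplicity formula in dimension one

For a Noetherian ring `A` of Krull dimension `≤ 1`, an element `a` outside all minimal primes and a
finite module `M`: `l(M/aM) = l(M[a]) + ∑_{p minimal} l_{A_p}(M_p) · l(A/(p + aA))`.
-/

set_option autoImplicit false
universe u v v₁ v₂ v₃

namespace Groth.Agent.Lib.helper20.OneDim

open Pointwise

variable {A : Type u} [CommRing A]

theorem isArtinianRing_quotient_of_notMem_minimalPrimes [IsNoetherianRing A] [Ring.KrullDimLE 1 A]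
    {a : A} (ha : ∀ p ∈ minimalPrimes A, a ∉ p) : IsArtinianRing (A ⧸ Ideal.span {a}) := by
  rw [isArtinianRing_iff_krullDimLE_zero, Ring.krullDimLE_zero_iff]
  intro I hI
  have hP : (I.comap (Ideal.Quotient.mk (Ideal.span {a}))).IsPrime := Ideal.comap_isPrime _ _
  have haP : a ∈ I.comap (Ideal.Quotient.mk (Ideal.span {a})) := by
    rw [Ideal.mem_comap, Ideal.Quotient.eq_zero_iff_mem.mpr (Ideal.mem_span_singleton_self a)]
    exact I.zero_mem
  rcases Ring.krullDimLE_one_iff.mp ‹_› _ hP with h | h
  · exact absurd haP (ha _ h)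
  · have := Ideal.map_eq_top_or_isMaximal_of_surjective (Ideal.Quotient.mk (Ideal.span {a}))
      Ideal.Quotient.mk_surjective h
    rw [Ideal.map_comap_of_surjective _ Ideal.Quotient.mk_surjective] at this
    exact this.resolve_left hI.ne_top

/-- the length of the localization of `N` at `p`, over `A_p` -/
noncomputable abbrev ll (p : PrimeSpectrum A) (N : Type v) [AddCommGroup N] [Module A N] : ℕ∞ :=
  Module.length (Localization.AtPrime p.asIdeal) (LocalizedModule p.asIdeal.primeCompl N)

section LL

variable {N' : Type v₁} {N : Type v₂} {N'' : Type v₃} [AddCommGroup N'] [Module A N']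
  [AddCommGroup N] [Module A N] [AddCommGroup N''] [Module A N'']

theorem ll_exact (p : PrimeSpectrum A) (i : N' →ₗ[A] N) (π : N →ₗ[A] N'')
    (hi : Function.Injective i) (hp : Function.Surjective π) (hex : Function.Exact i π) :
    ll p N = ll p N' + ll p N'' :=
  Module.length_eq_add_of_exact (LocalizedModule.map p.asIdeal.primeCompl i)
    (LocalizedModule.map p.asIdeal.primeCompl π)
    (LocalizedModule.map_injective _ i hi) (LocalizedModule.map_surjective _ π hp)
    (LocalizedModule.map_exact _ i π hex)

theorem ll_eq_zero_of_forall (p : PrimeSpectrum A) (N : Type v) [AddCommGroup N] [Module A N]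
    (h : ∀ m : N, ∃ r ∈ p.asIdeal.primeCompl, r • m = 0) : ll p N = 0 := by
  haveI : Subsingleton (LocalizedModule p.asIdeal.primeCompl N) :=
    LocalizedModule.subsingleton_iff.mpr h
  exact Module.length_eq_zero

theorem smul_mk_eq (q : Ideal A) (r z : A) :
    r • (Ideal.Quotient.mk q z) = Ideal.Quotient.mk q (r * z) := rfl

theorem ll_quotient_eq_zero (p : PrimeSpectrum A) (q : Ideal A) (h : ¬ q ≤ p.asIdeal) :
    ll p (A ⧸ q) = 0 := by
  obtain ⟨s, hsq, hsp⟩ := SetLike.not_le_iff_exists.mp h
  refine ll_eq_zero_of_forall p _ (fun m => ⟨s, hsp, ?_⟩)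
  obtain ⟨x, rfl⟩ := Ideal.Quotient.mk_surjective m
  rw [smul_mk_eq, Ideal.Quotient.eq_zero_iff_mem]
  exact q.mul_mem_right x hsq

theorem ll_quotient_self (p : PrimeSpectrum A) : ll p (A ⧸ p.asIdeal) = 1 := by
  rw [ll, Module.length_eq_one_iff, isSimpleModule_iff_toSpanSingleton_surjective]
  constructor
  · refine ⟨⟨LocalizedModule.mk (Ideal.Quotient.mk p.asIdeal 1) 1, 0, ?_⟩⟩
    intro h
    rw [← LocalizedModule.zero_mk 1, LocalizedModule.mk_eq] at h
    obtain ⟨u, hu⟩ := h
    simp only [one_smul, smul_zero, Submonoid.smul_def, smul_mk_eq, mul_one] at hu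
    exact u.2 (Ideal.Quotient.eq_zero_iff_mem.mp hu)
  · intro m hm
    induction m using LocalizedModule.induction_on with | _ m s
    obtain ⟨x, rfl⟩ := Ideal.Quotient.mk_surjective m
    have hx : x ∉ p.asIdeal := by
      intro hx
      apply hm
      rw [Ideal.Quotient.eq_zero_iff_mem.mpr hx, LocalizedModule.zero_mk]
    intro y
    induction y using LocalizedModule.induction_on with | _ n s'
    obtain ⟨y, rfl⟩ := Ideal.Quotient.mk_surjective n
    refine ⟨Localization.mk (y * s) (⟨x, hx⟩ * s'), ?_⟩
    rw [LinearMap.toSpanSingleton_apply, LocalizedModule.mk_smul_mk, LocalizedModule.mk_eq]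
    refine ⟨1, ?_⟩
    simp only [one_smul, Submonoid.smul_def, Submonoid.coe_mul, smul_mk_eq]
    congr 1
    ring

end LL

theorem length_quot_quotient (a : A) (q : Ideal A) :
    Module.length A (QuotSMulTop a (A ⧸ q)) = Module.length A (A ⧸ (q ⊔ Ideal.span {a})) := by
  let f : A →ₗ[A] QuotSMulTop a (A ⧸ q) :=
    (a • (⊤ : Submodule A (A ⧸ q))).mkQ ∘ₗ (Submodule.mkQ q)
  have hf : Function.Surjective f :=
    (Submodule.mkQ_surjective _).comp (Submodule.mkQ_surjective _)
  have hk : LinearMap.ker f = q ⊔ Ideal.span {a} := by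
    ext x
    rw [LinearMap.mem_ker, LinearMap.comp_apply, Submodule.mkQ_apply, Submodule.mkQ_apply,
      Submodule.Quotient.mk_eq_zero, Submodule.mem_smul_pointwise_iff_exists]
    constructor
    · rintro ⟨y, -, hy⟩
      obtain ⟨z, rfl⟩ := Submodule.mkQ_surjective q y
      have h1 : x - a * z ∈ q := by
        rw [← Submodule.Quotient.mk_eq_zero q, Submodule.Quotient.mk_sub, ← hy]
        exact sub_eq_zero.mpr rfl
      have h2 : x = (x - a * z) + z * a := by ring
      rw [h2]
      exact Ideal.add_mem _ (Ideal.mem_sup_left h1)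
        (Ideal.mem_sup_right (Ideal.mem_span_singleton'.mpr ⟨z, rfl⟩))
    · intro hx
      obtain ⟨y, hy, z, hz, rfl⟩ := Submodule.mem_sup.mp hx
      obtain ⟨w, rfl⟩ := Ideal.mem_span_singleton'.mp hz
      refine ⟨Submodule.mkQ q w, trivial, ?_⟩
      symm
      rw [← sub_eq_zero]
      change Submodule.Quotient.mk (y + w * a) - Submodule.Quotient.mk (a * w) = 0
      rw [← Submodule.Quotient.mk_sub, Submodule.Quotient.mk_eq_zero]
      have : y + w * a - a * w = y := by ring
      rw [this]
      exact hy
  exact ((Submodule.quotEquivOfEq _ _ hk).symm.trans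
    (LinearMap.quotKerEquivOfSurjective f hf)).length_eq.symm

theorem tk_quotient_eq_bot (a : A) (q : Ideal A) [q.IsPrime] (ha : a ∉ q) :
    tk a (A ⧸ q) = ⊥ := by
  rw [eq_bot_iff]
  intro m hm
  rw [mem_tk] at hm
  obtain ⟨x, rfl⟩ := Ideal.Quotient.mk_surjective m
  rw [smul_mk_eq, Ideal.Quotient.eq_zero_iff_mem] at hm
  rw [Submodule.mem_bot, Ideal.Quotient.eq_zero_iff_mem]
  exact (Ideal.IsPrime.mem_or_mem ‹_› hm).resolve_left ha

section Main

/-- the sum term -/
noncomputable def msum (a : A) (N : Type v) [AddCommGroup N] [Module A N] : ℕ∞ :=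
  ∑ᶠ (p : PrimeSpectrum A) (_ : p.asIdeal ∈ minimalPrimes A),
    ll p N * Module.length A (A ⧸ (p.asIdeal ⊔ Ideal.span {a}))

theorem finite_minimalPrimes_spec [IsNoetherianRing A] :
    {p : PrimeSpectrum A | p.asIdeal ∈ minimalPrimes A}.Finite :=
  (minimalPrimes.finite_of_isNoetherianRing A).preimage
    (fun p _ q _ h => PrimeSpectrum.ext h)

variable (a : A)

variable {N' : Type v₁} {N : Type v₂} {N'' : Type v₃} [AddCommGroup N'] [Module A N']
  [AddCommGroup N] [Module A N] [AddCommGroup N''] [Module A N'']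

theorem msum_exact [IsNoetherianRing A] (i : N' →ₗ[A] N) (π : N →ₗ[A] N'')
    (hi : Function.Injective i) (hp : Function.Surjective π) (hex : Function.Exact i π) :
    msum a N = msum a N' + msum a N'' := by
  unfold msum
  have := finsum_mem_add_distrib (s := {p : PrimeSpectrum A | p.asIdeal ∈ minimalPrimes A})
    (f := fun p => ll p N' * Module.length A (A ⧸ (p.asIdeal ⊔ Ideal.span {a})))
    (g := fun p => ll p N'' * Module.length A (A ⧸ (p.asIdeal ⊔ Ideal.span {a})))
    finite_minimalPrimes_spec
  refine Eq.trans ?_ this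
  refine finsum_congr (fun p => finsum_congr (fun _ => ?_))
  rw [ll_exact p i π hi hp hex, add_mul]

theorem msum_of_subsingleton (N : Type v) [AddCommGroup N] [Module A N] [Subsingleton N] :
    msum a N = 0 := by
  unfold msum
  refine finsum_mem_eq_zero_of_forall_eq_zero
    (s := {p : PrimeSpectrum A | p.asIdeal ∈ minimalPrimes A}) (fun p _ => ?_)
  rw [ll, Module.length_eq_zero, zero_mul]

theorem msum_quotient_minimal (q : PrimeSpectrum A) (hq : q.asIdeal ∈ minimalPrimes A) :
    msum a (A ⧸ q.asIdeal) = Module.length A (A ⧸ (q.asIdeal ⊔ Ideal.span {a})) := by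
  classical
  unfold msum
  rw [finsum_eq_single _ q]
  · rw [finsum_eq_if, if_pos hq, ll_quotient_self, one_mul]
  · intro p hpq
    rw [finsum_eq_if]
    split_ifs with hp
    · rw [ll_quotient_eq_zero p q.asIdeal ?_, zero_mul]
      intro hle
      exact hpq (PrimeSpectrum.ext (le_antisymm (hp.2 hq.1 hle) hle))
    · rfl

theorem msum_quotient_maximal (q : PrimeSpectrum A) (hmax : q.asIdeal.IsMaximal)
    (hq : q.asIdeal ∉ minimalPrimes A) : msum a (A ⧸ q.asIdeal) = 0 := by
  unfold msum
  refine finsum_mem_eq_zero_of_forall_eq_zero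
    (s := {p : PrimeSpectrum A | p.asIdeal ∈ minimalPrimes A}) (fun p hp => ?_)
  rw [ll_quotient_eq_zero p q.asIdeal ?_, zero_mul]
  intro hle
  have : q.asIdeal = p.asIdeal := hmax.eq_of_le p.2.ne_top hle
  exact hq (this ▸ hp)

variable [IsNoetherianRing A] [Ring.KrullDimLE 1 A]

/-- the multiplicity formula as a predicate on modules -/
def Formula (a : A) (N : Type v) [AddCommGroup N] [Module A N] : Prop :=
  Module.length A (QuotSMulTop a N) = Module.length A (tk a N) + msum a N

theorem formula_of_subsingleton (N : Type v) [AddCommGroup N] [Module A N] [Subsingleton N] :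
    Formula a N := by
  rw [Formula, msum_of_subsingleton, Module.length_eq_zero, Module.length_eq_zero, add_zero]

theorem formula_exact {a : A} (ha : ∀ p ∈ minimalPrimes A, a ∉ p)
    [Module.Finite A N'] [Module.Finite A N'']
    (i : N' →ₗ[A] N) (π : N →ₗ[A] N'')
    (hi : Function.Injective i) (hp : Function.Surjective π) (hex : Function.Exact i π)
    (h1 : Formula a N') (h3 : Formula a N'') : Formula a N := by
  haveI := isArtinianRing_quotient_of_notMem_minimalPrimes ha
  have h6 := six_term a i π hi hp hex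
  rw [Formula] at h1 h3 ⊢
  rw [h1, h3] at h6
  rw [msum_exact a i π hi hp hex]
  have hfin : Module.length A (tk a N') + Module.length A (tk a N'') ≠ ⊤ :=
    WithTop.add_ne_top.mpr ⟨length_tk_ne_top a N', length_tk_ne_top a N''⟩
  have h7 : Module.length A (QuotSMulTop a N) +
      (Module.length A (tk a N') + Module.length A (tk a N'')) =
      (Module.length A (tk a N) + (msum a N' + msum a N'')) +
      (Module.length A (tk a N') + Module.length A (tk a N'')) := by
    rw [add_comm, h6]
    ring
  exact ENat.add_left_injective_of_ne_top hfin h7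

theorem formula_quotient {a : A} (ha : ∀ p ∈ minimalPrimes A, a ∉ p) (q : PrimeSpectrum A) :
    Formula a (A ⧸ q.asIdeal) := by
  rw [Formula]
  by_cases hq : q.asIdeal ∈ minimalPrimes A
  · haveI := q.2
    rw [tk_quotient_eq_bot a q.asIdeal (ha _ hq), msum_quotient_minimal a q hq,
      length_quot_quotient, Module.length_bot, zero_add]
  · have hmax : q.asIdeal.IsMaximal := (Ring.krullDimLE_one_iff.mp ‹_› _ q.2).resolve_left hq
    rw [msum_quotient_maximal a q hmax hq, add_zero]
    haveI : IsSimpleModule A (A ⧸ q.asIdeal) :=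
      isSimpleModule_iff_quot_maximal.mpr ⟨q.asIdeal, hmax, ⟨LinearEquiv.refl _ _⟩⟩
    have hfin : Module.length A (A ⧸ q.asIdeal) ≠ ⊤ := by
      rw [Module.length_eq_one]
      exact ENat.one_ne_top
    exact (length_tk_eq_length_quot a _ hfin).symm

/-- **The multiplicity formula.** -/
theorem length_quot_eq_sum {a : A} (ha : ∀ p ∈ minimalPrimes A, a ∉ p) (M : Type v)
    [AddCommGroup M] [Module A M] [Module.Finite A M] : Formula a M := by
  induction ‹Module.Finite A M› using
    IsNoetherianRing.induction_on_isQuotientEquivQuotientPrime A with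
  | subsingleton N => exact formula_of_subsingleton a N
  | quotient N p f =>
    exact formula_exact ha (N'' := PUnit.{v + 1}) f.symm.toLinearMap 0 f.symm.injective
      (Function.surjective_to_subsingleton _)
      ((f.symm.exact_zero_iff_surjective _).2 f.symm.surjective)
      (formula_quotient ha p) (formula_of_subsingleton a _)
  | exact N₁ N₂ N₃ f g hf hg hfg h₁ h₃ =>
    exact formula_exact ha f g hf hg hfg h₁ h₃

end Main

end Groth.Agent.Lib.helper20.OneDim
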