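import Mathlib
import Groth.Agent.Lib.helper20.OneDim4

/-!
# Lengths of `M[t]` and `M/tM` (helper20), part 5: consequences of the multiplicity formula
-/

set_option autoImplicit false
universe u v

namespace Groth.Agent.Lib.helper20.OneDim

open Pointwise

variable {A : Type u} [CommRing A]

theorem krullDimLE_one_of_isArtinianRing_quotient [IsNoetherianRing A] [IsLocalRing A] {t : A}
    (ht : t ∈ IsLocalRing.maximalIdeal A) (hart : IsArtinianRing (A ⧸ Ideal.span {t})) :
    Ring.KrullDimLE 1 A := by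
  rw [Ring.krullDimLE_iff]
  have h1 := ringKrullDim_le_ringKrullDim_quotient_add_encard ({t} : Set A)
    (by
      rw [IsLocalRing.ringJacobson_eq_maximalIdeal]
      intro x hx
      rw [Set.mem_singleton_iff] at hx
      rw [hx]
      exact ht)
  have h2 : ringKrullDim (A ⧸ Ideal.span {t}) ≤ 0 := by
    have : Ring.KrullDimLE 0 (A ⧸ Ideal.span {t}) := by
      rw [← isArtinianRing_iff_krullDimLE_zero]
      exact hart
    exact_mod_cast Ring.krullDimLE_iff.mp this
  rw [Set.encard_singleton] at h1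
  calc ringKrullDim A ≤ ringKrullDim (A ⧸ Ideal.span {t}) + ((1 : ℕ∞) : WithBot ℕ∞) := h1
    _ ≤ 0 + ((1 : ℕ∞) : WithBot ℕ∞) := by gcongr
    _ = ((1 : ℕ) : WithBot ℕ∞) := by simp

theorem notMem_minimalPrimes_of_isArtinianRing_quotient [IsLocalRing A]
    (hdim : 0 < ringKrullDim A) {t : A} (hart : IsArtinianRing (A ⧸ Ideal.span {t})) :
    ∀ p ∈ minimalPrimes A, t ∉ p := by
  intro p hp htp
  have hle : Ideal.span {t} ≤ p := (Ideal.span_singleton_le_iff_mem _).mpr htp
  haveI : IsArtinianRing (A ⧸ p) := (Ideal.Quotient.factor_surjective hle).isArtinianRing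
  haveI : p.IsPrime := hp.1.1
  haveI : IsDomain (A ⧸ p) := Ideal.Quotient.isDomain p
  have hmax : p.IsMaximal :=
    Ideal.Quotient.maximal_of_isField _ (IsArtinianRing.isField_of_isDomain _)
  have h0 : Ring.KrullDimLE 0 A := by
    rw [Ring.krullDimLE_zero_iff_forall_minimalPrimes_isMaximal]
    intro I hI
    have hIp : I ≤ p := by
      rw [IsLocalRing.eq_maximalIdeal hmax]
      exact IsLocalRing.le_maximalIdeal hI.1.1.ne_top
    have : I = p := le_antisymm hIp (hp.2 hI.1 hIp)
    rw [this]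
    exact hmax
  have := Ring.krullDimLE_iff.mp h0
  exact absurd (lt_of_lt_of_le hdim this) (by simp)

/-- minimal primes as a subtype of the prime spectrum -/
abbrev MinSpec (A : Type u) [CommRing A] : Type u :=
  {p : PrimeSpectrum A // p.asIdeal ∈ minimalPrimes A}

/-- the comparison with the set of minimal primes -/
def minSpecEquiv (A : Type u) [CommRing A] : MinSpec A ≃ minimalPrimes A where
  toFun p := ⟨p.1.asIdeal, p.2⟩
  invFun I := ⟨⟨I.1, I.2.1.1⟩, I.2⟩
  left_inv _ := rfl
  right_inv _ := rfl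

instance [IsNoetherianRing A] : Finite (MinSpec A) :=
  (finite_minimalPrimes_spec (A := A)).to_subtype

theorem msum_eq_finsum_subtype (a : A) (N : Type v) [AddCommGroup N] [Module A N] :
    msum a N = ∑ᶠ p : MinSpec A,
      ll p.1 N * Module.length A (A ⧸ (p.1.asIdeal ⊔ Ideal.span {a})) :=
  (finsum_subtype_eq_finsum_cond (fun p : PrimeSpectrum A => p.asIdeal ∈ minimalPrimes A)
    (f := fun p => ll p N * Module.length A (A ⧸ (p.asIdeal ⊔ Ideal.span {a})))).symm

theorem finsum_minimalPrimes_eq (N : Type v) [AddCommGroup N] [Module A N] :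
    (∑ᶠ p : minimalPrimes A,
        haveI : p.1.IsPrime := p.2.1.1
        Module.length (Localization.AtPrime p.1) (LocalizedModule p.1.primeCompl N)) =
      ∑ᶠ p : MinSpec A, ll p.1 N :=
  (finsum_comp_equiv (minSpecEquiv A)
    (f := fun p : minimalPrimes A =>
      haveI : p.1.IsPrime := p.2.1.1
      Module.length (Localization.AtPrime p.1) (LocalizedModule p.1.primeCompl N))).symm

theorem one_le_ll_self (p : PrimeSpectrum A) : 1 ≤ ll p A := by
  rw [Order.one_le_iff_pos, Module.length_pos_iff]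
  by_contra h
  rw [not_nontrivial_iff_subsingleton, LocalizedModule.subsingleton_iff] at h
  obtain ⟨r, hr, h1⟩ := h 1
  rw [smul_eq_mul, mul_one] at h1
  exact hr (h1 ▸ p.asIdeal.zero_mem)

theorem one_le_length_quotient_sup [IsLocalRing A] (p : PrimeSpectrum A) {t : A}
    (ht : t ∈ IsLocalRing.maximalIdeal A) :
    1 ≤ Module.length A (A ⧸ (p.asIdeal ⊔ Ideal.span {t})) := by
  rw [Order.one_le_iff_pos, Module.length_pos_iff, Ideal.Quotient.nontrivial_iff]
  intro h
  have hle : p.asIdeal ⊔ Ideal.span {t} ≤ IsLocalRing.maximalIdeal A :=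
    sup_le (IsLocalRing.le_maximalIdeal p.2.ne_top) ((Ideal.span_singleton_le_iff_mem _).mpr ht)
  rw [h, top_le_iff] at hle
  exact (IsLocalRing.maximalIdeal.isMaximal A).ne_top hle

theorem finsum_ll_le_msum [IsNoetherianRing A] [IsLocalRing A] {t : A}
    (ht : t ∈ IsLocalRing.maximalIdeal A) (N : Type v) [AddCommGroup N] [Module A N] :
    ∑ᶠ p : MinSpec A, ll p.1 N ≤ msum t N := by
  rw [msum_eq_finsum_subtype]
  refine finsum_le_finsum' (Set.toFinite _) (Set.toFinite _) (fun p => ?_)
  calc ll p.1 N = ll p.1 N * 1 := (mul_one _).symm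
    _ ≤ ll p.1 N * Module.length A (A ⧸ (p.1.asIdeal ⊔ Ideal.span {t})) := by
      gcongr
      exact one_le_length_quotient_sup p.1 ht

/-- `∑_p l(M_p) ≤ l(M/tM)` -/
theorem finsum_ll_le_length_quot [IsNoetherianRing A] [IsLocalRing A]
    (hdim : 0 < ringKrullDim A) {t : A} (ht : t ∈ IsLocalRing.maximalIdeal A)
    (hart : IsArtinianRing (A ⧸ Ideal.span {t}))
    (M : Type v) [AddCommGroup M] [Module A M] [Module.Finite A M] :
    ∑ᶠ p : MinSpec A, ll p.1 M ≤ Module.length A (QuotSMulTop t M) := by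
  haveI := krullDimLE_one_of_isArtinianRing_quotient ht hart
  have h := length_quot_eq_sum (notMem_minimalPrimes_of_isArtinianRing_quotient hdim hart) M
  rw [Formula] at h
  rw [h]
  exact (finsum_ll_le_msum ht M).trans le_add_self

theorem ncard_minimalPrimes_eq_finsum [IsNoetherianRing A] :
    (Set.ncard (minimalPrimes A) : ℕ∞) = ∑ᶠ _p : MinSpec A, (1 : ℕ∞) := by
  classical
  letI : Fintype (MinSpec A) := Fintype.ofFinite _
  rw [finsum_eq_sum_of_fintype, Finset.sum_const, Finset.card_univ, nsmul_eq_mul, mul_one,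
    ← Nat.card_coe_set_eq, Nat.card_congr (minSpecEquiv A).symm, Nat.card_eq_fintype_card]

theorem ncard_minimalPrimes_le_msum [IsNoetherianRing A] [IsLocalRing A] {t : A}
    (ht : t ∈ IsLocalRing.maximalIdeal A) :
    (Set.ncard (minimalPrimes A) : ℕ∞) ≤ msum t A := by
  rw [ncard_minimalPrimes_eq_finsum]
  refine le_trans ?_ (finsum_ll_le_msum ht A)
  exact finsum_le_finsum' (Set.toFinite _) (Set.toFinite _) (fun p => one_le_ll_self p.1)

/-- the number of minimal primes is at most `l(A/tA)` -/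
theorem ncard_minimalPrimes_le_length [IsNoetherianRing A] [IsLocalRing A] [Ring.KrullDimLE 1 A]
    {t : A} (ht : t ∈ IsLocalRing.maximalIdeal A) (hmin : ∀ p ∈ minimalPrimes A, t ∉ p) :
    (Set.ncard (minimalPrimes A) : ℕ∞) ≤ Module.length A (A ⧸ Ideal.span {t}) := by
  have h : Ideal.span {t} = t • (⊤ : Ideal A) := by
    simp [← Submodule.ideal_span_singleton_smul]
  rw [h]
  have hf := length_quot_eq_sum hmin A
  rw [Formula] at hf
  change _ ≤ Module.length A (QuotSMulTop t A)
  rw [hf]
  exact (ncard_minimalPrimes_le_msum ht).trans le_add_self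

end Groth.Agent.Lib.helper20.OneDim
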