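import Groth.Prelude.Def_W4c1chowmix47Eta
import Mathlib

/-! Helper library for the `EtaPt` cluster (helper20). -/

set_option autoImplicit false
universe u

namespace Groth.Agent.Lib.helper20.EtaPt

open _root_.EtaPt

variable (η : FieldEndo.{u})

section Basic

variable {K L E : Type u} [Field K] [Field L] [Field E]

theorem map_injective (φ : K →+* L) : Function.Injective (η.map φ) :=
  (η.map φ).injective

theorem map_comp_apply (f : K →+* L) (g : L →+* E) (x : η.obj K) :
    η.map (g.comp f) x = η.map g (η.map f x) := by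
  rw [η.map_comp]; rfl

theorem map_id_apply (x : η.obj K) : η.map (RingHom.id K) x = x := by
  rw [η.map_id]; rfl

theorem eta_natural_apply (f : K →+* L) (x : K) : η.map f (η.eta K x) = η.eta L (f x) :=
  congrArg (fun h => h x) (congrArg DFunLike.coe (η.eta_natural f))

theorem map_bijective_of_bijective (φ : K →+* L) (hφ : Function.Bijective φ) :
    Function.Bijective (η.map φ) := by
  let e : K ≃+* L := RingEquiv.ofBijective φ hφ
  have h1 : ∀ x, η.map (e.symm : L →+* K) (η.map φ x) = x := by
    intro x
    rw [← map_comp_apply]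
    have : (e.symm : L →+* K).comp φ = RingHom.id K := by
      ext y; exact e.symm_apply_apply y
    rw [this, map_id_apply]
  have h2 : ∀ y, η.map φ (η.map (e.symm : L →+* K) y) = y := by
    intro y
    rw [← map_comp_apply]
    have : φ.comp (e.symm : L →+* K) = RingHom.id L := by
      ext y; exact e.apply_symm_apply y
    rw [this, map_id_apply]
  exact ⟨Function.LeftInverse.injective h1, Function.RightInverse.surjective h2⟩

theorem eta_bijective_of_bijective (φ : K →+* L) (hφ : Function.Bijective φ)
    (hK : Function.Bijective (η.eta K)) : Function.Bijective (η.eta L) := by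
  have hm := map_bijective_of_bijective η φ hφ
  have hcomp : (η.eta L : L → η.obj L) ∘ φ = η.map φ ∘ η.eta K := by
    funext x
    exact (eta_natural_apply η φ x).symm
  have hb : Function.Bijective ((η.eta L : L → η.obj L) ∘ φ) := by
    rw [hcomp]; exact hm.comp hK
  exact (Function.Bijective.of_comp_iff _ hφ).mp hb

end Basic

section Nmap

variable {A B C : Type u} [CommRing A] [CommRing B] [CommRing C]

theorem Nmap_apply (f : A →+* B) (x : η.N A) (q : PrimeSpectrum B) :
    η.Nmap f x q = η.map (Ideal.ResidueField.map (PrimeSpectrum.comap f q).asIdeal q.asIdeal f rfl)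
      (x (PrimeSpectrum.comap f q)) := rfl

theorem Nmap_apply' (f : A →+* B) (x : η.N A) (q : PrimeSpectrum B) (P : PrimeSpectrum A)
    (h : P.asIdeal = q.asIdeal.comap f) :
    η.Nmap f x q = η.map (Ideal.ResidueField.map P.asIdeal q.asIdeal f h) (x P) := by
  have : P = PrimeSpectrum.comap f q := PrimeSpectrum.ext h
  subst this
  rfl

theorem t_apply (a : A) (p : PrimeSpectrum A) :
    η.t A a p = η.eta p.asIdeal.ResidueField (algebraMap A p.asIdeal.ResidueField a) := rfl

theorem Nmap_comp (f : A →+* B) (g : B →+* C) (x : η.N A) :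
    η.Nmap (g.comp f) x = η.Nmap g (η.Nmap f x) := by
  funext q
  rw [Nmap_apply η g, Nmap_apply' η f x (PrimeSpectrum.comap g q) (PrimeSpectrum.comap (g.comp f) q) rfl,
    Nmap_apply η (g.comp f), ← map_comp_apply]
  congr 2
  apply Ideal.ResidueField.ringHom_ext
  ext a
  simp only [RingHom.comp_apply, Ideal.ResidueField.map_algebraMap]

theorem Nmap_mem_M (f : A →+* B) {x : η.N A} (hx : x ∈ η.M A) : η.Nmap f x ∈ η.M B := by
  intro R _ _ _ hR g
  rw [← Nmap_comp]
  exact hx R hR (g.comp f)

end Nmap

section Frob

theorem pow_expChar_pow_inj {κ E : Type*} [Field κ] [Field E] (φ : κ →+* E) (n : ℕ) {x y : E}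
    (h : x ^ ringExpChar κ ^ n = y ^ ringExpChar κ ^ n) : x = y := by
  have : ExpChar E (ringExpChar κ) := expChar_of_injective_ringHom φ.injective _
  apply iterateFrobenius_inj E (ringExpChar κ) n
  rw [iterateFrobenius_def, iterateFrobenius_def]
  exact h

theorem ringExpChar_pos (κ : Type*) [Field κ] : 0 < ringExpChar κ := by
  unfold ringExpChar
  exact lt_of_lt_of_le Nat.one_pos (le_max_right _ _)

end Frob

section GenericPoint

variable {R : Type u} [CommRing R] [IsDomain R]

/-- `InV R` transported to the residue field at the generic point. -/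
theorem eta_bijective_residueField_bot (hR : η.InV R) :
    Function.Bijective (η.eta (⊥ : Ideal R).ResidueField) := by
  let e : FractionRing R ≃ₐ[R] (⊥ : Ideal R).ResidueField :=
    FractionRing.algEquiv R (⊥ : Ideal R).ResidueField
  exact eta_bijective_of_bijective η (e : FractionRing R →+* (⊥ : Ideal R).ResidueField)
    e.bijective hR

end GenericPoint

section ValSub

variable {A : Type u} [CommRing A] [IsDomain A]

/-- the fraction field of `A` used throughout: the residue field at the generic point -/
abbrev Kf (A : Type u) [CommRing A] [IsDomain A] : Type u := (⊥ : Ideal A).ResidueField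

/-- the generic point -/
abbrev gen (A : Type u) [CommRing A] [IsDomain A] : PrimeSpectrum A := ⟨⊥, Ideal.isPrime_bot⟩

/-- the structure map `A → V` for a valuation subring of the fraction field containing `A` -/
noncomputable def gV (V : ValuationSubring (Kf A)) (h : ∀ a : A, algebraMap A (Kf A) a ∈ V) :
    A →+* V :=
  (algebraMap A (Kf A)).codRestrict V.toSubring h

theorem gV_coe (V : ValuationSubring (Kf A)) (h : ∀ a : A, algebraMap A (Kf A) a ∈ V) (a : A) :
    ((gV V h a : V) : Kf A) = algebraMap A (Kf A) a := rfl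

theorem gV_injective (V : ValuationSubring (Kf A)) (h : ∀ a : A, algebraMap A (Kf A) a ∈ V) :
    Function.Injective (gV V h) := by
  intro a b hab
  apply IsFractionRing.injective A (Kf A)
  have := congrArg (fun v : V => (v : Kf A)) hab
  exact this

theorem InV_of_valuationSubring {K : Type u} [Field K] (hK : Function.Bijective (η.eta K))
    (V : ValuationSubring K) : η.InV V := by
  let e : K ≃ₐ[V] FractionRing V := (FractionRing.algEquiv V K).symm
  exact eta_bijective_of_bijective η (e : K →+* FractionRing V) e.bijective hK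

/-- every prime of a domain is the centre of a valuation subring of the fraction field -/
theorem exists_valuationSubring_center (p : PrimeSpectrum A) :
    ∃ (V : ValuationSubring (Kf A)) (h : ∀ a : A, algebraMap A (Kf A) a ∈ V),
      (IsLocalRing.maximalIdeal V).comap (gV V h) = p.asIdeal := by
  let Ap := Localization.AtPrime p.asIdeal
  have hunits : ∀ s : p.asIdeal.primeCompl, IsUnit (algebraMap A (Kf A) (s : A)) := by
    intro s
    apply IsUnit.mk0
    intro h0
    have : (s : A) = 0 := IsFractionRing.injective A (Kf A) (by rw [h0, map_zero])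
    exact s.2 (this ▸ p.asIdeal.zero_mem)
  let f : Ap →+* Kf A := IsLocalization.lift (M := p.asIdeal.primeCompl) hunits
  obtain ⟨V, hV, hloc⟩ := IsLocalRing.exists_factor_valuationRing f
  have hA : ∀ a : A, algebraMap A (Kf A) a ∈ V := by
    intro a
    have := hV (algebraMap A Ap a)
    rwa [IsLocalization.lift_eq] at this
  refine ⟨V, hA, ?_⟩
  let f' : Ap →+* V := f.codRestrict V.toSubring hV
  have hloc' : IsLocalHom f' := hloc
  have hg : gV V hA = f'.comp (algebraMap A Ap) := by
    ext a
    show algebraMap A (Kf A) a = f (algebraMap A Ap a)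
    rw [IsLocalization.lift_eq]
  have h5 : (IsLocalRing.maximalIdeal V).comap f' = IsLocalRing.maximalIdeal Ap :=
    ((IsLocalRing.local_hom_TFAE f').out 0 4).mp hloc'
  rw [hg, ← Ideal.comap_comap, h5]
  exact Localization.AtPrime.under_maximalIdeal

end ValSub

section GenericEval

variable {A : Type u} [CommRing A] [IsDomain A]

theorem bot_eq_comap_gV (V : ValuationSubring (Kf A)) (h : ∀ a : A, algebraMap A (Kf A) a ∈ V) :
    (⊥ : Ideal A) = (⊥ : Ideal V).comap (gV V h) :=
  (Ideal.comap_bot_of_injective _ (gV_injective V h)).symm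

/-- the residue field map at the generic points induced by `A → V` -/
noncomputable def rho (V : ValuationSubring (Kf A)) (h : ∀ a : A, algebraMap A (Kf A) a ∈ V) :
    Kf A →+* Kf V :=
  Ideal.ResidueField.map (⊥ : Ideal A) (⊥ : Ideal V) (gV V h) (bot_eq_comap_gV V h)

theorem rho_algebraMap (V : ValuationSubring (Kf A)) (h : ∀ a : A, algebraMap A (Kf A) a ∈ V)
    (a : A) : rho V h (algebraMap A (Kf A) a) = algebraMap V (Kf V) (gV V h a) :=
  Ideal.ResidueField.map_algebraMap _ _ _ _ a

theorem rho_coe (V : ValuationSubring (Kf A)) (h : ∀ a : A, algebraMap A (Kf A) a ∈ V) (v : V) :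
    rho V h (v : Kf A) = algebraMap V (Kf V) v := by
  obtain ⟨a, b, hb, hab⟩ := IsFractionRing.div_surjective (A := A) (v : Kf A)
  have hb0 : algebraMap A (Kf A) b ≠ 0 := by
    intro h0
    have : b = 0 := IsFractionRing.injective A (Kf A) (by rw [h0, map_zero])
    exact (nonZeroDivisors.ne_zero hb) this
  have h1 : (v : Kf A) * algebraMap A (Kf A) b = algebraMap A (Kf A) a := by
    rw [← hab, div_mul_cancel₀ _ hb0]
  have h2 : v * gV V h b = gV V h a := Subtype.ext h1
  have h3 : algebraMap V (Kf V) (gV V h b) ≠ 0 := by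
    intro h0
    have : gV V h b = 0 := IsFractionRing.injective V (Kf V) (by rw [h0, map_zero])
    have : b = 0 := gV_injective V h (by rw [this, map_zero])
    exact (nonZeroDivisors.ne_zero hb) this
  have h4 := congrArg (rho V h) h1
  rw [map_mul, rho_algebraMap, rho_algebraMap, ← h2, map_mul] at h4
  exact mul_right_cancel₀ h3 h4

theorem Nmap_gV_gen (V : ValuationSubring (Kf A)) (h : ∀ a : A, algebraMap A (Kf A) a ∈ V)
    (x : η.N A) : η.Nmap (gV V h) x (gen V) = η.map (rho V h) (x (gen A)) :=
  Nmap_apply' η (gV V h) x (gen V) (gen A) (bot_eq_comap_gV V h)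

theorem generic_eval (V : ValuationSubring (Kf A)) (h : ∀ a : A, algebraMap A (Kf A) a ∈ V)
    (x : η.N A) (r : V) (hr : η.t V r = η.Nmap (gV V h) x) (ℓ : Kf A)
    (hℓ : η.eta (Kf A) ℓ = x (gen A)) : ℓ = (r : Kf A) := by
  have h1 := congrFun hr (gen V)
  rw [Nmap_gV_gen, t_apply, ← hℓ, eta_natural_apply] at h1
  have h2 : algebraMap V (Kf V) r = rho V h ℓ := (η.eta (Kf V)).injective h1
  rw [← rho_coe V h] at h2
  exact ((rho V h).injective h2).symm

end GenericEval

section IntClosed

theorem isIntegrallyClosedIn_range (A K : Type*) [CommRing A] [IsDomain A] [IsIntegrallyClosed A]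
    [Field K] [Algebra A K] [IsFractionRing A K] :
    IsIntegrallyClosedIn (algebraMap A K).range K := by
  rw [Subring.isIntegrallyClosedIn_iff]
  intro x hx
  let S := (algebraMap A K).range
  let _ : Algebra A S := (algebraMap A K).rangeRestrict.toAlgebra
  have : IsScalarTower A S K := IsScalarTower.of_algebraMap_eq (fun a => rfl)
  have : Algebra.IsIntegral A S :=
    Algebra.isIntegral_of_surjective (algebraMap A K).rangeRestrict_surjective
  have hxA : IsIntegral A x := isIntegral_trans x hx
  obtain ⟨a, ha⟩ := IsIntegrallyClosed.algebraMap_eq_of_integral hxA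
  exact ⟨a, ha⟩

/-- an element of the fraction field lying in every valuation subring containing `A` comes from
`A`, when `A` is integrally closed -/
theorem mem_range_of_forall_valuationSubring (A K : Type*) [CommRing A] [IsDomain A]
    [IsIntegrallyClosed A] [Field K] [Algebra A K] [IsFractionRing A K] (x : K)
    (hx : ∀ V : ValuationSubring K, (∀ a : A, algebraMap A K a ∈ V) → x ∈ V) :
    x ∈ (algebraMap A K).range := by
  by_contra hxR
  have := isIntegrallyClosedIn_range A K
  obtain ⟨V, hV, hxV⟩ := Subring.exists_le_valuationSubring_of_isIntegrallyClosedIn hxR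
  exact hxV (hx V fun a => hV ⟨a, rfl⟩)

end IntClosed

section NBij

variable {A B : Type u} [CommRing A] [CommRing B]

open Classical in
/-- the indicator element of `N A` supported at `p` with value `z` -/
noncomputable def single (p : PrimeSpectrum A) (z : η.obj p.asIdeal.ResidueField) : η.N A :=
  fun p' => if h : p' = p then h ▸ z else 0

theorem single_self (p : PrimeSpectrum A) (z : η.obj p.asIdeal.ResidueField) :
    single η p z p = z := by
  simp [single]

theorem single_ne (p p' : PrimeSpectrum A) (z : η.obj p.asIdeal.ResidueField) (h : p' ≠ p) :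
    single η p z p' = 0 := by
  simp [single, h]

theorem comap_surjective_of_Nmap_injective (f : A →+* B)
    (hN : Function.Injective (η.Nmap f)) : Function.Surjective (PrimeSpectrum.comap f) := by
  intro p
  by_contra hne
  push Not at hne
  have h0 : η.Nmap f (single η p 1) = η.Nmap f 0 := by
    funext q
    rw [Nmap_apply, Nmap_apply, single_ne η p _ 1 (hne q)]
    rfl
  have h1 := congrFun (hN h0) p
  rw [single_self] at h1
  exact one_ne_zero h1

theorem map_residue_surjective_of_Nmap_surjective (f : A →+* B)
    (hN : Function.Surjective (η.Nmap f)) (q : PrimeSpectrum B) (P : PrimeSpectrum A)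
    (h : P.asIdeal = q.asIdeal.comap f) :
    Function.Surjective (η.map (Ideal.ResidueField.map P.asIdeal q.asIdeal f h)) := by
  intro z
  obtain ⟨x, hx⟩ := hN (single η q z)
  refine ⟨x P, ?_⟩
  rw [← Nmap_apply' η f x q P h, hx, single_self]

end NBij

section Lift

variable {A B : Type u} [CommRing A] [CommRing B]

/-- lifting along an injective ring hom whose range contains the image -/
theorem exists_ringHom_factor {B R L : Type*} [CommRing B] [CommRing R] [CommRing L]
    (i : R →+* L) (hi : Function.Injective i) (G : B →+* L) (hG : ∀ b, G b ∈ i.range) :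
    ∃ g' : B →+* R, ∀ b, i (g' b) = G b := by
  let e3 : R ≃+* i.range := RingEquiv.ofBijective i.rangeRestrict
    ⟨fun x y h => hi (congrArg Subtype.val h), i.rangeRestrict_surjective⟩
  refine ⟨(e3.symm : i.range →+* R).comp (G.codRestrict i.range hG), fun b => ?_⟩
  have h1 : ∀ y : i.range, i (e3.symm y) = y.1 := by
    intro y
    have : e3 (e3.symm y) = y := e3.apply_symm_apply y
    exact congrArg Subtype.val this
  exact h1 _

theorem exists_lift_valuationRing (f : A →+* B) (hf : f.IsIntegral)
    (hN : Function.Bijective (η.Nmap f))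
    (R : Type u) [CommRing R] [IsDomain R] [ValuationRing R] (hR : η.InV R) (g : A →+* R) :
    ∃ g' : B →+* R, g'.comp f = g := by
  classical
  let L := Kf R
  have hbij : Function.Bijective (η.eta L) := eta_bijective_residueField_bot η hR
  let p : PrimeSpectrum A := PrimeSpectrum.comap g (gen R)
  obtain ⟨q, hq⟩ := comap_surjective_of_Nmap_injective η f hN.1 p
  have hqp : p.asIdeal = q.asIdeal.comap f := by rw [← hq]; rfl
  let ρg : p.asIdeal.ResidueField →+* L :=
    Ideal.ResidueField.map p.asIdeal (⊥ : Ideal R) g rfl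
  let ρf : p.asIdeal.ResidueField →+* q.asIdeal.ResidueField :=
    Ideal.ResidueField.map p.asIdeal q.asIdeal f hqp
  have hρf : Function.Bijective (η.map ρf) :=
    ⟨(η.map ρf).injective, map_residue_surjective_of_Nmap_surjective η f hN.2 q p hqp⟩
  let e1 : η.obj p.asIdeal.ResidueField ≃+* η.obj q.asIdeal.ResidueField :=
    RingEquiv.ofBijective (η.map ρf) hρf
  let e2 : L ≃+* η.obj L := RingEquiv.ofBijective (η.eta L) hbij
  let ψ : q.asIdeal.ResidueField →+* L :=
    (e2.symm : η.obj L →+* L).comp ((η.map ρg).comp
      ((e1.symm : η.obj q.asIdeal.ResidueField →+* η.obj p.asIdeal.ResidueField).comp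
        (η.eta q.asIdeal.ResidueField)))
  have hψ : ∀ c : p.asIdeal.ResidueField, ψ (ρf c) = ρg c := by
    intro c
    show e2.symm (η.map ρg (e1.symm (η.eta _ (ρf c)))) = ρg c
    rw [← eta_natural_apply η ρf c]
    have : e1.symm (η.map ρf (η.eta _ c)) = η.eta _ c := e1.symm_apply_apply _
    rw [this, eta_natural_apply]
    exact e2.symm_apply_apply _
  let G : B →+* L := ψ.comp (algebraMap B q.asIdeal.ResidueField)
  have hGf : ∀ a : A, G (f a) = algebraMap R L (g a) := by
    intro a
    show ψ (algebraMap B _ (f a)) = _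
    rw [← Ideal.ResidueField.map_algebraMap p.asIdeal q.asIdeal f hqp a]
    show ψ (ρf _) = _
    rw [hψ]
    exact Ideal.ResidueField.map_algebraMap _ _ _ _ a
  have hGint : ∀ b : B, G b ∈ (algebraMap R L).range := by
    intro b
    obtain ⟨P, hPm, hP⟩ := hf b
    have hint : IsIntegral R (G b) := by
      refine ⟨P.map g, hPm.map g, ?_⟩
      rw [Polynomial.eval₂_map]
      have : (algebraMap R L).comp g = G.comp f := by ext a; exact (hGf a).symm
      rw [this, ← Polynomial.hom_eval₂, hP, map_zero]
    obtain ⟨r, hr⟩ := IsIntegrallyClosed.algebraMap_eq_of_integral hint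
    exact ⟨r, hr⟩
  obtain ⟨g', hg'⟩ := exists_ringHom_factor (algebraMap R L) (IsFractionRing.injective R L) G hGint
  refine ⟨g', ?_⟩
  ext a
  apply IsFractionRing.injective R L
  rw [RingHom.comp_apply, hg', hGf]

end Lift

section PurelyInsep

variable {A B : Type u} [CommRing A] [CommRing B]

/-- elements of a residue field as fractions -/
theorem exists_frac_residueField (p : PrimeSpectrum A) (d : p.asIdeal.ResidueField) :
    ∃ a s : A, s ∉ p.asIdeal ∧
      d * algebraMap A p.asIdeal.ResidueField s = algebraMap A p.asIdeal.ResidueField a := by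
  obtain ⟨a', s', hs', hd⟩ := IsFractionRing.div_surjective (A := A ⧸ p.asIdeal) d
  obtain ⟨a, rfl⟩ := Ideal.Quotient.mk_surjective a'
  obtain ⟨s, rfl⟩ := Ideal.Quotient.mk_surjective s'
  have hs0 : Ideal.Quotient.mk p.asIdeal s ≠ 0 := nonZeroDivisors.ne_zero hs'
  refine ⟨a, s, fun hmem => hs0 (Ideal.Quotient.eq_zero_iff_mem.mpr hmem), ?_⟩
  have hne : algebraMap (A ⧸ p.asIdeal) p.asIdeal.ResidueField (Ideal.Quotient.mk _ s) ≠ 0 := by
    intro h0
    exact hs0 (IsFractionRing.injective (A ⧸ p.asIdeal) p.asIdeal.ResidueField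
      (by rw [h0, map_zero]))
  rw [← hd, ← Ideal.algebraMap_quotient_residueField_mk, ← Ideal.algebraMap_quotient_residueField_mk,
    div_mul_cancel₀ _ hne]

theorem comap_injective_of_Nmap_surjective (f : A →+* B)
    (hN : Function.Surjective (η.Nmap f)) : Function.Injective (PrimeSpectrum.comap f) := by
  intro q q' hqq'
  by_contra hne
  obtain ⟨x, hx⟩ := hN (single η q 1)
  have h1 := congrFun hx q
  have h2 := congrFun hx q'
  rw [single_self, Nmap_apply] at h1
  have hP : (PrimeSpectrum.comap f q).asIdeal = q'.asIdeal.comap f := by rw [hqq']; rfl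
  rw [single_ne η q q' 1 (fun h => hne h.symm),
    Nmap_apply' η f x q' (PrimeSpectrum.comap f q) hP] at h2
  have h3 : x (PrimeSpectrum.comap f q) = 0 :=
    (map_eq_zero_iff _ (η.map _).injective).mp h2
  rw [h3, map_zero] at h1
  exact zero_ne_one h1

/-- the residue field extensions of a map with `N` surjective are purely inseparable, stated
on elements -/
theorem exists_pow_sub_mem (f : A →+* B) (hN : Function.Surjective (η.Nmap f))
    (q : PrimeSpectrum B) (b : B) :
    ∃ (n : ℕ) (a s : A), s ∉ (PrimeSpectrum.comap f q).asIdeal ∧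
      f s * b ^ (ringExpChar (PrimeSpectrum.comap f q).asIdeal.ResidueField) ^ n - f a ∈ q.asIdeal := by
  set p := PrimeSpectrum.comap f q with hp
  let ρ := Ideal.ResidueField.map p.asIdeal q.asIdeal f rfl
  obtain ⟨w, hw⟩ := map_residue_surjective_of_Nmap_surjective η f hN q p rfl
    (η.eta _ (algebraMap B q.asIdeal.ResidueField b))
  obtain ⟨n, d, hd⟩ := η.exists_pow_mem_range_eta p.asIdeal.ResidueField w
  obtain ⟨a, s, hs, hds⟩ := exists_frac_residueField p d
  refine ⟨n, a, s, hs, ?_⟩
  have h1 : (algebraMap B q.asIdeal.ResidueField b) ^ (ringExpChar p.asIdeal.ResidueField) ^ n =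
      ρ d := by
    apply (η.eta q.asIdeal.ResidueField).injective
    rw [map_pow, ← hw, ← map_pow, ← hd, eta_natural_apply]
  rw [← Ideal.algebraMap_residueField_eq_zero, map_sub, map_mul, map_pow, h1,
    ← Ideal.ResidueField.map_algebraMap p.asIdeal q.asIdeal f rfl s,
    ← Ideal.ResidueField.map_algebraMap p.asIdeal q.asIdeal f rfl a, ← hds, map_mul]
  ring

theorem hom_ext_of_Nmap_bijective (f : A →+* B) (hN : Function.Surjective (η.Nmap f))
    {Ω : Type*} [Field Ω] (h₁ h₂ : B →+* Ω) (h : h₁.comp f = h₂.comp f) : h₁ = h₂ := by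
  have hinj := comap_injective_of_Nmap_surjective η f hN
  let q₁ : PrimeSpectrum B := ⟨RingHom.ker h₁, RingHom.ker_isPrime h₁⟩
  let q₂ : PrimeSpectrum B := ⟨RingHom.ker h₂, RingHom.ker_isPrime h₂⟩
  have hq : q₁ = q₂ := by
    apply hinj
    apply PrimeSpectrum.ext
    show (RingHom.ker h₁).comap f = (RingHom.ker h₂).comap f
    rw [RingHom.comap_ker, RingHom.comap_ker, h]
  have hker : ∀ b : B, h₁ b = 0 ↔ h₂ b = 0 := by
    intro b
    have : b ∈ q₁.asIdeal ↔ b ∈ q₂.asIdeal := by rw [hq]
    exact this
  ext b
  obtain ⟨n, a, s, hs, hmem⟩ := exists_pow_sub_mem η f hN q₁ b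
  set p := PrimeSpectrum.comap f q₁ with hp
  -- the exponential characteristic of Ω
  have hle : p.asIdeal ≤ RingHom.ker (h₁.comp f) := by
    intro x hx
    exact hx
  have hunits : p.asIdeal.primeCompl ≤ (IsUnit.submonoid Ω).comap (h₁.comp f) := by
    intro x hx
    apply IsUnit.mk0
    intro h0
    exact hx h0
  let φ : p.asIdeal.ResidueField →+* Ω := Ideal.ResidueField.lift p.asIdeal (h₁.comp f) hle hunits
  apply pow_expChar_pow_inj φ n
  have hs1 : h₁ (f s) ≠ 0 := fun h0 => hs h0
  have e1 : h₁ (f s) * h₁ b ^ (ringExpChar p.asIdeal.ResidueField) ^ n = h₁ (f a) := by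
    have : h₁ (f s * b ^ (ringExpChar p.asIdeal.ResidueField) ^ n - f a) = 0 := hmem
    rw [map_sub, map_mul, map_pow, sub_eq_zero] at this
    exact this
  have e2 : h₂ (f s) * h₂ b ^ (ringExpChar p.asIdeal.ResidueField) ^ n = h₂ (f a) := by
    have : h₂ (f s * b ^ (ringExpChar p.asIdeal.ResidueField) ^ n - f a) = 0 := (hker _).mp hmem
    rw [map_sub, map_mul, map_pow, sub_eq_zero] at this
    exact this
  have e3 : ∀ x : A, h₂ (f x) = h₁ (f x) := fun x => (congrArg (fun k => k x) (congrArg DFunLike.coe h)).symm
  rw [e3, e3] at e2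
  exact mul_left_cancel₀ hs1 (e1.trans e2.symm)

end PurelyInsep

section FObj

variable {K : Type u} [Field K]

/-- `η` at `F(K)` coincides with `F(η_K)` -/
theorem eta_obj_eq_map_eta (z : η.obj K) : η.eta (η.obj K) z = η.map (η.eta K) z := by
  obtain ⟨n, y, hy⟩ := η.exists_pow_mem_range_eta K z
  apply pow_expChar_pow_inj ((η.eta (η.obj K)).comp (η.eta K)) n
  rw [← map_pow, ← map_pow, ← hy, eta_natural_apply]

theorem eta_obj_bijective : Function.Bijective (η.eta (η.obj K)) := by
  have h : (η.eta (η.obj K) : η.obj K → η.obj (η.obj K)) = η.map (η.eta K) := by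
    funext z
    exact eta_obj_eq_map_eta η z
  rw [h]
  exact η.bijective_map_eta K

end FObj

section ValSubGen

variable {A : Type u} [CommRing A] {K : Type u} [Field K]

/-- the structure map `A → V` for a valuation subring of a field `K` containing the image of
`ι : A → K` -/
noncomputable def gVι (ι : A →+* K) (V : ValuationSubring K) (h : ∀ a : A, ι a ∈ V) : A →+* V :=
  ι.codRestrict V.toSubring h

theorem gVι_coe (ι : A →+* K) (V : ValuationSubring K) (h : ∀ a : A, ι a ∈ V) (a : A) :
    ((gVι ι V h a : V) : K) = ι a := rfl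

theorem gVι_injective (ι : A →+* K) (hι : Function.Injective ι) (V : ValuationSubring K)
    (h : ∀ a : A, ι a ∈ V) : Function.Injective (gVι ι V h) := by
  intro a b hab
  apply hι
  exact congrArg (fun v : V => (v : K)) hab

/-- every prime of a ring mapping injectively to a field `K` is the centre of a valuation subring
of `K` -/
theorem exists_valuationSubring_center' (ι : A →+* K) (hι : Function.Injective ι)
    (p : PrimeSpectrum A) :
    ∃ (V : ValuationSubring K) (h : ∀ a : A, ι a ∈ V),
      (IsLocalRing.maximalIdeal V).comap (gVι ι V h) = p.asIdeal := by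
  let Ap := Localization.AtPrime p.asIdeal
  have hunits : ∀ s : p.asIdeal.primeCompl, IsUnit (ι (s : A)) := by
    intro s
    apply IsUnit.mk0
    intro h0
    have : (s : A) = 0 := hι (by rw [h0, map_zero])
    exact s.2 (this ▸ p.asIdeal.zero_mem)
  let f : Ap →+* K := IsLocalization.lift (M := p.asIdeal.primeCompl) hunits
  obtain ⟨V, hV, hloc⟩ := IsLocalRing.exists_factor_valuationRing f
  have hA : ∀ a : A, ι a ∈ V := by
    intro a
    have := hV (algebraMap A Ap a)
    rwa [IsLocalization.lift_eq] at this
  refine ⟨V, hA, ?_⟩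
  let f' : Ap →+* V := f.codRestrict V.toSubring hV
  have hloc' : IsLocalHom f' := hloc
  have hg : gVι ι V hA = f'.comp (algebraMap A Ap) := by
    ext a
    show ι a = f (algebraMap A Ap a)
    rw [IsLocalization.lift_eq]
  have h5 : (IsLocalRing.maximalIdeal V).comap f' = IsLocalRing.maximalIdeal Ap :=
    ((IsLocalRing.local_hom_TFAE f').out 0 4).mp hloc'
  rw [hg, ← Ideal.comap_comap, h5]
  exact Localization.AtPrime.under_maximalIdeal

end ValSubGen

end Groth.Agent.Lib.helper20.EtaPt
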