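import Groth.Agent.Lib.helper20.EtaPt

/-! Helper library for the `EtaPt` cluster (helper20), part 2: evaluation at a prime. -/

set_option autoImplicit false
universe u

namespace Groth.Agent.Lib.helper20.EtaPt

open _root_.EtaPt

variable (η : FieldEndo.{u})

section Gen

variable {A : Type u} [CommRing A]

/-- an element of a field lying in every valuation subring containing the image of `ι` is
integral over `ι` -/
theorem isIntegralElem_of_forall_valuationSubring {K : Type*} [Field K] (ι : A →+* K) (y : K)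
    (hy : ∀ V : ValuationSubring K, (∀ a, ι a ∈ V) → y ∈ V) : ι.IsIntegralElem y := by
  let _ : Algebra A K := ι.toAlgebra
  change IsIntegral A y
  by_contra hni
  have hxR : y ∉ (integralClosure A K).toSubring := hni
  obtain ⟨V, hV, hyV⟩ := Subring.exists_le_valuationSubring_of_isIntegrallyClosedIn hxR
  exact hyV (hy V fun a => hV (isIntegral_algebraMap (R := A) (A := K) (x := a)))

/-- every prime containing the kernel of `ι : A → K` is the centre of a valuation subring
of `K` -/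
theorem exists_valuationSubring_center'' {K : Type u} [Field K] (ι : A →+* K)
    (p : PrimeSpectrum A) (hker : RingHom.ker ι ≤ p.asIdeal) :
    ∃ (V : ValuationSubring K) (h : ∀ a : A, ι a ∈ V),
      (IsLocalRing.maximalIdeal V).comap (gVι ι V h) = p.asIdeal := by
  let Ap := Localization.AtPrime p.asIdeal
  have hunits : ∀ s : p.asIdeal.primeCompl, IsUnit (ι (s : A)) := by
    intro s
    apply IsUnit.mk0
    intro h0
    exact s.2 (hker ((RingHom.mem_ker).mpr h0))
  let f : Ap →+* K := IsLocalization.lift (M := p.asIdeal.primeCompl) hunits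
  obtain ⟨V, hV, hloc⟩ := IsLocalRing.exists_factor_valuationRing f
  have hA : ∀ a : A, ι a ∈ V := by
    intro a
    have := hV (algebraMap A Ap a)
    rwa [IsLocalization.lift_eq] at this
  refine ⟨V, hA, ?_⟩
  let f' : Ap →+* V := f.codRestrict V.toSubring hV
  have hloc' : IsLocalHom f' := hloc
  have hg : gVι ι V hA = f'.comp (algebraMap A Ap) := by
    ext a
    show ι a = f (algebraMap A Ap a)
    rw [IsLocalization.lift_eq]
  have h5 : (IsLocalRing.maximalIdeal V).comap f' = IsLocalRing.maximalIdeal Ap :=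
    ((IsLocalRing.local_hom_TFAE f').out 0 4).mp hloc'
  rw [hg, ← Ideal.comap_comap, h5]
  exact Localization.AtPrime.under_maximalIdeal

variable (𝔭 : PrimeSpectrum A)

/-- `ι_𝔭 : A → F(κ(𝔭))` -/
noncomputable def iot : A →+* η.obj 𝔭.asIdeal.ResidueField :=
  (η.eta 𝔭.asIdeal.ResidueField).comp (algebraMap A 𝔭.asIdeal.ResidueField)

theorem iot_apply (a : A) : iot η 𝔭 a = η.t A a 𝔭 := rfl

theorem iot_eq_zero_iff (a : A) : iot η 𝔭 a = 0 ↔ a ∈ 𝔭.asIdeal := by
  rw [iot, RingHom.comp_apply, map_eq_zero, Ideal.algebraMap_residueField_eq_zero]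

theorem ker_iot : RingHom.ker (iot η 𝔭) = 𝔭.asIdeal := by
  ext a; rw [RingHom.mem_ker, iot_eq_zero_iff]

theorem eval_comp_t : (Pi.evalRingHom (fun p : PrimeSpectrum A => η.obj p.asIdeal.ResidueField) 𝔭).comp
    (η.t A) = iot η 𝔭 := RingHom.ext fun _ => rfl

theorem subtype_comp_q : (η.M A).subtype.comp (η.q A) = η.t A := RingHom.ext fun _ => rfl

/-- the canonical isomorphism from a field to the residue field at `(0)` of a valuation
subring -/
noncomputable def sigV {K : Type u} [Field K] (V : ValuationSubring K) : K ≃ₐ[V] Kf V :=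
  IsLocalization.algEquiv (nonZeroDivisors V) K (Kf V)

variable (V : ValuationSubring (η.obj 𝔭.asIdeal.ResidueField)) (h : ∀ a : A, iot η 𝔭 a ∈ V)

theorem comap_bot_gVι : 𝔭.asIdeal = (⊥ : Ideal V).comap (gVι (iot η 𝔭) V h) := by
  ext a
  rw [Ideal.mem_comap, Ideal.mem_bot, ← iot_eq_zero_iff η 𝔭 a]
  constructor
  · intro h0; exact Subtype.ext h0
  · intro h0; exact congrArg Subtype.val h0

/-- the residue field map `κ(𝔭) → κ((0) ⊆ V)` -/
noncomputable def rhoι : 𝔭.asIdeal.ResidueField →+* Kf V :=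
  Ideal.ResidueField.map 𝔭.asIdeal (⊥ : Ideal V) (gVι (iot η 𝔭) V h) (comap_bot_gVι η 𝔭 V h)

theorem rhoι_eq : rhoι η 𝔭 V h =
    ((sigV V : η.obj 𝔭.asIdeal.ResidueField →+* Kf V)).comp (η.eta 𝔭.asIdeal.ResidueField) := by
  apply Ideal.ResidueField.ringHom_ext
  ext a
  simp only [RingHom.comp_apply]
  rw [rhoι, Ideal.ResidueField.map_algebraMap]
  have h1 : (η.eta _ (algebraMap A 𝔭.asIdeal.ResidueField a)) =
      algebraMap V (η.obj 𝔭.asIdeal.ResidueField) (gVι (iot η 𝔭) V h a) := rfl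
  rw [h1]
  exact ((sigV V).commutes _).symm

theorem generic_evalι (x : η.N A) (r : V) (hr : η.t V r = η.Nmap (gVι (iot η 𝔭) V h) x) :
    (r : η.obj 𝔭.asIdeal.ResidueField) = x 𝔭 := by
  have h1 := congrFun hr (gen V)
  rw [Nmap_apply' η _ x (gen V) 𝔭 (comap_bot_gVι η 𝔭 V h), t_apply] at h1
  change _ = η.map (rhoι η 𝔭 V h) (x 𝔭) at h1
  rw [rhoι_eq, map_comp_apply, ← eta_obj_eq_map_eta, eta_natural_apply] at h1
  have h2 := (η.eta (Kf V)).injective h1
  have h3 : algebraMap V (Kf V) r = sigV V (r : η.obj 𝔭.asIdeal.ResidueField) :=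
    ((sigV V).commutes r).symm
  rw [h3] at h2
  exact (sigV V).injective h2

theorem InV_valuationSubring_obj {K : Type u} [Field K] (V : ValuationSubring (η.obj K)) :
    η.InV V := InV_of_valuationSubring η (eta_obj_bijective η) V

/-- an element of `M A` vanishing at `𝔭` vanishes at every prime containing `𝔭` -/
theorem eq_zero_of_le {x : η.N A} (hx : x ∈ η.M A) (h0 : x 𝔭 = 0) (P : PrimeSpectrum A)
    (hP : 𝔭.asIdeal ≤ P.asIdeal) : x P = 0 := by
  obtain ⟨V, h, hc⟩ := exists_valuationSubring_center'' (iot η 𝔭) P (by rw [ker_iot]; exact hP)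
  obtain ⟨r, hr⟩ := hx V (InV_valuationSubring_obj η V) (gVι (iot η 𝔭) V h)
  have hr0 : (r : η.obj 𝔭.asIdeal.ResidueField) = x 𝔭 := generic_evalι η 𝔭 V h x r hr
  have hr0' : r = 0 := Subtype.ext (by rw [hr0, h0]; rfl)
  have h1 := congrFun hr (IsLocalRing.closedPoint V)
  rw [Nmap_apply' η _ x (IsLocalRing.closedPoint V) P hc.symm, hr0', map_zero] at h1
  exact (map_eq_zero_iff _ (η.map _).injective).mp h1.symm

/-- the component at `𝔭` of an element of `M A` is integral over `A` -/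
theorem isIntegralElem_eval {x : η.N A} (hx : x ∈ η.M A) : (iot η 𝔭).IsIntegralElem (x 𝔭) := by
  apply isIntegralElem_of_forall_valuationSubring
  intro V h
  obtain ⟨r, hr⟩ := hx V (InV_valuationSubring_obj η V) (gVι (iot η 𝔭) V h)
  rw [← generic_evalι η 𝔭 V h x r hr]
  exact r.2

theorem eval₂_t_mem_M {x : η.N A} (hx : x ∈ η.M A) (Q : Polynomial A) :
    Q.eval₂ (η.t A) x ∈ η.M A := by
  have h1 := (Q.eval₂ (η.q A) ⟨x, hx⟩).2
  have h2 := Polynomial.hom_eval₂ Q (η.q A) (η.M A).subtype ⟨x, hx⟩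
  rw [subtype_comp_q] at h2
  have h3 : Q.eval₂ (η.t A) x = (η.M A).subtype (Q.eval₂ (η.q A) ⟨x, hx⟩) := h2.symm
  rw [h3]
  exact h1

theorem eval₂_t_apply (x : η.N A) (Q : Polynomial A) :
    (Q.eval₂ (η.t A) x) 𝔭 = Q.eval₂ (iot η 𝔭) (x 𝔭) := by
  have h2 := Polynomial.hom_eval₂ Q (η.t A)
    (Pi.evalRingHom (fun p : PrimeSpectrum A => η.obj p.asIdeal.ResidueField) 𝔭) x
  rw [eval_comp_t] at h2
  exact h2

/-- for `x ∈ M A` and a prime `𝔭` there is a monic polynomial killing `x` on `V(𝔭)` -/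
theorem exists_monic_eval_zero {x : η.N A} (hx : x ∈ η.M A) :
    ∃ Q : Polynomial A, Q.Monic ∧ ∀ P : PrimeSpectrum A, 𝔭.asIdeal ≤ P.asIdeal →
      (Q.eval₂ (η.t A) x) P = 0 := by
  obtain ⟨Q, hQ, hQ0⟩ := isIntegralElem_eval η 𝔭 hx
  refine ⟨Q, hQ, fun P hP => ?_⟩
  apply eq_zero_of_le η 𝔭 (eval₂_t_mem_M η hx Q) ?_ P hP
  rw [eval₂_t_apply]
  exact hQ0

end Gen

end Groth.Agent.Lib.helper20.EtaPt
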