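import Groth.Agent.Lib.helper20.EtaPt2

/-! Helper library for the `EtaPt` cluster (helper20), part 3: integrally closed domains. -/

set_option autoImplicit false
universe u

namespace Groth.Agent.Lib.helper20.EtaPt

open _root_.EtaPt

variable (η : FieldEndo.{u})

section Frob2

theorem charP_of_prime_eq_zero {E : Type*} [Field E] {p : ℕ} (hp : p.Prime) (hpE : (p : E) = 0) :
    CharP E p :=
  (ringChar.eq_iff).mp (CharP.ringChar_of_prime_eq_zero hp hpE)

theorem exists_pow_prime_pow_eq {E : Type*} [Field E] [PerfectField E] {p : ℕ} (hp : p.Prime)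
    (hpE : (p : E) = 0) (n : ℕ) (z : E) : ∃ w : E, w ^ p ^ n = z := by
  haveI : CharP E p := charP_of_prime_eq_zero hp hpE
  haveI : ExpChar E p := ExpChar.prime hp
  obtain ⟨w, hw⟩ := (bijective_iterateFrobenius E p n).2 z
  exact ⟨w, by rwa [iterateFrobenius_def] at hw⟩

theorem pow_prime_pow_inj' {E : Type*} [Field E] {p : ℕ} (hp : p.Prime) (hpE : (p : E) = 0)
    (n : ℕ) {x y : E} (h : x ^ p ^ n = y ^ p ^ n) : x = y := by
  haveI : CharP E p := charP_of_prime_eq_zero hp hpE
  haveI : ExpChar E p := ExpChar.prime hp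
  apply iterateFrobenius_inj E p n
  rw [iterateFrobenius_def, iterateFrobenius_def]
  exact h

theorem natCast_eq_zero_of_ringHom {R S : Type*} [Ring R] [Ring S] (φ : R →+* S) {p : ℕ}
    (h : (p : R) = 0) : (p : S) = 0 := by
  rw [← map_natCast φ, h, map_zero]

end Frob2

section IntClosed

variable (R : Type u) [CommRing R] [IsDomain R]

/-- injectivity of evaluation at the generic point on `M R` -/
theorem injOn_gen : Set.InjOn (fun x : η.N R => x (gen R)) (η.M R) := by
  intro x hx y hy hxy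
  have hxy' : (x - y) (gen R) = 0 := by
    rw [Pi.sub_apply]
    exact sub_eq_zero.mpr hxy
  have hz : x - y ∈ η.M R := Subring.sub_mem _ hx hy
  have h0 : x - y = 0 := funext fun P => eq_zero_of_le η (gen R) hz hxy' P bot_le
  exact sub_eq_zero.mp h0

variable [IsIntegrallyClosed R]

theorem mem_range_of_isIntegralElem_eta (ℓ : Kf R)
    (h : (iot η (gen R)).IsIntegralElem (η.eta (Kf R) ℓ)) :
    ∃ r : R, algebraMap R (Kf R) r = ℓ := by
  obtain ⟨Q, hQ, hQ0⟩ := h
  apply IsIntegrallyClosed.algebraMap_eq_of_integral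
  refine ⟨Q, hQ, ?_⟩
  apply (η.eta (Kf R)).injective
  rw [map_zero, Polynomial.hom_eval₂]
  exact hQ0

theorem isIntegralElem_pow {A K : Type*} [CommRing A] [CommRing K] (ι : A →+* K) {y : K}
    (hy : ι.IsIntegralElem y) (m : ℕ) : ι.IsIntegralElem (y ^ m) := by
  let _ : Algebra A K := ι.toAlgebra
  exact IsIntegral.pow (R := A) hy m

/-- the bijective case -/
theorem exists_mem_M_gen_eq_of_bijective (hbij : Function.Bijective (η.eta (Kf R)))
    (y : η.obj (Kf R)) (hy : (iot η (gen R)).IsIntegralElem y) :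
    ∃ x ∈ η.M R, x (gen R) = y := by
  obtain ⟨ℓ, rfl⟩ := hbij.2 y
  obtain ⟨r, rfl⟩ := mem_range_of_isIntegralElem_eta η R ℓ hy
  exact ⟨η.t R r, η.t_mem_M R r, rfl⟩

/-- roots in characteristic `p` -/
theorem exists_mem_M_pow_eq {A : Type u} [CommRing A] {p : ℕ} (hp : p.Prime) (hpA : (p : A) = 0)
    (hperf : ∀ (k : Type u) [Field k], (p : k) = 0 → Function.Bijective (η.eta k) →
      PerfectField k) (n : ℕ) (r : A) :
    ∃ x ∈ η.M A, ∀ P : PrimeSpectrum A, (x P) ^ p ^ n = iot η P r := by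
  have hpP : ∀ P : PrimeSpectrum A, (p : η.obj P.asIdeal.ResidueField) = 0 := fun P =>
    natCast_eq_zero_of_ringHom (iot η P) hpA
  have hperfP : ∀ P : PrimeSpectrum A, PerfectField (η.obj P.asIdeal.ResidueField) := fun P =>
    hperf _ (hpP P) (eta_obj_bijective η)
  have hex : ∀ P : PrimeSpectrum A, ∃ w : η.obj P.asIdeal.ResidueField, w ^ p ^ n = iot η P r :=
    fun P => by
      haveI := hperfP P
      exact exists_pow_prime_pow_eq hp (hpP P) n _
  choose x hx using hex
  refine ⟨x, ?_, hx⟩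
  intro R₁ _ _ _ hR₁ g
  have hbij : Function.Bijective (η.eta (Kf R₁)) := eta_bijective_residueField_bot η hR₁
  have hpK : (p : Kf R₁) = 0 :=
    natCast_eq_zero_of_ringHom ((algebraMap R₁ (Kf R₁)).comp g) hpA
  haveI : PerfectField (Kf R₁) := hperf _ hpK hbij
  obtain ⟨s, hs⟩ := exists_pow_prime_pow_eq hp hpK n (algebraMap R₁ (Kf R₁) (g r))
  have hsint : IsIntegral R₁ s := by
    refine ⟨Polynomial.X ^ (p ^ n) - Polynomial.C (g r),
      Polynomial.monic_X_pow_sub_C _ (pow_ne_zero _ hp.ne_zero), ?_⟩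
    rw [Polynomial.eval₂_sub, Polynomial.eval₂_pow, Polynomial.eval₂_X, Polynomial.eval₂_C, hs,
      sub_self]
  obtain ⟨s₁, hs₁⟩ := IsIntegrallyClosed.algebraMap_eq_of_integral hsint
  have hs₁' : s₁ ^ p ^ n = g r := by
    apply IsFractionRing.injective R₁ (Kf R₁)
    rw [map_pow, hs₁, hs]
  refine ⟨s₁, ?_⟩
  funext q
  have hpq : (p : η.obj q.asIdeal.ResidueField) = 0 :=
    natCast_eq_zero_of_ringHom ((iot η q).comp g) hpA
  apply pow_prime_pow_inj' hp hpq n
  rw [t_apply, ← map_pow, ← map_pow, hs₁', Nmap_apply, ← map_pow, hx]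
  change _ = η.map _ (η.eta _ (algebraMap A _ r))
  rw [eta_natural_apply, Ideal.ResidueField.map_algebraMap]

/-- existence of an element of `M R` with prescribed integral generic component -/
theorem exists_mem_M_gen_eq
    (hη : η.InV R ∨ ∀ (k : Type u) [Field k], ringChar k = ringChar R →
      Function.Bijective (η.eta k) → PerfectField k)
    (y : η.obj (Kf R)) (hy : (iot η (gen R)).IsIntegralElem y) :
    ∃ x ∈ η.M R, x (gen R) = y := by
  rcases hη with hInV | hperf
  · exact exists_mem_M_gen_eq_of_bijective η R (eta_bijective_residueField_bot η hInV) y hy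
  obtain ⟨q, hq⟩ := ExpChar.exists (Kf R)
  have he : ringExpChar (Kf R) = q := ringExpChar.eq (Kf R) q
  obtain ⟨n, ℓ, hℓ⟩ := η.exists_pow_mem_range_eta (Kf R) y
  rw [he] at hℓ
  rcases hq with _ | ⟨hprime⟩
  · -- characteristic zero: `η` is bijective at `Kf R`
    apply exists_mem_M_gen_eq_of_bijective η R ?_ y hy
    refine ⟨(η.eta (Kf R)).injective, fun z => ?_⟩
    obtain ⟨m, w, hw⟩ := η.exists_pow_mem_range_eta (Kf R) z
    rw [he, one_pow, pow_one] at hw
    exact ⟨w, hw⟩
  · -- characteristic `q`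
    have hqK : (q : Kf R) = 0 := CharP.cast_eq_zero (Kf R) q
    have hqR : (q : R) = 0 := by
      apply IsFractionRing.injective R (Kf R)
      rw [map_natCast, hqK, map_zero]
    have hcR : ringChar R = q := CharP.ringChar_of_prime_eq_zero hprime hqR
    have hperf' : ∀ (k : Type u) [Field k], (q : k) = 0 → Function.Bijective (η.eta k) →
        PerfectField k := fun k _ hk hb =>
      hperf k ((CharP.ringChar_of_prime_eq_zero hprime hk).trans hcR.symm) hb
    have hint : (iot η (gen R)).IsIntegralElem (η.eta (Kf R) ℓ) := by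
      rw [hℓ]
      exact isIntegralElem_pow _ hy _
    obtain ⟨r, hr⟩ := mem_range_of_isIntegralElem_eta η R ℓ hint
    obtain ⟨x, hxM, hx⟩ := exists_mem_M_pow_eq η hprime hqR hperf' n r
    refine ⟨x, hxM, ?_⟩
    apply pow_prime_pow_inj' hprime (natCast_eq_zero_of_ringHom (η.eta (Kf R)) hqK) n
    rw [hx, ← hℓ, ← hr]
    rfl

end IntClosed

section ValRing

theorem isIntegralElem_of_pow_eq {A K : Type*} [CommRing A] [CommRing K] (ι : A →+* K) (y : K)
    (m : ℕ) (hm : m ≠ 0) (r : A) (h : y ^ m = ι r) : ι.IsIntegralElem y := by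
  refine ⟨Polynomial.X ^ m - Polynomial.C r, Polynomial.monic_X_pow_sub_C _ hm, ?_⟩
  rw [Polynomial.eval₂_sub, Polynomial.eval₂_pow, Polynomial.eval₂_X, Polynomial.eval₂_C, h,
    sub_self]

variable (R : Type u) [CommRing R] [IsDomain R] [ValuationRing R]

/-- over a valuation ring, every element of `F(K)` or its inverse is integral -/
theorem isIntegralElem_or_inv (z : η.obj (Kf R)) :
    (iot η (gen R)).IsIntegralElem z ∨ (iot η (gen R)).IsIntegralElem z⁻¹ := by
  obtain ⟨n, ℓ, hℓ⟩ := η.exists_pow_mem_range_eta (Kf R) z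
  have hm : ringExpChar (Kf R) ^ n ≠ 0 := pow_ne_zero _ (ringExpChar_pos (Kf R)).ne'
  rcases ValuationRing.isInteger_or_isInteger R ℓ with ⟨r, hr⟩ | ⟨r, hr⟩
  · left
    apply isIntegralElem_of_pow_eq _ z _ hm r
    rw [← hℓ, ← hr]
    rfl
  · right
    apply isIntegralElem_of_pow_eq _ z⁻¹ _ hm r
    rw [inv_pow, ← hℓ, ← map_inv₀, ← hr]
    rfl

/-- the evaluation at the generic point as a ring hom on `M R` -/
noncomputable def evGen : η.M R →+* η.obj (Kf R) :=
  (Pi.evalRingHom (fun p : PrimeSpectrum R => η.obj p.asIdeal.ResidueField) (gen R)).comp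
    (η.M R).subtype

theorem evGen_apply (a : η.M R) : evGen η R a = (a : η.N R) (gen R) := rfl

theorem evGen_injective : Function.Injective (evGen η R) := by
  intro a b hab
  exact Subtype.ext (injOn_gen η R a.2 b.2 hab)

end ValRing

end Groth.Agent.Lib.helper20.EtaPt
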