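import Groth.Agent.Lib.helper20.EtaPt3

/-! Helper library for the `EtaPt` cluster (helper20), part 4: rings with finitely many minimal
primes. -/

set_option autoImplicit false
universe u

namespace Groth.Agent.Lib.helper20.EtaPt

open _root_.EtaPt

variable (η : FieldEndo.{u})

section FinMin

variable {A : Type u} [CommRing A]

/-- evaluation at a prime on `M A` -/
noncomputable def evM (P : PrimeSpectrum A) : η.M A →+* η.obj P.asIdeal.ResidueField :=
  (Pi.evalRingHom (fun p : PrimeSpectrum A => η.obj p.asIdeal.ResidueField) P).comp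
    (η.M A).subtype

theorem evM_apply (P : PrimeSpectrum A) (x : η.M A) : evM η P x = (x : η.N A) P := rfl

theorem evM_q (P : PrimeSpectrum A) (a : A) : evM η P (η.q A a) = iot η P a := rfl

/-- the prime of `M A` attached to a prime of `A` -/
noncomputable def QP (P : PrimeSpectrum A) : PrimeSpectrum (η.M A) :=
  ⟨RingHom.ker (evM η P), RingHom.ker_isPrime _⟩

theorem comap_q_QP (P : PrimeSpectrum A) : PrimeSpectrum.comap (η.q A) (QP η P) = P := by
  apply PrimeSpectrum.ext
  ext a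
  change η.q A a ∈ RingHom.ker (evM η P) ↔ a ∈ P.asIdeal
  rw [RingHom.mem_ker, evM_q, iot_eq_zero_iff]

theorem exists_minimal_ker_le (hA : (minimalPrimes A).Finite) (Q : PrimeSpectrum (η.M A)) :
    ∃ 𝔭 : PrimeSpectrum A, RingHom.ker (evM η 𝔭) ≤ Q.asIdeal := by
  classical
  letI : Fintype (minimalPrimes A) := hA.fintype
  let f : minimalPrimes A → Ideal (η.M A) := fun 𝔭 => RingHom.ker (evM η ⟨𝔭.1, 𝔭.2.1.1⟩)
  have hle : Finset.univ.inf f ≤ Q.asIdeal := by
    intro x hx
    rw [Submodule.mem_finsetInf] at hx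
    have hx0 : x = 0 := by
      apply Subtype.ext
      funext P
      obtain ⟨𝔭, h𝔭min, h𝔭le⟩ :=
        Ideal.exists_minimalPrimes_le (bot_le : (⊥ : Ideal A) ≤ P.asIdeal)
      have h1 := hx ⟨𝔭, h𝔭min⟩ (Finset.mem_univ _)
      exact eq_zero_of_le η ⟨𝔭, h𝔭min.1.1⟩ x.2 (RingHom.mem_ker.mp h1) P h𝔭le
    rw [hx0]
    exact Q.asIdeal.zero_mem
  obtain ⟨i, -, hi⟩ := (Ideal.IsPrime.inf_le' Q.2).mp hle
  exact ⟨⟨i.1, i.2.1.1⟩, hi⟩

/-- a prime of `M A` is the kernel of the evaluation at its contraction -/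
theorem mem_iff_eval_eq_zero (hA : (minimalPrimes A).Finite) (Q : PrimeSpectrum (η.M A))
    (x : η.M A) :
    x ∈ Q.asIdeal ↔ (x : η.N A) (PrimeSpectrum.comap (η.q A) Q) = 0 := by
  obtain ⟨𝔭, h𝔭⟩ := exists_minimal_ker_le η hA Q
  obtain ⟨V, h, hc⟩ := exists_valuationSubring_center'' (evM η 𝔭) Q h𝔭
  have h' : ∀ a : A, iot η 𝔭 a ∈ V := fun a => h (η.q A a)
  have hgc : gVι (iot η 𝔭) V h' = (gVι (evM η 𝔭) V h).comp (η.q A) := RingHom.ext fun a => rfl
  have hPc : (PrimeSpectrum.comap (η.q A) Q).asIdeal =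
      (IsLocalRing.maximalIdeal V).comap (gVι (iot η 𝔭) V h') := by
    rw [hgc, ← Ideal.comap_comap, hc]
    rfl
  obtain ⟨r, hr⟩ := x.2 V (InV_valuationSubring_obj η V) (gVι (iot η 𝔭) V h')
  have hr1 : (r : η.obj 𝔭.asIdeal.ResidueField) = (x : η.N A) 𝔭 :=
    generic_evalι η 𝔭 V h' x r hr
  have hr2 : r = gVι (evM η 𝔭) V h x := Subtype.ext hr1
  have h1 := congrFun hr (IsLocalRing.closedPoint V)
  rw [Nmap_apply' η _ (x : η.N A) (IsLocalRing.closedPoint V) (PrimeSpectrum.comap (η.q A) Q) hPc,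
    t_apply] at h1
  rw [← hc, Ideal.mem_comap, ← hr2]
  constructor
  · intro hrm
    have h2 : algebraMap V (IsLocalRing.closedPoint V).asIdeal.ResidueField r = 0 :=
      (Ideal.algebraMap_residueField_eq_zero).mpr hrm
    rw [h2, map_zero] at h1
    exact (map_eq_zero_iff _ (η.map _).injective).mp h1.symm
  · intro hx0
    rw [hx0, map_zero] at h1
    rw [map_eq_zero] at h1
    exact (Ideal.algebraMap_residueField_eq_zero).mp h1

theorem comap_q_injective (hA : (minimalPrimes A).Finite) :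
    Function.Injective (PrimeSpectrum.comap (η.q A)) := by
  intro Q Q' hQQ'
  apply PrimeSpectrum.ext
  ext x
  rw [mem_iff_eval_eq_zero η hA Q x, mem_iff_eval_eq_zero η hA Q' x, hQQ']

theorem comap_q_bijective (hA : (minimalPrimes A).Finite) :
    Function.Bijective (PrimeSpectrum.comap (η.q A)) :=
  ⟨comap_q_injective η hA, fun P => ⟨QP η P, comap_q_QP η P⟩⟩

theorem ker_evM_comap (hA : (minimalPrimes A).Finite) (Q : PrimeSpectrum (η.M A)) :
    RingHom.ker (evM η (PrimeSpectrum.comap (η.q A) Q)) = Q.asIdeal := by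
  ext x
  rw [RingHom.mem_ker, mem_iff_eval_eq_zero η hA Q x]
  rfl

/-- the map `κ(Q) → F(κ(P))` -/
noncomputable def phiQ (hA : (minimalPrimes A).Finite) (Q : PrimeSpectrum (η.M A)) :
    Q.asIdeal.ResidueField →+* η.obj (PrimeSpectrum.comap (η.q A) Q).asIdeal.ResidueField :=
  Ideal.ResidueField.lift Q.asIdeal (evM η (PrimeSpectrum.comap (η.q A) Q))
    (by rw [ker_evM_comap η hA Q])
    (by
      intro x hx
      change IsUnit (evM η (PrimeSpectrum.comap (η.q A) Q) x)
      apply IsUnit.mk0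
      intro h0
      exact hx ((mem_iff_eval_eq_zero η hA Q x).mpr h0))

theorem phiQ_algebraMap (hA : (minimalPrimes A).Finite) (Q : PrimeSpectrum (η.M A)) (x : η.M A) :
    phiQ η hA Q (algebraMap (η.M A) Q.asIdeal.ResidueField x) =
      (x : η.N A) (PrimeSpectrum.comap (η.q A) Q) :=
  Ideal.ResidueField.lift_algebraMap _ _ _ _ _

theorem phiQ_comp (hA : (minimalPrimes A).Finite) (Q : PrimeSpectrum (η.M A)) :
    (phiQ η hA Q).comp (Ideal.ResidueField.map (PrimeSpectrum.comap (η.q A) Q).asIdeal Q.asIdeal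
      (η.q A) rfl) = η.eta (PrimeSpectrum.comap (η.q A) Q).asIdeal.ResidueField := by
  apply Ideal.ResidueField.ringHom_ext
  ext a
  simp only [RingHom.comp_apply]
  rw [Ideal.ResidueField.map_algebraMap, phiQ_algebraMap]
  rfl

end FinMin

end Groth.Agent.Lib.helper20.EtaPt
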