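import Groth.Agent.Lib.helper20.EtaPt4

/-! Helper library for the `EtaPt` cluster (helper20), part 5: `N(q_A)` is bijective. -/

set_option autoImplicit false
universe u

namespace Groth.Agent.Lib.helper20.EtaPt

open _root_.EtaPt

variable (η : FieldEndo.{u})

section NmapBij

variable {A B : Type u} [CommRing A] [CommRing B]

theorem Nmap_bijective_of (f : A →+* B) (hc : Function.Bijective (PrimeSpectrum.comap f))
    (hm : ∀ q : PrimeSpectrum B, Function.Bijective
      (η.map (Ideal.ResidueField.map (PrimeSpectrum.comap f q).asIdeal q.asIdeal f rfl))) :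
    Function.Bijective (η.Nmap f) := by
  constructor
  · intro x y hxy
    funext p
    obtain ⟨q, rfl⟩ := hc.2 p
    have h1 := congrFun hxy q
    rw [Nmap_apply, Nmap_apply] at h1
    exact (hm q).1 h1
  · intro z
    have hex : ∀ p : PrimeSpectrum A, ∃ w : η.obj p.asIdeal.ResidueField,
        ∀ (q : PrimeSpectrum B) (h : p.asIdeal = q.asIdeal.comap f),
          η.map (Ideal.ResidueField.map p.asIdeal q.asIdeal f h) w = z q := by
      intro p
      obtain ⟨q₀, rfl⟩ := hc.2 p
      obtain ⟨w, hw⟩ := (hm q₀).2 (z q₀)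
      refine ⟨w, fun q h => ?_⟩
      have hq : q = q₀ := hc.1 (PrimeSpectrum.ext h.symm)
      subst hq
      exact hw
    choose x hx using hex
    refine ⟨x, ?_⟩
    funext q
    rw [Nmap_apply]
    exact hx _ q rfl

theorem map_rho_bijective (hA : (minimalPrimes A).Finite) (Q : PrimeSpectrum (η.M A)) : Function.Bijective
    (η.map (Ideal.ResidueField.map (PrimeSpectrum.comap (η.q A) Q).asIdeal Q.asIdeal (η.q A) rfl)) := by
  refine ⟨(η.map _).injective, fun z => ?_⟩
  obtain ⟨w, hw⟩ := (η.bijective_map_eta (PrimeSpectrum.comap (η.q A) Q).asIdeal.ResidueField).2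
    (η.map (phiQ η hA Q) z)
  refine ⟨w, ?_⟩
  apply (η.map (phiQ η hA Q)).injective
  rw [← map_comp_apply, phiQ_comp]
  exact hw

theorem Nmap_q_bijective (hA : (minimalPrimes A).Finite) : Function.Bijective (η.Nmap (η.q A)) :=
  Nmap_bijective_of η (η.q A) (comap_q_bijective η hA) (map_rho_bijective η hA)

theorem Nmap_q_eq_t (hA : (minimalPrimes A).Finite) (x : η.M A) : η.Nmap (η.q A) (x : η.N A) = η.t (η.M A) x := by
  funext Q
  rw [Nmap_apply, t_apply]
  apply (η.map (phiQ η hA Q)).injective
  rw [← map_comp_apply, phiQ_comp, eta_natural_apply, phiQ_algebraMap, eta_obj_eq_map_eta]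

end NmapBij

end Groth.Agent.Lib.helper20.EtaPt
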