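import Groth.Agent.Lib.helper20.EtaPt5
import Groth.Agent.S13802

/-! Helper library for the `EtaPt` cluster (helper20), part 6: the relative construction. -/

set_option autoImplicit false
universe u

namespace Groth.Agent.Lib.helper20.EtaPt

open _root_.EtaPt

variable (η : FieldEndo.{u})

section Rel

variable {A B : Type u} [CommRing A] [CommRing B] (f : A →+* B)

theorem mem_rel_iff (b : B) : b ∈ η.rel f ↔ ∃ x ∈ η.M A, η.Nmap f x = η.t B b := Iff.rfl

theorem Nmap_injective_of_comap_surjective (hs : Function.Surjective (PrimeSpectrum.comap f)) :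
    Function.Injective (η.Nmap f) := by
  intro x y hxy
  funext p
  obtain ⟨q, rfl⟩ := hs p
  have h1 := congrFun hxy q
  rw [Nmap_apply, Nmap_apply] at h1
  exact (η.map _).injective h1

theorem isNilpotent_of_t_eq_zero (b : B) (hb : η.t B b = 0) : IsNilpotent b := by
  rw [← mem_nilradical, nilradical_eq_sInf, Ideal.mem_sInf]
  intro J hJ
  have h1 := congrFun hb ⟨J, hJ⟩
  exact (iot_eq_zero_iff η ⟨J, hJ⟩ b).mp h1

theorem t_comp : (η.t B).comp f = (η.Nmap f).comp (η.t A) :=
  RingHom.ext fun a => (η.Nmap_t_apply f a).symm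

/-- elements of `rel f` are integral over `A` -/
theorem isIntegralElem_of_mem_rel (hA : (minimalPrimes A).Finite) (b : B) (hb : b ∈ η.rel f) :
    f.IsIntegralElem b := by
  obtain ⟨x, hx, hxb⟩ := hb
  obtain ⟨P, hP, hP0⟩ := Groth.Agent.S13802.result η A hA ⟨x, hx⟩
  have h1 : P.eval₂ (η.t A) x = 0 := by
    have h2 := Polynomial.hom_eval₂ P (η.q A) (η.M A).subtype ⟨x, hx⟩
    rw [subtype_comp_q, hP0, map_zero] at h2
    exact h2.symm
  have h3 : η.t B (P.eval₂ f b) = 0 := by
    rw [Polynomial.hom_eval₂, ← hxb, t_comp, ← Polynomial.hom_eval₂, h1, map_zero]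
  obtain ⟨k, hk⟩ := isNilpotent_of_t_eq_zero η _ h3
  exact ⟨P ^ k, hP.pow k, by rw [Polynomial.eval₂_pow, hk]⟩

theorem subtype_comp_qRel : (η.rel f).subtype.comp (η.qRel f) = f := RingHom.ext fun _ => rfl

theorem qRel_isIntegral (hA : (minimalPrimes A).Finite) : (η.qRel f).IsIntegral := by
  rintro ⟨b, hb⟩
  obtain ⟨P, hP, hP0⟩ := isIntegralElem_of_mem_rel η f hA b hb
  refine ⟨P, hP, Subtype.ext ?_⟩
  have h2 := Polynomial.hom_eval₂ P (η.qRel f) (η.rel f).subtype ⟨b, hb⟩
  rw [subtype_comp_qRel] at h2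
  exact h2.trans hP0

variable (hs : Function.Surjective (PrimeSpectrum.comap f))

/-- the map `rel f → M A` -/
noncomputable def psi (hs : Function.Surjective (PrimeSpectrum.comap f)) : η.rel f →+* η.M A :=
  ((Subring.equivMapOfInjective (η.M A) (η.Nmap f)
    (Nmap_injective_of_comap_surjective η f hs)).symm : _ →+* η.M A).comp
    ((η.t B).restrict (η.rel f) ((η.M A).map (η.Nmap f)) (fun _ hb => hb))

theorem psi_spec (hs : Function.Surjective (PrimeSpectrum.comap f)) (b : η.rel f) :
    η.Nmap f (psi η f hs b : η.N A) = η.t B b := by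
  set e := Subring.equivMapOfInjective (η.M A) (η.Nmap f)
    (Nmap_injective_of_comap_surjective η f hs) with he
  set y : (η.M A).map (η.Nmap f) :=
    (η.t B).restrict (η.rel f) ((η.M A).map (η.Nmap f)) (fun _ hb => hb) b with hy
  have h1 : psi η f hs b = e.symm y := rfl
  have h2 : (e (e.symm y) : η.N B) = η.Nmap f (e.symm y : η.N A) :=
    Subring.coe_equivMapOfInjective_apply _ _ _ _
  rw [e.apply_symm_apply] at h2
  rw [h1, ← h2]
  rfl

theorem psi_qRel (hs : Function.Surjective (PrimeSpectrum.comap f)) (a : A) :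
    psi η f hs (η.qRel f a) = η.q A a := by
  apply Subtype.ext
  apply Nmap_injective_of_comap_surjective η f hs
  rw [psi_spec]
  exact (η.Nmap_t_apply f a).symm

theorem psi_comp_qRel (hs : Function.Surjective (PrimeSpectrum.comap f)) :
    (psi η f hs).comp (η.qRel f) = η.q A := RingHom.ext fun a => psi_qRel η f hs a

theorem psi_isIntegral (hA : (minimalPrimes A).Finite)
    (hs : Function.Surjective (PrimeSpectrum.comap f)) : (psi η f hs).IsIntegral := by
  apply RingHom.IsIntegral.tower_top (η.qRel f)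
  rw [psi_comp_qRel]
  exact Groth.Agent.S13802.result η A hA

theorem ker_psi_le (hs : Function.Surjective (PrimeSpectrum.comap f)) (Q : Ideal (η.rel f))
    [Q.IsPrime] : RingHom.ker (psi η f hs) ≤ Q := by
  intro b hb
  have h1 : η.t B b = 0 := by
    rw [← psi_spec η f hs b, RingHom.mem_ker.mp hb]
    exact map_zero _
  obtain ⟨k, hk⟩ := isNilpotent_of_t_eq_zero η _ h1
  have h2 : b ^ k = 0 := Subtype.ext hk
  exact Ideal.IsPrime.mem_of_pow_mem inferInstance k (h2 ▸ Q.zero_mem)

theorem comap_psi_surjective (hA : (minimalPrimes A).Finite)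
    (hs : Function.Surjective (PrimeSpectrum.comap f)) :
    Function.Surjective (PrimeSpectrum.comap (psi η f hs)) := by
  intro Q
  let _ : Algebra (η.rel f) (η.M A) := (psi η f hs).toAlgebra
  have hint : Algebra.IsIntegral (η.rel f) (η.M A) := ⟨psi_isIntegral η f hA hs⟩
  obtain ⟨Q', -, hQ', hQ'c⟩ := Ideal.exists_ideal_over_prime_of_isIntegral Q.asIdeal
    (⊥ : Ideal (η.M A)) (ker_psi_le η f hs Q.asIdeal)
  exact ⟨⟨Q', hQ'⟩, PrimeSpectrum.ext hQ'c⟩

theorem comap_qRel_bijective (hA : (minimalPrimes A).Finite)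
    (hs : Function.Surjective (PrimeSpectrum.comap f)) :
    Function.Bijective (PrimeSpectrum.comap (η.qRel f)) := by
  have hcomp : ∀ Q' : PrimeSpectrum (η.M A),
      PrimeSpectrum.comap (η.qRel f) (PrimeSpectrum.comap (psi η f hs) Q') =
        PrimeSpectrum.comap (η.q A) Q' := by
    intro Q'
    apply PrimeSpectrum.ext
    change (Q'.asIdeal.comap (psi η f hs)).comap (η.qRel f) = Q'.asIdeal.comap (η.q A)
    rw [Ideal.comap_comap, psi_comp_qRel]
  constructor
  · intro Q₁ Q₂ h12
    obtain ⟨Q₁', rfl⟩ := comap_psi_surjective η f hA hs Q₁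
    obtain ⟨Q₂', rfl⟩ := comap_psi_surjective η f hA hs Q₂
    rw [hcomp, hcomp] at h12
    rw [comap_q_injective η hA h12]
  · intro P
    exact ⟨PrimeSpectrum.comap (psi η f hs) (QP η P), by rw [hcomp, comap_q_QP]⟩

end Rel

end Groth.Agent.Lib.helper20.EtaPt
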