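import Groth.Agent.Lib.helper20.EtaPt6

/-! Helper library for the `EtaPt` cluster (helper20), part 7: residue fields of `rel f`. -/

set_option autoImplicit false
universe u

namespace Groth.Agent.Lib.helper20.EtaPt

open _root_.EtaPt

variable (η : FieldEndo.{u})

section Rel2

variable {A B : Type u} [CommRing A] [CommRing B] (f : A →+* B)

/-- if `φ ∘ ρ = η_k` then `F(ρ)` is bijective -/
theorem map_bijective_of_comp_eq_eta {k k' : Type u} [Field k] [Field k'] (ρ : k →+* k')
    (φ : k' →+* η.obj k) (h : φ.comp ρ = η.eta k) : Function.Bijective (η.map ρ) := by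
  refine ⟨(η.map ρ).injective, fun z => ?_⟩
  obtain ⟨w, hw⟩ := (η.bijective_map_eta k).2 (η.map φ z)
  refine ⟨w, (η.map φ).injective ?_⟩
  rw [← map_comp_apply, h]
  exact hw

theorem exists_phi_of_eq (hA : (minimalPrimes A).Finite) (P : PrimeSpectrum A)
    (Q' : PrimeSpectrum (η.M A)) (h : P.asIdeal = Q'.asIdeal.comap (η.q A)) :
    ∃ φ : Q'.asIdeal.ResidueField →+* η.obj P.asIdeal.ResidueField,
      φ.comp (Ideal.ResidueField.map P.asIdeal Q'.asIdeal (η.q A) h) =
        η.eta P.asIdeal.ResidueField := by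
  have hP : P = PrimeSpectrum.comap (η.q A) Q' := PrimeSpectrum.ext h
  subst hP
  exact ⟨phiQ η hA Q', phiQ_comp η hA Q'⟩

theorem exists_phi_rel (hA : (minimalPrimes A).Finite)
    (hs : Function.Surjective (PrimeSpectrum.comap f)) (Q : PrimeSpectrum (η.rel f)) :
    ∃ φ : Q.asIdeal.ResidueField →+*
        η.obj (PrimeSpectrum.comap (η.qRel f) Q).asIdeal.ResidueField,
      φ.comp (Ideal.ResidueField.map (PrimeSpectrum.comap (η.qRel f) Q).asIdeal Q.asIdeal
        (η.qRel f) rfl) = η.eta (PrimeSpectrum.comap (η.qRel f) Q).asIdeal.ResidueField := by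
  obtain ⟨Q', hQ'⟩ := comap_psi_surjective η f hA hs Q
  have hQ : Q.asIdeal = Q'.asIdeal.comap (psi η f hs) := by
    rw [← hQ']
    rfl
  have hP : (PrimeSpectrum.comap (η.qRel f) Q).asIdeal = Q'.asIdeal.comap (η.q A) := by
    change Q.asIdeal.comap (η.qRel f) = _
    rw [hQ, Ideal.comap_comap, psi_comp_qRel]
  obtain ⟨φ, hφ⟩ := exists_phi_of_eq η hA _ Q' hP
  refine ⟨φ.comp (Ideal.ResidueField.map Q.asIdeal Q'.asIdeal (psi η f hs) hQ), ?_⟩
  apply Ideal.ResidueField.ringHom_ext
  ext a
  simp only [RingHom.comp_apply]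
  rw [Ideal.ResidueField.map_algebraMap, Ideal.ResidueField.map_algebraMap, psi_qRel]
  have h1 := congrArg (fun k => k (algebraMap A _ a)) (congrArg DFunLike.coe hφ)
  simp only [RingHom.comp_apply] at h1
  rw [Ideal.ResidueField.map_algebraMap] at h1
  exact h1

theorem Nmap_qRel_bijective (hA : (minimalPrimes A).Finite)
    (hs : Function.Surjective (PrimeSpectrum.comap f)) :
    Function.Bijective (η.Nmap (η.qRel f)) := by
  apply Nmap_bijective_of η (η.qRel f) (comap_qRel_bijective η f hA hs)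
  intro Q
  obtain ⟨φ, hφ⟩ := exists_phi_rel η f hA hs Q
  exact map_bijective_of_comp_eq_eta η _ φ hφ

end Rel2

end Groth.Agent.Lib.helper20.EtaPt
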