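import Groth.Agent.Lib.helper20.EtaPt7

/-! Helper library for the `EtaPt` cluster (helper20), part 8: descent along integral maps that
are surjective on spectra. -/

set_option autoImplicit false
universe u

namespace Groth.Agent.Lib.helper20.EtaPt

open _root_.EtaPt

variable (η : FieldEndo.{u})

section Descent

theorem comap_surjective_of_injective_local {R R' : Type*} [CommRing R] [IsDomain R]
    [ValuationRing R] [CommRing R'] [IsDomain R'] [IsLocalRing R'] (i : R →+* R')
    (hi : Function.Injective i) (hloc : IsLocalHom i) :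
    Function.Surjective (PrimeSpectrum.comap i) := by
  let _ : Algebra R R' := i.toAlgebra
  have hfs : FaithfulSMul R R' := (faithfulSMul_iff_algebraMap_injective R R').mpr hi
  have htf : Module.IsTorsionFree R R' := inferInstance
  have hflat : Module.Flat R R' := by
    rw [Module.Flat.flat_iff_torsion_eq_bot_of_isBezout,
      ← Submodule.isTorsionFree_iff_torsion_eq_bot]
    exact htf
  have hl : IsLocalHom (algebraMap R R') := hloc
  have hff := Module.FaithfullyFlat.of_flat_of_isLocalHom (A := R) (B := R')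
  exact PrimeSpectrum.comap_surjective_of_faithfullyFlat (A := R) (B := R')

theorem mem_valuationSubring_of_isIntegralElem {A K : Type u} [CommRing A] [Field K] (ι : A →+* K)
    (V : ValuationSubring K) (h : ∀ a, ι a ∈ V) (y : K) (hy : ι.IsIntegralElem y) : y ∈ V := by
  obtain ⟨P, hP, hP0⟩ := hy
  have hint : IsIntegral V y := by
    refine ⟨P.map (gVι ι V h), hP.map _, ?_⟩
    rw [Polynomial.eval₂_map]
    exact hP0
  obtain ⟨v, hv⟩ := IsIntegrallyClosed.algebraMap_eq_of_integral hint
  rw [← hv]
  exact v.2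

variable {A B : Type u} [CommRing A] [CommRing B]

/-- an integral map that is surjective on spectra: every map from `A` to a domain extends to
`B` after enlarging the target to a field -/
theorem exists_extension (f : A →+* B) (hf : f.IsIntegral)
    (hs : Function.Surjective (PrimeSpectrum.comap f))
    (R : Type u) [CommRing R] [IsDomain R] (g : A →+* R) :
    ∃ (Ω : Type u) (_ : Field Ω) (j₀ : R →+* Ω) (G₀ : B →+* Ω),
      Function.Injective j₀ ∧ G₀.comp f = j₀.comp g := by
  obtain ⟨q, hq⟩ := hs ⟨RingHom.ker g, RingHom.ker_isPrime g⟩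
  have hpg : q.asIdeal.comap f = RingHom.ker g := congrArg PrimeSpectrum.asIdeal hq
  let D := A ⧸ q.asIdeal.comap f
  let S := B ⧸ q.asIdeal
  let K := FractionRing R
  let Ω := AlgebraicClosure K
  let φ : D →+* S := Ideal.quotientMap q.asIdeal f le_rfl
  have hφinj : Function.Injective φ := Ideal.quotientMap_injective
  have hφint : φ.IsIntegral := hf.quotient
  let g₁ : D →+* R := Ideal.Quotient.lift (q.asIdeal.comap f) g
    (fun a ha => by rw [hpg] at ha; exact RingHom.mem_ker.mp ha)
  have hg₁inj : Function.Injective g₁ :=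
    RingHom.lift_injective_of_ker_le_ideal _ _ (le_of_eq hpg.symm)
  let j₀ : R →+* Ω := (algebraMap K Ω).comp (algebraMap R K)
  have hj₀ : Function.Injective j₀ :=
    (algebraMap K Ω).injective.comp (IsFractionRing.injective R K)
  let ψ : D →+* Ω := j₀.comp g₁
  have hψinj : Function.Injective ψ := hj₀.comp hg₁inj
  let _ : Algebra D S := φ.toAlgebra
  let _ : Algebra D Ω := ψ.toAlgebra
  have h1 : FaithfulSMul D S := (faithfulSMul_iff_algebraMap_injective D S).mpr hφinj
  have h2 : FaithfulSMul D Ω := (faithfulSMul_iff_algebraMap_injective D Ω).mpr hψinj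
  have h3 : Algebra.IsIntegral D S := ⟨hφint⟩
  let τ : S →ₐ[D] Ω := IsAlgClosed.lift
  refine ⟨Ω, inferInstance, j₀, (τ : S →+* Ω).comp (Ideal.Quotient.mk q.asIdeal), hj₀, ?_⟩
  ext a
  have h4 : τ (algebraMap D S (Ideal.Quotient.mk _ a)) = algebraMap D Ω (Ideal.Quotient.mk _ a) :=
    τ.commutes _
  exact h4

/-- descent of membership in `M` along an integral map which is surjective on spectra -/
theorem mem_M_of_Nmap_mem_M (f : A →+* B) (hf : f.IsIntegral)
    (hs : Function.Surjective (PrimeSpectrum.comap f)) (x : η.N A)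
    (hx : η.Nmap f x ∈ η.M B) : x ∈ η.M A := by
  intro R _ _ _ hR g
  obtain ⟨Ω, _, j₀, G₀, hj₀, hG₀⟩ := exists_extension f hf hs R g
  let j : R →+* η.obj Ω := (η.eta Ω).comp j₀
  let G : B →+* η.obj Ω := (η.eta Ω).comp G₀
  have hj : Function.Injective j := (η.eta Ω).injective.comp hj₀
  have hGf : G.comp f = j.comp g := by
    rw [RingHom.comp_assoc, hG₀, ← RingHom.comp_assoc]
  obtain ⟨R', h, hc⟩ := exists_valuationSubring_center' j hj (IsLocalRing.closedPoint R)
  have hGR' : ∀ b, G b ∈ R' := by
    intro b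
    apply mem_valuationSubring_of_isIntegralElem (G.comp f) R'
      (fun a => by rw [hGf]; exact h (g a)) (G b)
    exact (hf b).map G
  have hi : Function.Injective (gVι j R' h) := gVι_injective j hj R' h
  have hg'f : (gVι G R' hGR').comp f = (gVι j R' h).comp g :=
    RingHom.ext fun a => Subtype.ext (congrArg (fun k => k a) (congrArg DFunLike.coe hGf))
  obtain ⟨r', hr'⟩ := hx R' (InV_valuationSubring_obj η R') (gVι G R' hGR')
  rw [← Nmap_comp, hg'f, Nmap_comp] at hr'
  have hloc : IsLocalHom (gVι j R' h) := ((IsLocalRing.local_hom_TFAE (gVι j R' h)).out 0 4).mpr hc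
  have hNinj : Function.Injective (η.Nmap (gVι j R' h)) :=
    Nmap_injective_of_comap_surjective η _ (comap_surjective_of_injective_local _ hi hloc)
  have h0 : (⊥ : Ideal R) = (⊥ : Ideal R').comap (gVι j R' h) :=
    (Ideal.comap_bot_of_injective _ hi).symm
  obtain ⟨ℓ, hℓ⟩ := (eta_bijective_residueField_bot η hR).2 (η.Nmap g x (gen R))
  have h1 := congrFun hr' (gen R')
  rw [Nmap_apply' η _ _ (gen R') (gen R) h0, t_apply, ← hℓ, eta_natural_apply] at h1
  have h2 : algebraMap R' (Kf R') r' =
      Ideal.ResidueField.map (⊥ : Ideal R) (⊥ : Ideal R') (gVι j R' h) h0 ℓ :=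
    (η.eta (Kf R')).injective h1
  have hℓR : ∃ r : R, algebraMap R (Kf R) r = ℓ := by
    by_cases hℓ0 : ℓ = 0
    · exact ⟨0, by rw [map_zero, hℓ0]⟩
    rcases ValuationRing.isInteger_or_isInteger R ℓ with ⟨r, hr⟩ | ⟨r₀, hr₀⟩
    · exact ⟨r, hr⟩
    · by_cases hu : IsUnit r₀
      · obtain ⟨u, rfl⟩ := hu
        refine ⟨((u⁻¹ : Rˣ) : R), ?_⟩
        have h3 : algebraMap R (Kf R) ((u⁻¹ : Rˣ) : R) * algebraMap R (Kf R) (u : R) = 1 := by
          rw [← map_mul, Units.inv_mul, map_one]
        rw [hr₀] at h3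
        exact (eq_inv_of_mul_eq_one_left h3).trans (inv_inv ℓ)
      · exfalso
        have hr₀m : r₀ ∈ IsLocalRing.maximalIdeal R := (IsLocalRing.mem_maximalIdeal r₀).mpr hu
        have hr₀m' : gVι j R' h r₀ ∈ IsLocalRing.maximalIdeal R' := by
          have h7 : r₀ ∈ (IsLocalRing.closedPoint R).asIdeal := hr₀m
          rw [← hc] at h7
          exact h7
        have h4 : algebraMap R' (Kf R') (gVι j R' h r₀ * r') = algebraMap R' (Kf R') 1 := by
          rw [map_mul, h2, ← Ideal.ResidueField.map_algebraMap (⊥ : Ideal R) (⊥ : Ideal R')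
            (gVι j R' h) h0 r₀, hr₀, ← map_mul, inv_mul_cancel₀ hℓ0, map_one, map_one]
        have h5 : gVι j R' h r₀ * r' = 1 := IsFractionRing.injective R' (Kf R') h4
        exact (IsLocalRing.mem_maximalIdeal _).mp hr₀m' (IsUnit.of_mul_eq_one _ h5)
  obtain ⟨r, hr⟩ := hℓR
  have h6 : r' = gVι j R' h r := by
    apply IsFractionRing.injective R' (Kf R')
    rw [h2, ← hr, Ideal.ResidueField.map_algebraMap]
  refine ⟨r, ?_⟩
  apply hNinj
  rw [η.Nmap_t_apply, ← h6]
  exact hr'

end Descent

end Groth.Agent.Lib.helper20.EtaPt
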