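import Groth.Agent.Lib.helper20.EtaPt5

/-! Helper library for the `EtaPt` cluster (helper20): localizations. -/

set_option autoImplicit false
universe u

namespace Groth.Agent.Lib.helper20.EtaPt

open _root_.EtaPt

variable (η : FieldEndo.{u})

section Loc

variable {A : Type u} [CommRing A] (M : Submonoid A) (S : Type u) [CommRing S] [Algebra A S]
  [IsLocalization M S]

include M in
theorem map_residue_bijective_of_isLocalization (q : PrimeSpectrum S) (P : PrimeSpectrum A)
    (h : P.asIdeal = q.asIdeal.comap (algebraMap A S)) :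
    Function.Bijective (η.map (Ideal.ResidueField.map P.asIdeal q.asIdeal (algebraMap A S) h)) :=
  map_bijective_of_bijective η _
    ((RingHom.surjectiveOnStalks_of_isLocalization M S).residueFieldMap_bijective _ _ h)

theorem exists_prime_of_disjoint (Q : PrimeSpectrum A) (hd : Disjoint (M : Set A) Q.asIdeal) :
    ∃ q : PrimeSpectrum S, Q.asIdeal = q.asIdeal.comap (algebraMap A S) :=
  ⟨⟨Q.asIdeal.map (algebraMap A S), IsLocalization.isPrime_of_isPrime_disjoint M S _ Q.2 hd⟩,
    (IsLocalization.under_map_of_isPrime_disjoint M S Q.2 hd).symm⟩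

theorem disjoint_of_eq_comap (q : PrimeSpectrum S) (Q : PrimeSpectrum A)
    (h : Q.asIdeal = q.asIdeal.comap (algebraMap A S)) : Disjoint (M : Set A) Q.asIdeal := by
  rw [Set.disjoint_left]
  intro m hm hmQ
  rw [h] at hmQ
  exact q.2.ne_top (Ideal.eq_top_of_isUnit_mem _ hmQ (IsLocalization.map_units S ⟨m, hm⟩))

theorem eq_zero_of_Nmap_eq_zero_of_disjoint (z : η.N A) (hz : η.Nmap (algebraMap A S) z = 0)
    (Q : PrimeSpectrum A) (hd : Disjoint (M : Set A) Q.asIdeal) : z Q = 0 := by
  obtain ⟨q, hq⟩ := exists_prime_of_disjoint M S Q hd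
  have h1 := congrFun hz q
  rw [Nmap_apply' η _ z q Q hq] at h1
  exact (map_eq_zero_iff _ (η.map _).injective).mp h1

/-- extension by zero along a localization -/
theorem exists_Nmap_eq (y : η.N S) :
    ∃ x : η.N A, η.Nmap (algebraMap A S) x = y ∧
      ∀ Q : PrimeSpectrum A, ¬ Disjoint (M : Set A) Q.asIdeal → x Q = 0 := by
  classical
  have hex : ∀ p : PrimeSpectrum A, ∃ w : η.obj p.asIdeal.ResidueField,
      (∀ (q : PrimeSpectrum S) (h : p.asIdeal = q.asIdeal.comap (algebraMap A S)),
        η.map (Ideal.ResidueField.map p.asIdeal q.asIdeal (algebraMap A S) h) w = y q) ∧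
      (¬ Disjoint (M : Set A) p.asIdeal → w = 0) := by
    intro p
    by_cases hp : Disjoint (M : Set A) p.asIdeal
    · obtain ⟨q₀, hq₀⟩ := exists_prime_of_disjoint M S p hp
      obtain ⟨w, hw⟩ := (map_residue_bijective_of_isLocalization η M S q₀ p hq₀).2 (y q₀)
      refine ⟨w, fun q h => ?_, fun hnd => absurd hp hnd⟩
      have hqq : q = q₀ := PrimeSpectrum.localization_comap_injective S M
        (PrimeSpectrum.ext (h.symm.trans hq₀))
      subst hqq
      exact hw
    · exact ⟨0, fun q h => absurd (disjoint_of_eq_comap M S q p h) hp, fun _ => rfl⟩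
  choose x hx using hex
  refine ⟨x, ?_, fun Q hQ => (hx Q).2 hQ⟩
  funext q
  rw [Nmap_apply]
  exact (hx _).1 q rfl

end Loc

end Groth.Agent.Lib.helper20.EtaPt
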