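import Groth.Agent.Lib.helper20.EtaPtLoc
import Groth.Agent.Lib.helper20.EtaPt6

/-! Helper library for the `EtaPt` cluster (helper20): `M` and localization away from an
element. -/

set_option autoImplicit false
universe u

namespace Groth.Agent.Lib.helper20.EtaPt

open _root_.EtaPt

variable (η : FieldEndo.{u})

section LocM

theorem valuationRing_of_isLocalization {R : Type*} [CommRing R] [IsDomain R] [ValuationRing R]
    (M : Submonoid R) (S : Type*) [CommRing S] [IsDomain S] [Algebra R S] [IsLocalization M S] :
    ValuationRing S := by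
  suffices hpre : PreValuationRing S from { }
  refine ⟨fun x y => ?_⟩
  obtain ⟨a, s, rfl⟩ := IsLocalization.exists_mk'_eq M x
  obtain ⟨b, t, rfl⟩ := IsLocalization.exists_mk'_eq M y
  obtain ⟨c, hc | hc⟩ := ValuationRing.cond a b
  · refine ⟨IsLocalization.mk' S (c * s) t, Or.inl ?_⟩
    rw [IsLocalization.eq_mk'_iff_mul_eq, mul_assoc, IsLocalization.mk'_spec, map_mul, ← mul_assoc,
      mul_comm (IsLocalization.mk' S a s), mul_assoc, IsLocalization.mk'_spec, ← map_mul, mul_comm,
      hc]
  · refine ⟨IsLocalization.mk' S (c * t) s, Or.inr ?_⟩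
    rw [IsLocalization.eq_mk'_iff_mul_eq, mul_assoc, IsLocalization.mk'_spec, map_mul, ← mul_assoc,
      mul_comm (IsLocalization.mk' S b t), mul_assoc, IsLocalization.mk'_spec, ← map_mul, mul_comm,
      hc]

theorem finite_minimalPrimes_of_isLocalization {A : Type*} [CommRing A] (M : Submonoid A)
    (S : Type*) [CommRing S] [Algebra A S] [IsLocalization M S] (hA : (minimalPrimes A).Finite) :
    (minimalPrimes S).Finite := by
  have h1 : minimalPrimes S = Ideal.under A ⁻¹' (minimalPrimes A) := by
    have h2 := IsLocalization.minimalPrimes_map M S (⊥ : Ideal A)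
    rwa [Ideal.map_bot] at h2
  rw [h1]
  apply hA.preimage
  intro J₁ _ J₂ _ h12
  rw [← IsLocalization.map_under M S J₁, ← IsLocalization.map_under M S J₂, h12]

theorem t_injective_of_isReduced (B : Type u) [CommRing B] [IsReduced B] :
    Function.Injective (η.t B) := by
  intro a b hab
  have h1 : η.t B (a - b) = 0 := by rw [map_sub, hab, sub_self]
  exact sub_eq_zero.mp (IsReduced.eq_zero _ (isNilpotent_of_t_eq_zero η _ h1))

theorem InV_of_bijective_Kf (R : Type u) [CommRing R] [IsDomain R]
    (h : Function.Bijective (η.eta (Kf R))) : η.InV R :=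
  eta_bijective_of_bijective η
    (((FractionRing.algEquiv R (Kf R)).symm : Kf R ≃ₐ[R] FractionRing R) :
      Kf R →+* FractionRing R) (AlgEquiv.bijective _) h

theorem InV_of_isLocalization {R : Type u} [CommRing R] [IsDomain R] (hR : η.InV R)
    (M : Submonoid R) (hM : M ≤ nonZeroDivisors R) (R' : Type u) [CommRing R'] [IsDomain R']
    [Algebra R R'] [IsLocalization M R'] : η.InV R' := by
  have hi : Function.Injective (algebraMap R R') := IsLocalization.injective R' hM
  have h0 : (⊥ : Ideal R) = (⊥ : Ideal R').comap (algebraMap R R') :=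
    (Ideal.comap_bot_of_injective _ hi).symm
  apply InV_of_bijective_Kf
  exact eta_bijective_of_bijective η
    (Ideal.ResidueField.map (⊥ : Ideal R) (⊥ : Ideal R') (algebraMap R R') h0)
    ((RingHom.surjectiveOnStalks_of_isLocalization M R').residueFieldMap_bijective _ _ h0)
    (eta_bijective_residueField_bot η hR)

/-- elements of a localization of an integrally closed domain which are integral over the domain
come from the domain -/
theorem exists_algebraMap_eq_of_isIntegralElem {R : Type u} [CommRing R] [IsDomain R]
    [IsIntegrallyClosed R] (M : Submonoid R) (hM : M ≤ nonZeroDivisors R) (R' : Type u)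
    [CommRing R'] [Algebra R R'] [IsLocalization M R'] (s' : R')
    (hs' : (algebraMap R R').IsIntegralElem s') : ∃ r, algebraMap R R' r = s' := by
  have hunits : ∀ m : M, IsUnit (algebraMap R (FractionRing R) (m : R)) := fun m =>
    IsUnit.mk0 _ (fun h0 => (nonZeroDivisors.ne_zero (hM m.2))
      (IsFractionRing.injective R (FractionRing R) (by rw [h0, map_zero])))
  have hj : ∀ r, (IsLocalization.lift hunits : R' →+* FractionRing R) (algebraMap R R' r) =
      algebraMap R (FractionRing R) r := fun r => IsLocalization.lift_eq hunits r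
  have hjinj : Function.Injective (IsLocalization.lift hunits : R' →+* FractionRing R) := by
    rw [IsLocalization.lift_injective_iff]
    intro x y
    constructor
    · intro h
      rw [IsLocalization.injective R' hM h]
    · intro h
      rw [IsFractionRing.injective R (FractionRing R) h]
  have hint : IsIntegral R ((IsLocalization.lift hunits : R' →+* FractionRing R) s') := by
    have h1 := hs'.map (IsLocalization.lift hunits : R' →+* FractionRing R)
    have h2 : (IsLocalization.lift hunits : R' →+* FractionRing R).comp (algebraMap R R') =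
        algebraMap R (FractionRing R) := RingHom.ext hj
    rw [h2] at h1
    exact h1
  obtain ⟨r, hr⟩ := IsIntegrallyClosed.algebraMap_eq_of_integral hint
  exact ⟨r, hjinj (by rw [hj, hr])⟩

theorem eval₂_t_eq_zero_of_eval₂_q {B : Type u} [CommRing B] {y : η.N B} (hy : y ∈ η.M B)
    (P : Polynomial B) (h : P.eval₂ (η.q B) ⟨y, hy⟩ = 0) : P.eval₂ (η.t B) y = 0 := by
  have h2 := Polynomial.hom_eval₂ P (η.q B) (η.M B).subtype ⟨y, hy⟩
  rw [subtype_comp_q, h, map_zero] at h2
  exact h2.symm

end LocM

end Groth.Agent.Lib.helper20.EtaPt
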