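import Groth.Agent.Lib.helper20.EtaPtLoc2
import Groth.Agent.S13802

/-! Helper library for the `EtaPt` cluster (helper20): `M (A_f)` versus `M A`. -/

set_option autoImplicit false
universe u

namespace Groth.Agent.Lib.helper20.EtaPt

open _root_.EtaPt

variable (η : FieldEndo.{u})

section LocM3

variable {A : Type u} [CommRing A]

/-- every element of `M (A_f)` becomes, after multiplication by a power of `f`, the image of an
element of `M A` -/
theorem exists_mem_M_away (hA : (minimalPrimes A).Finite) (f : A)
    (y : η.N (Localization.Away f)) (hy : y ∈ η.M (Localization.Away f)) :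
    ∃ x ∈ η.M A, ∃ n : ℕ,
      y * η.t (Localization.Away f) (algebraMap A (Localization.Away f) f) ^ n =
        η.Nmap (algebraMap A (Localization.Away f)) x := by
  have hS : (minimalPrimes (Localization.Away f)).Finite :=
    finite_minimalPrimes_of_isLocalization (Submonoid.powers f) (Localization.Away f) hA
  obtain ⟨P, hPm, hP0⟩ := Groth.Agent.S13802.result η (Localization.Away f) hS ⟨y, hy⟩
  have hP0' : P.eval₂ (η.t (Localization.Away f)) y = 0 := eval₂_t_eq_zero_of_eval₂_q η hy P hP0
  -- clear denominators
  obtain ⟨N, P', hP'm, hz⟩ : ∃ (N : ℕ) (P' : Polynomial A), P'.Monic ∧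
      P'.eval₂ ((η.t (Localization.Away f)).comp (algebraMap A (Localization.Away f)))
        (η.t (Localization.Away f) (algebraMap A (Localization.Away f) f) ^ N * y) = 0 := by
    let _ : Algebra (Localization.Away f) (η.N (Localization.Away f)) :=
      (η.t (Localization.Away f)).toAlgebra
    let _ : Algebra A (η.N (Localization.Away f)) :=
      ((η.t (Localization.Away f)).comp (algebraMap A (Localization.Away f))).toAlgebra
    have : IsScalarTower A (Localization.Away f) (η.N (Localization.Away f)) :=
      IsScalarTower.of_algebraMap_eq (fun a => rfl)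
    have hyint : IsIntegral (Localization.Away f) y := ⟨P, hPm, hP0'⟩
    obtain ⟨⟨m, N, rfl⟩, P', hP'm, hP'0⟩ :=
      IsIntegral.exists_multiple_integral_of_isLocalization (Submonoid.powers f) y hyint
    refine ⟨N, P', hP'm, ?_⟩
    have hsmul : ((⟨f ^ N, N, rfl⟩ : Submonoid.powers f) • y : η.N (Localization.Away f)) =
        η.t (Localization.Away f) (algebraMap A (Localization.Away f) f) ^ N * y := by
      rw [Submonoid.smul_def, Algebra.smul_def]
      show η.t (Localization.Away f) (algebraMap A (Localization.Away f) (f ^ N)) * y = _
      rw [map_pow, map_pow]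
    rw [← hsmul]
    exact hP'0
  obtain ⟨x₀, hx₀, -⟩ := exists_Nmap_eq η (Submonoid.powers f) (Localization.Away f) y
  refine ⟨η.t A f ^ (N + 1) * x₀, ?_, N + 1, ?_⟩
  swap
  · rw [map_mul, map_pow, η.Nmap_t_apply, hx₀, mul_comm]
  intro R _ _ _ hR g
  rw [map_mul, map_pow, η.Nmap_t_apply]
  by_cases hgf : g f = 0
  · refine ⟨0, ?_⟩
    rw [hgf, map_zero, zero_pow (Nat.succ_ne_zero N), zero_mul]
  have hM : Submonoid.powers (g f) ≤ nonZeroDivisors R :=
    powers_le_nonZeroDivisors_of_noZeroDivisors hgf
  haveI : IsDomain (Localization.Away (g f)) := IsLocalization.isDomain_localization hM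
  haveI : ValuationRing (Localization.Away (g f)) :=
    valuationRing_of_isLocalization (Submonoid.powers (g f)) (Localization.Away (g f))
  have hInV : η.InV (Localization.Away (g f)) :=
    InV_of_isLocalization η hR (Submonoid.powers (g f)) hM (Localization.Away (g f))
  have hg' : (Localization.awayMap g f).comp (algebraMap A (Localization.Away f)) =
      (algebraMap R (Localization.Away (g f))).comp g :=
    RingHom.ext fun a => by
      show IsLocalization.Away.map (Localization.Away f) (Localization.Away (g f)) g f
        (algebraMap A (Localization.Away f) a) = _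
      unfold IsLocalization.Away.map
      rw [IsLocalization.map_eq]
      rfl
  obtain ⟨r', hr'⟩ := hy (Localization.Away (g f)) hInV (Localization.awayMap g f)
  have h1 : η.Nmap (algebraMap R (Localization.Away (g f))) (η.Nmap g x₀) =
      η.t (Localization.Away (g f)) r' := by
    rw [← Nmap_comp, ← hg', Nmap_comp, hx₀, hr']
  have hg'f : Localization.awayMap g f (algebraMap A (Localization.Away f) f) =
      algebraMap R (Localization.Away (g f)) (g f) :=
    congrArg (fun k => k f) (congrArg DFunLike.coe hg')
  have hs'int : (algebraMap R (Localization.Away (g f))).IsIntegralElem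
      (algebraMap R (Localization.Away (g f)) (g f) ^ N * r') := by
    apply RingHom.isIntegralElem.of_comp (f := g)
    refine ⟨P', hP'm, ?_⟩
    apply t_injective_of_isReduced η (Localization.Away (g f))
    rw [map_zero, Polynomial.hom_eval₂]
    have h2 : (η.t (Localization.Away (g f))).comp
        ((algebraMap R (Localization.Away (g f))).comp g) =
        (η.Nmap (Localization.awayMap g f)).comp
          ((η.t (Localization.Away f)).comp (algebraMap A (Localization.Away f))) := by
      rw [← hg', ← RingHom.comp_assoc, t_comp, RingHom.comp_assoc]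
    have h3 : η.t (Localization.Away (g f))
        (algebraMap R (Localization.Away (g f)) (g f) ^ N * r') =
        η.Nmap (Localization.awayMap g f)
          (η.t (Localization.Away f) (algebraMap A (Localization.Away f) f) ^ N * y) := by
      rw [map_mul, map_pow, hr', map_mul (η.Nmap (Localization.awayMap g f)), map_pow,
        η.Nmap_t_apply, hg'f]
    rw [h2, h3, ← Polynomial.hom_eval₂, hz, map_zero]
  obtain ⟨r₂, hr₂⟩ := exists_algebraMap_eq_of_isIntegralElem (Submonoid.powers (g f)) hM
    (Localization.Away (g f)) _ hs'int
  refine ⟨g f * r₂, ?_⟩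
  funext q
  by_cases hq : g f ∈ q.asIdeal
  · have h5 : η.t R (g f) q = 0 := (iot_eq_zero_iff η q (g f)).mpr hq
    rw [Pi.mul_apply, Pi.pow_apply, h5, zero_pow (Nat.succ_ne_zero N), zero_mul, map_mul,
      Pi.mul_apply, h5, zero_mul]
  · have hd : Disjoint (Submonoid.powers (g f) : Set R) q.asIdeal :=
      (Ideal.disjoint_powers_iff_notMem_of_isPrime _).mpr hq
    have h4 : η.Nmap (algebraMap R (Localization.Away (g f)))
        (η.t R (g f * r₂) - η.t R (g f) ^ (N + 1) * η.Nmap g x₀) = 0 := by
      rw [map_sub, map_mul (η.Nmap (algebraMap R (Localization.Away (g f)))), map_pow,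
        η.Nmap_t_apply, η.Nmap_t_apply, h1, map_mul (algebraMap R (Localization.Away (g f))),
        hr₂, pow_succ, map_mul (η.t (Localization.Away (g f))),
        map_mul (η.t (Localization.Away (g f))), map_pow]
      ring
    have h6 := eq_zero_of_Nmap_eq_zero_of_disjoint η (Submonoid.powers (g f))
      (Localization.Away (g f)) _ h4 q hd
    rw [Pi.sub_apply, sub_eq_zero] at h6
    exact h6

end LocM3

end Groth.Agent.Lib.helper20.EtaPt
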