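import Mathlib

/-!
# Fibre dimension of finite modules (universe polymorphic) (helper20)

Upper semicontinuity of `x ↦ dim_{κ(x)} κ(x) ⊗ X` (adapted from helper4's `FibreDim`), and
rank–nullity identities for base changes of linear maps to residue fields.
-/

set_option autoImplicit false
universe u v

namespace Groth.Agent.Lib.helper20.FibDim

open TensorProduct

variable {A : Type u} [CommRing A]

/-- the fibre dimension of a module at a point of `Spec A` -/
noncomputable def fdim (X : Type v) [AddCommGroup X] [Module A X] (x : PrimeSpectrum A) : ℕ :=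
  Module.finrank x.asIdeal.ResidueField (x.asIdeal.ResidueField ⊗[A] X)

theorem span_one_tmul_eq_top (κ : Type*) [Field κ] [Algebra A κ] (X : Type*) [AddCommGroup X]
    [Module A X] : Submodule.span κ (Set.range fun c : X => (1 : κ) ⊗ₜ[A] c) = ⊤ := by
  rw [eq_top_iff]
  rintro z -
  induction z using TensorProduct.induction_on with
  | zero => exact Submodule.zero_mem _
  | tmul a c =>
    have : a ⊗ₜ[A] c = a • ((1 : κ) ⊗ₜ[A] c) := by rw [TensorProduct.smul_tmul', smul_eq_mul, mul_one]
    rw [this]
    exact Submodule.smul_mem _ _ (Submodule.subset_span ⟨c, rfl⟩)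
  | add a b ha hb => exact Submodule.add_mem _ ha hb

/-- If `κ ⊗ (X / range g) = 0` then `κ ⊗ g` is surjective. -/
theorem lTensor_surjective_of_subsingleton (κ : Type*) [Field κ] [Algebra A κ] {Y X : Type*}
    [AddCommGroup Y] [AddCommGroup X] [Module A Y] [Module A X] (g : Y →ₗ[A] X)
    (h : Subsingleton (κ ⊗[A] (X ⧸ LinearMap.range g))) :
    Function.Surjective (g.lTensor κ) := by
  have hex : Function.Exact (g.lTensor κ) ((LinearMap.range g).mkQ.lTensor κ) :=
    lTensor_exact κ (LinearMap.exact_map_mkQ_range g) (Submodule.mkQ_surjective _)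
  intro z
  exact (hex z).1 (Subsingleton.elim _ _)

theorem fdim_le_of_surjective {I : Type*} [Fintype I] (X : Type v) [AddCommGroup X] [Module A X]
    (g : (I →₀ A) →ₗ[A] X) (x : PrimeSpectrum A)
    (h : Function.Surjective (g.lTensor x.asIdeal.ResidueField)) : fdim X x ≤ Fintype.card I := by
  have : Nontrivial A := by
    refine ⟨⟨0, 1, fun h => x.2.ne_top ?_⟩⟩
    rw [Ideal.eq_top_iff_one, ← h]
    exact Ideal.zero_mem _
  unfold fdim
  calc Module.finrank x.asIdeal.ResidueField (x.asIdeal.ResidueField ⊗[A] X)
      ≤ Module.finrank x.asIdeal.ResidueField (x.asIdeal.ResidueField ⊗[A] (I →₀ A)) := by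
        exact LinearMap.finrank_le_finrank_of_surjective
          (f := AlgebraTensorModule.lTensor x.asIdeal.ResidueField x.asIdeal.ResidueField g) h
    _ = Fintype.card I := by
        rw [Module.finrank_baseChange, Module.finrank_finsupp_self]

/-- The fibre dimension of a finite module is upper semicontinuous. -/
theorem eventually_fdim_le (X : Type v) [AddCommGroup X] [Module A X] [Module.Finite A X]
    (x : PrimeSpectrum A) : ∀ᶠ x' in nhds x, fdim X x' ≤ fdim X x := by
  classical
  let κ := x.asIdeal.ResidueField
  let v : X → κ ⊗[A] X := fun c => (1 : κ) ⊗ₜ[A] c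
  obtain ⟨I, a, -, hspan, hli⟩ := exists_linearIndependent' κ v
  have hspan' : ⊤ ≤ Submodule.span κ (Set.range (v ∘ a)) := by
    rw [hspan, span_one_tmul_eq_top]
  let b : Module.Basis I κ (κ ⊗[A] X) := Module.Basis.mk hli hspan'
  have : Fintype I := FiniteDimensional.fintypeBasisIndex b
  have hcard : Fintype.card I = fdim X x := (Module.finrank_eq_card_basis b).symm
  let g : (I →₀ A) →ₗ[A] X := Finsupp.linearCombination A a
  have hsurj : Function.Surjective (g.lTensor κ) := by
    have hrange : LinearMap.range (AlgebraTensorModule.lTensor κ κ g) = ⊤ := by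
      rw [eq_top_iff]
      refine hspan'.trans (Submodule.span_le.2 ?_)
      rintro _ ⟨i, rfl⟩
      refine ⟨(1 : κ) ⊗ₜ[A] Finsupp.single i 1, ?_⟩
      simp [g, v]
    intro z
    have : z ∈ LinearMap.range (AlgebraTensorModule.lTensor κ κ g) := by rw [hrange]; trivial
    obtain ⟨y, hy⟩ := this
    exact ⟨y, hy⟩
  have hsub : Subsingleton (κ ⊗[A] (X ⧸ LinearMap.range g)) := by
    refine ⟨fun p q => ?_⟩
    have h0 : ∀ z : κ ⊗[A] (X ⧸ LinearMap.range g), z = 0 := by
      intro z
      obtain ⟨w, rfl⟩ := LinearMap.lTensor_surjective κ (Submodule.mkQ_surjective (LinearMap.range g)) z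
      obtain ⟨y, rfl⟩ := hsurj w
      rw [← LinearMap.comp_apply, ← LinearMap.lTensor_comp]
      have : (LinearMap.range g).mkQ ∘ₗ g = 0 := by
        ext y
        simp
      rw [this, LinearMap.lTensor_zero, LinearMap.zero_apply]
    rw [h0 p, h0 q]
  have hx : x ∉ Module.support A (X ⧸ LinearMap.range g) := by
    rw [Module.mem_support_iff_nontrivial_residueField_tensorProduct, not_nontrivial_iff_subsingleton]
    exact hsub
  have hclosed : IsClosed (Module.support A (X ⧸ LinearMap.range g)) := by
    rw [Module.support_eq_zeroLocus]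
    exact PrimeSpectrum.isClosed_zeroLocus _
  filter_upwards [hclosed.isOpen_compl.mem_nhds hx] with x' hx'
  rw [← hcard]
  apply fdim_le_of_surjective X g x'
  apply lTensor_surjective_of_subsingleton
  have := (Module.mem_support_iff_nontrivial_residueField_tensorProduct
    (M := X ⧸ LinearMap.range g) x').not.1 hx'
  exact not_nontrivial_iff_subsingleton.1 this

theorem fdim_congr {X Y : Type*} [AddCommGroup X] [Module A X] [AddCommGroup Y] [Module A Y]
    (e : X ≃ₗ[A] Y) (x : PrimeSpectrum A) : fdim X x = fdim Y x :=
  LinearEquiv.finrank_eq (e.baseChange A x.asIdeal.ResidueField X Y)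

/-- The fibre dimension of a finite projective module is locally constant. -/
theorem eventually_fdim_eq_of_projective (X : Type v) [AddCommGroup X] [Module A X]
    [Module.Finite A X] [Module.Projective A X] (x : PrimeSpectrum A) :
    ∀ᶠ x' in nhds x, fdim X x' = fdim X x := by
  have : Module.FinitePresentation A X := Module.finitePresentation_of_projective A X
  have hlc : IsLocallyConstant (Module.rankAtStalk (R := A) X) :=
    Module.isLocallyConstant_rankAtStalk
  filter_upwards [hlc.eventually_eq x] with x' hx'
  have h1 : fdim X x' = Module.rankAtStalk X x' := (Module.rankAtStalk_eq x').symm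
  have h2 : fdim X x = Module.rankAtStalk X x := (Module.rankAtStalk_eq x).symm
  rw [h1, h2, hx']

section RankNullity

variable (κ : Type*) [Field κ] [Algebra A κ] {M F : Type*} [AddCommGroup M] [Module A M]
  [Module.Finite A M] [AddCommGroup F] [Module A F] [Module.Finite A F] (δ : M →ₗ[A] F)

/-- `dim κ⊗coker δ + rank (δ ⊗ κ) = dim κ⊗F`. -/
theorem finrank_coker_add_range :
    Module.finrank κ (κ ⊗[A] (F ⧸ LinearMap.range δ)) +
      Module.finrank κ (LinearMap.range (δ.baseChange κ)) = Module.finrank κ (κ ⊗[A] F) := by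
  have hex : Function.Exact (δ.baseChange κ) ((LinearMap.range δ).mkQ.baseChange κ) := by
    have := lTensor_exact κ (LinearMap.exact_map_mkQ_range δ) (Submodule.mkQ_surjective _)
    exact this
  have hsurj : Function.Surjective ((LinearMap.range δ).mkQ.baseChange κ) :=
    LinearMap.lTensor_surjective κ (Submodule.mkQ_surjective (LinearMap.range δ))
  have h1 := LinearMap.finrank_range_add_finrank_ker ((LinearMap.range δ).mkQ.baseChange κ)
  rw [LinearMap.range_eq_top.mpr hsurj, finrank_top, (LinearMap.exact_iff.mp hex)] at h1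
  exact h1

/-- `dim ker (δ ⊗ κ) + dim κ⊗F = dim κ⊗M + dim κ⊗coker δ`. -/
theorem finrank_ker_add :
    Module.finrank κ (LinearMap.ker (δ.baseChange κ)) + Module.finrank κ (κ ⊗[A] F) =
      Module.finrank κ (κ ⊗[A] M) + Module.finrank κ (κ ⊗[A] (F ⧸ LinearMap.range δ)) := by
  have h1 := LinearMap.finrank_range_add_finrank_ker (δ.baseChange κ)
  have h2 := finrank_coker_add_range κ δ
  omega

end RankNullity

end Groth.Agent.Lib.helper20.FibDim
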