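import Mathlib
import Groth.Agent.Lib.helper20.FibDim
import Groth.Agent.Lib.helper4.RedFree4

/-!
# Fibre dimension, part 2 (helper20): reduced criterion in any universe; split kernels
-/

set_option autoImplicit false
universe u v

namespace Groth.Agent.Lib.helper20.FibDim

open TensorProduct

variable {A : Type u} [CommRing A]

/-- A finitely presented module (any universe) over a reduced ring with locally constant fibre
dimension is projective. -/
theorem projective_of_fdim_eventually_eq [IsReduced A] (W : Type v) [AddCommGroup W] [Module A W]
    [Module.FinitePresentation A W]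
    (h : ∀ y : PrimeSpectrum A, ∀ᶠ x' in nhds y, fdim W x' = fdim W y) :
    Module.Projective A W := by
  haveI : Module.Finite A W := inferInstance
  obtain ⟨n, π, hπ⟩ := Module.Finite.exists_fin' A W
  let W' := (Fin n → A) ⧸ LinearMap.ker π
  let e : W' ≃ₗ[A] W := π.quotKerEquivOfSurjective hπ
  haveI : Module.FinitePresentation A W' := Module.FinitePresentation.of_equiv e.symm
  have h' : ∀ y : PrimeSpectrum A, ∀ᶠ x' in nhds y,
      Groth.Agent.H4FibreDim.fdim W' x' = Groth.Agent.H4FibreDim.fdim W' y := by
    intro y
    filter_upwards [h y] with x' hx'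
    have e1 : Groth.Agent.H4FibreDim.fdim W' x' = fdim W x' := fdim_congr e x'
    have e2 : Groth.Agent.H4FibreDim.fdim W' y = fdim W y := fdim_congr e y
    rw [e1, e2, hx']
  haveI := Groth.Agent.H4RedFree.projective_of_fdim_eventually_eq W' h'
  exact Module.Projective.of_equiv e

/-- A retraction onto the kernel of a surjection onto a projective module. -/
theorem exists_retraction {X P : Type*} [AddCommGroup X] [Module A X] [AddCommGroup P] [Module A P]
    [Module.Projective A P] (S : Submodule A X) (g : X →ₗ[A] P) (hg : Function.Surjective g)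
    (hS : LinearMap.ker g = S) : ∃ r : X →ₗ[A] S, r ∘ₗ S.subtype = LinearMap.id := by
  subst hS
  obtain ⟨s, hs⟩ := Module.projective_lifting_property g LinearMap.id hg
  have hs' : ∀ m, g (s m) = m := fun m => LinearMap.congr_fun hs m
  let p : X →ₗ[A] LinearMap.ker g := LinearMap.codRestrict (LinearMap.ker g)
    (LinearMap.id - s ∘ₗ g) (fun x => by
      rw [LinearMap.mem_ker, LinearMap.sub_apply, map_sub, LinearMap.comp_apply, hs',
        LinearMap.id_apply, sub_self])
  refine ⟨p, ?_⟩
  ext k
  simp only [p, LinearMap.comp_apply, Submodule.subtype_apply, LinearMap.codRestrict_apply,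
    LinearMap.sub_apply, LinearMap.id_apply, LinearMap.mem_ker.mp k.2, map_zero, sub_zero]

end Groth.Agent.Lib.helper20.FibDim
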