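import Mathlib

/-!
# Formal inverse function theorem for `MvPowerSeries` (helper20)

`bijective_of_isUnit_det`: an `R`-algebra endomorphism of `R[[X_i]]` (finitely many variables)
sending the variables to series without constant term and with invertible Jacobian at the origin
is bijective.  `exists_algEquiv_of_matrix`: the substitution `X i ↦ ∑ j, X j * G i j` is an
automorphism when `det (G(0))` is a unit.  `exists_cubeRoot`: cube roots of `1 + x`.
-/

set_option autoImplicit false

namespace Groth.Agent.Lib.helper20.FormalIFT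

open MvPowerSeries

variable {σ : Type*} {R : Type*} [CommRing R]

/-- The ideal of power series all of whose coefficients of total degree `< k` vanish. -/
def I (σ : Type*) (R : Type*) [CommRing R] (k : ℕ) : Ideal (MvPowerSeries σ R) where
  carrier := {f | ∀ d : σ →₀ ℕ, d.degree < k → coeff d f = 0}
  add_mem' := by
    intro f g hf hg d hd
    rw [map_add, hf d hd, hg d hd, add_zero]
  zero_mem' := by
    intro d _
    rw [map_zero]
  smul_mem' := by
    intro c f hf d hd
    classical
    rw [smul_eq_mul, coeff_mul]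
    apply Finset.sum_eq_zero
    intro p hp
    rw [Finset.HasAntidiagonal.mem_antidiagonal] at hp
    have h1 : p.1.degree + p.2.degree = d.degree := by rw [← map_add, hp]
    rw [hf p.2 (by omega), mul_zero]

theorem mem_I {k : ℕ} {f : MvPowerSeries σ R} :
    f ∈ I σ R k ↔ ∀ d : σ →₀ ℕ, d.degree < k → coeff d f = 0 := Iff.rfl

theorem mem_I_zero (f : MvPowerSeries σ R) : f ∈ I σ R 0 :=
  mem_I.mpr fun d hd => absurd hd (Nat.not_lt_zero _)

theorem mul_mem_I {a b : ℕ} {f g : MvPowerSeries σ R} (hf : f ∈ I σ R a) (hg : g ∈ I σ R b) :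
    f * g ∈ I σ R (a + b) := by
  classical
  refine mem_I.mpr fun d hd => ?_
  rw [coeff_mul]
  apply Finset.sum_eq_zero
  intro p hp
  rw [Finset.HasAntidiagonal.mem_antidiagonal] at hp
  have h1 : p.1.degree + p.2.degree = d.degree := by rw [← map_add, hp]
  by_cases h : p.1.degree < a
  · rw [mem_I.mp hf p.1 h, zero_mul]
  · rw [mem_I.mp hg p.2 (by omega), mul_zero]

theorem eq_zero_of_forall_mem {f : MvPowerSeries σ R} (h : ∀ k, f ∈ I σ R k) : f = 0 :=
  MvPowerSeries.ext fun d => by
    rw [map_zero]
    exact mem_I.mp (h (d.degree + 1)) d (Nat.lt_succ_self _)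

theorem mem_I_one_iff {f : MvPowerSeries σ R} : f ∈ I σ R 1 ↔ constantCoeff f = 0 := by
  constructor
  · intro h
    rw [← coeff_zero_eq_constantCoeff_apply]
    exact mem_I.mp h 0 (by simp)
  · intro h
    refine mem_I.mpr fun d hd => ?_
    have hd0 : d = 0 := (Finsupp.degree_eq_zero_iff d).mp (by omega)
    rw [hd0, coeff_zero_eq_constantCoeff_apply, h]

theorem mem_I_two_iff {f : MvPowerSeries σ R} :
    f ∈ I σ R 2 ↔ constantCoeff f = 0 ∧ ∀ k, coeff (Finsupp.single k 1) f = 0 := by
  constructor
  · intro h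
    refine ⟨?_, fun k => mem_I.mp h _ (by simp)⟩
    rw [← coeff_zero_eq_constantCoeff_apply]
    exact mem_I.mp h 0 (by simp)
  · rintro ⟨h0, h1⟩
    refine mem_I.mpr fun d hd => ?_
    by_cases hd0 : d = 0
    · rw [hd0, coeff_zero_eq_constantCoeff_apply, h0]
    · obtain ⟨k, hk⟩ : ∃ k, d k ≠ 0 := by
        by_contra hcon
        push_neg at hcon
        exact hd0 (Finsupp.ext fun a => by simpa using hcon a)
      have hle : Finsupp.single k 1 ≤ d :=
        Finsupp.single_le_iff.mpr (Nat.one_le_iff_ne_zero.mpr hk)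
      have hd' := tsub_add_cancel_of_le hle
      have hdeg : (d - Finsupp.single k 1).degree = 0 := by
        have h2 : (d - Finsupp.single k 1 + Finsupp.single k 1).degree = d.degree := by rw [hd']
        rw [map_add, Finsupp.degree_single] at h2
        omega
      rw [Finsupp.degree_eq_zero_iff] at hdeg
      rw [hdeg, zero_add] at hd'
      rw [← hd']
      exact h1 k

open Classical in
/-- a choice of a variable occurring in a monomial -/
noncomputable def sel (d : σ →₀ ℕ) : Option σ :=
  if h : d.support.Nonempty then some h.choose else none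

theorem sel_some {d : σ →₀ ℕ} {i : σ} (h : sel d = some i) : Finsupp.single i 1 ≤ d := by
  unfold sel at h
  by_cases hd : d.support.Nonempty
  · rw [dif_pos hd] at h
    have h2 := hd.choose_spec
    rw [Option.some.injEq] at h
    rw [h] at h2
    exact Finsupp.single_le_iff.mpr (Nat.one_le_iff_ne_zero.mpr (Finsupp.mem_support_iff.mp h2))
  · rw [dif_neg hd] at h
    exact absurd h (by simp)

theorem sel_none {d : σ →₀ ℕ} (h : sel d = none) : d = 0 := by
  unfold sel at h
  by_cases hd : d.support.Nonempty
  · rw [dif_pos hd] at h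
    exact absurd h (by simp)
  · exact Finsupp.support_eq_empty.mp (Finset.not_nonempty_iff_eq_empty.mp hd)

open Classical in
/-- the `i`-th part of the decomposition `f = ∑ X i * part f i` -/
noncomputable def part (f : MvPowerSeries σ R) (i : σ) : MvPowerSeries σ R :=
  fun e => if sel (e + Finsupp.single i 1) = some i then coeff (e + Finsupp.single i 1) f else 0

open Classical in
theorem coeff_part (f : MvPowerSeries σ R) (i : σ) (e : σ →₀ ℕ) :
    coeff e (part f i) =
      if sel (e + Finsupp.single i 1) = some i then coeff (e + Finsupp.single i 1) f else 0 := rfl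

theorem part_mem {k : ℕ} {f : MvPowerSeries σ R} (hf : f ∈ I σ R (k + 1)) (i : σ) :
    part f i ∈ I σ R k := by
  classical
  refine mem_I.mpr fun e he => ?_
  rw [coeff_part]
  split_ifs
  · exact mem_I.mp hf _ (by rw [map_add, Finsupp.degree_single]; omega)
  · rfl

open Classical in
theorem coeff_X_mul_part (f : MvPowerSeries σ R) (i : σ) (d : σ →₀ ℕ) :
    coeff d (X i * part f i) = if sel d = some i then coeff d f else 0 := by
  rw [X_def, coeff_monomial_mul, one_mul]
  by_cases hle : Finsupp.single i 1 ≤ d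
  · rw [if_pos hle, coeff_part, tsub_add_cancel_of_le hle]
  · rw [if_neg hle, if_neg]
    intro h
    exact hle (sel_some h)

theorem exists_decomp [Fintype σ] {k : ℕ} {f : MvPowerSeries σ R} (hf : f ∈ I σ R (k + 1)) :
    ∃ g : σ → MvPowerSeries σ R, (∀ i, g i ∈ I σ R k) ∧ f = ∑ i, X i * g i := by
  classical
  refine ⟨part f, part_mem hf, ?_⟩
  refine MvPowerSeries.ext fun d => ?_
  rw [map_sum, Finset.sum_congr rfl (fun i _ => coeff_X_mul_part f i d)]
  by_cases hnone : sel d = none
  · have hd0 := sel_none hnone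
    have h0 : ∀ i ∈ (Finset.univ : Finset σ), (if sel d = some i then coeff d f else 0) = 0 := by
      intro i _
      rw [if_neg]
      rw [hnone]
      simp
    rw [Finset.sum_eq_zero h0, hd0]
    exact mem_I.mp hf 0 (by simp)
  · obtain ⟨j, hj⟩ := Option.ne_none_iff_exists'.mp hnone
    rw [Finset.sum_eq_single j]
    · rw [if_pos hj]
    · intro b _ hb
      rw [if_neg]
      rw [hj]
      intro hjb
      exact hb (Option.some.inj hjb).symm
    · intro hj'
      exact absurd (Finset.mem_univ j) hj'

theorem map_mem_I [Fintype σ] (φ : MvPowerSeries σ R →ₐ[R] MvPowerSeries σ R)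
    (h0 : ∀ i, constantCoeff (φ (X i)) = 0) (k : ℕ) :
    ∀ f : MvPowerSeries σ R, f ∈ I σ R k → φ f ∈ I σ R k := by
  induction k with
  | zero => exact fun f _ => mem_I_zero _
  | succ k ih =>
    intro f hf
    obtain ⟨g, hg, rfl⟩ := exists_decomp hf
    rw [map_sum]
    refine Ideal.sum_mem _ (fun i _ => ?_)
    rw [map_mul]
    have := mul_mem_I (mem_I_one_iff.mpr (h0 i)) (ih (g i) (hg i))
    rw [show 1 + k = k + 1 by omega] at this
    exact this

theorem map_C {F : Type*} [FunLike F (MvPowerSeries σ R) (MvPowerSeries σ R)]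
    [AlgHomClass F R (MvPowerSeries σ R) (MvPowerSeries σ R)] (φ : F) (r : R) :
    φ (C r : MvPowerSeries σ R) = C r := by
  rw [c_eq_algebraMap]
  exact AlgHomClass.commutes φ r

theorem constantCoeff_map [Fintype σ] (φ : MvPowerSeries σ R →ₐ[R] MvPowerSeries σ R)
    (h0 : ∀ i, constantCoeff (φ (X i)) = 0) (f : MvPowerSeries σ R) :
    constantCoeff (φ f) = constantCoeff f := by
  have hu1 : f - C (constantCoeff f) ∈ I σ R 1 := by
    rw [mem_I_one_iff, map_sub, constantCoeff_C, sub_self]
  have := mem_I_one_iff.mp (map_mem_I φ h0 1 _ hu1)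
  rw [map_sub φ, map_C, map_sub, constantCoeff_C, sub_eq_zero] at this
  exact this

theorem sub_mem_I [Fintype σ] (φ : MvPowerSeries σ R →ₐ[R] MvPowerSeries σ R)
    (h0 : ∀ i, constantCoeff (φ (X i)) = 0) (h1 : ∀ i, φ (X i) - X i ∈ I σ R 2) (k : ℕ) :
    ∀ f : MvPowerSeries σ R, f ∈ I σ R k → φ f - f ∈ I σ R (k + 1) := by
  induction k with
  | zero =>
    intro f _
    have hu1 : f - C (constantCoeff f) ∈ I σ R 1 := by
      rw [mem_I_one_iff, map_sub, constantCoeff_C, sub_self]
    have hfu : φ f - f = φ (f - C (constantCoeff f)) - (f - C (constantCoeff f)) := by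
      rw [map_sub, map_C]; ring
    obtain ⟨g, hg, hug⟩ := exists_decomp hu1
    rw [hfu, hug, map_sum, ← Finset.sum_sub_distrib]
    refine Ideal.sum_mem _ (fun i _ => ?_)
    rw [map_mul]
    exact Ideal.sub_mem _ (Ideal.mul_mem_right _ _ (mem_I_one_iff.mpr (h0 i)))
      (Ideal.mul_mem_right _ _ (mem_I_one_iff.mpr (constantCoeff_X i)))
  | succ k ih =>
    intro f hf
    obtain ⟨g, hg, rfl⟩ := exists_decomp hf
    rw [map_sum, ← Finset.sum_sub_distrib]
    refine Ideal.sum_mem _ (fun i _ => ?_)
    rw [map_mul]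
    have e : φ (X i) * φ (g i) - X i * g i =
        (φ (X i) - X i) * φ (g i) + X i * (φ (g i) - g i) := by ring
    rw [e]
    refine Ideal.add_mem _ ?_ ?_
    · have := mul_mem_I (h1 i) (map_mem_I φ h0 k (g i) (hg i))
      rw [show 2 + k = k + 1 + 1 by omega] at this
      exact this
    · have := mul_mem_I (mem_I_one_iff.mpr (constantCoeff_X i)) (ih (g i) (hg i))
      rw [show 1 + (k + 1) = k + 1 + 1 by omega] at this
      exact this

theorem bijective_of_unipotent [Fintype σ] (φ : MvPowerSeries σ R →ₐ[R] MvPowerSeries σ R)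
    (h0 : ∀ i, constantCoeff (φ (X i)) = 0) (h1 : ∀ i, φ (X i) - X i ∈ I σ R 2) :
    Function.Bijective φ := by
  have hP := map_mem_I φ h0
  have hN := sub_mem_I φ h0 h1
  constructor
  · refine (injective_iff_map_eq_zero φ).mpr fun f hf => ?_
    apply eq_zero_of_forall_mem
    intro k
    induction k with
    | zero => exact mem_I_zero _
    | succ k ih =>
      have := hN k f ih
      rw [hf, zero_sub] at this
      exact neg_mem_iff.mp this
  · intro g
    let a : ℕ → MvPowerSeries σ R := fun k => (fun f => f - φ f)^[k] g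
    have ha_succ : ∀ k, a (k + 1) = a k - φ (a k) :=
      fun k => Function.iterate_succ_apply' _ _ _
    have ha0 : a 0 = g := rfl
    have ha : ∀ k, a k ∈ I σ R k := by
      intro k
      induction k with
      | zero => exact mem_I_zero _
      | succ k ih =>
        rw [ha_succ]
        have := hN k (a k) ih
        rw [← neg_sub]
        exact neg_mem_iff.mpr this
    let s : MvPowerSeries σ R := fun d => coeff d (∑ k ∈ Finset.range (d.degree + 1), a k)
    have hs : ∀ m, s - ∑ k ∈ Finset.range m, a k ∈ I σ R m := by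
      intro m
      refine mem_I.mpr fun d hd => ?_
      rw [map_sub, sub_eq_zero]
      show coeff d (∑ k ∈ Finset.range (d.degree + 1), a k) = _
      rw [map_sum, map_sum]
      apply Finset.sum_subset (Finset.range_subset_range.mpr (by omega))
      intro k _ hk
      rw [Finset.mem_range] at hk
      exact mem_I.mp (ha k) d (by omega)
    have e1 : ∀ k, φ (a k) = a k - a (k + 1) := by
      intro k
      rw [ha_succ, sub_sub_cancel]
    have tel : ∀ m, ∑ k ∈ Finset.range m, (a k - a (k + 1)) = a 0 - a m := by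
      intro m
      induction m with
      | zero => simp
      | succ m ih => rw [Finset.sum_range_succ, ih]; abel
    have key : ∀ m, φ s - g ∈ I σ R m := by
      intro m
      have e2 : φ s - g = φ (s - ∑ k ∈ Finset.range m, a k) - a m := by
        rw [map_sub, map_sum, Finset.sum_congr rfl (fun k _ => e1 k), tel, ha0]
        ring
      rw [e2]
      exact Ideal.sub_mem _ (hP m _ (hs m)) (ha m)
    exact ⟨s, sub_eq_zero.mp (eq_zero_of_forall_mem key)⟩

section Linear

variable [Fintype σ] [DecidableEq σ]

theorem constantCoeff_lin (M : Matrix σ σ R) (i : σ) :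
    constantCoeff (∑ j, M i j • (X j : MvPowerSeries σ R)) = 0 := by
  rw [map_sum]
  refine Finset.sum_eq_zero fun j _ => ?_
  rw [smul_eq_C_mul, map_mul, constantCoeff_X, mul_zero]

/-- linear substitution `X i ↦ ∑ j, M i j • X j` -/
noncomputable def linSubst (M : Matrix σ σ R) : MvPowerSeries σ R →ₐ[R] MvPowerSeries σ R :=
  substAlgHom (R := R) (a := fun i => ∑ j, M i j • (X j : MvPowerSeries σ R))
    (hasSubst_of_constantCoeff_zero (constantCoeff_lin M))

theorem linSubst_X (M : Matrix σ σ R) (i : σ) :
    linSubst M (X i) = ∑ j, M i j • (X j : MvPowerSeries σ R) :=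
  substAlgHom_X _ i

theorem linSubst_comp_X (M N : Matrix σ σ R) (hNM : N * M = 1) (i : σ) :
    (linSubst M) ((linSubst N) (X i)) = X i := by
  rw [linSubst_X, map_sum]
  simp_rw [map_smul, linSubst_X, Finset.smul_sum, smul_smul]
  rw [Finset.sum_comm]
  simp_rw [← Finset.sum_smul, ← Matrix.mul_apply, hNM, Matrix.one_apply, ite_smul, one_smul,
    zero_smul]
  rw [Finset.sum_ite_eq]
  simp

theorem linSubst_bijective (M N : Matrix σ σ R) (hMN : M * N = 1) (hNM : N * M = 1) :
    Function.Bijective (linSubst M) := by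
  have hI2 : ∀ i, (X i : MvPowerSeries σ R) - X i ∈ I σ R 2 := fun i => by
    rw [sub_self]; exact zero_mem _
  have b1 : Function.Bijective ((linSubst M).comp (linSubst N)) := by
    apply bijective_of_unipotent
    · intro i; rw [AlgHom.comp_apply, linSubst_comp_X M N hNM]; exact constantCoeff_X i
    · intro i; rw [AlgHom.comp_apply, linSubst_comp_X M N hNM]; exact hI2 i
  have b2 : Function.Bijective ((linSubst N).comp (linSubst M)) := by
    apply bijective_of_unipotent
    · intro i; rw [AlgHom.comp_apply, linSubst_comp_X N M hMN]; exact constantCoeff_X i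
    · intro i; rw [AlgHom.comp_apply, linSubst_comp_X N M hMN]; exact hI2 i
  constructor
  · have h : Function.Injective ((linSubst N) ∘ (linSubst M)) := by
      have := b2.1; rwa [AlgHom.coe_comp] at this
    exact Function.Injective.of_comp h
  · have h : Function.Surjective ((linSubst M) ∘ (linSubst N)) := by
      have := b1.2; rwa [AlgHom.coe_comp] at this
    exact Function.Surjective.of_comp h

/-- **Formal inverse function theorem.** -/
theorem bijective_of_isUnit_det (φ : MvPowerSeries σ R →ₐ[R] MvPowerSeries σ R)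
    (h0 : ∀ i, constantCoeff (φ (X i)) = 0)
    (hJ : IsUnit (Matrix.det (Matrix.of fun i j : σ =>
      coeff (Finsupp.single j 1) (φ (X i))))) :
    Function.Bijective φ := by
  set J : Matrix σ σ R := Matrix.of fun i j : σ => coeff (Finsupp.single j 1) (φ (X i)) with hJdef
  have hJJ' : J * J⁻¹ = 1 := Matrix.mul_nonsing_inv J hJ
  have hJ'J : J⁻¹ * J = 1 := Matrix.nonsing_inv_mul J hJ
  have hl : Function.Bijective (linSubst J⁻¹) := linSubst_bijective J⁻¹ J hJ'J hJJ'
  have hψX : ∀ i, (φ.comp (linSubst J⁻¹)) (X i) = ∑ j, J⁻¹ i j • φ (X j) := by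
    intro i
    rw [AlgHom.comp_apply, linSubst_X, map_sum]
    simp_rw [map_smul]
  have hψ : Function.Bijective (φ.comp (linSubst J⁻¹)) := by
    apply bijective_of_unipotent
    · intro i
      rw [hψX, map_sum]
      refine Finset.sum_eq_zero fun j _ => ?_
      rw [smul_eq_C_mul, map_mul, h0 j, mul_zero]
    · intro i
      rw [mem_I_two_iff]
      constructor
      · rw [map_sub, constantCoeff_X, sub_zero, hψX, map_sum]
        refine Finset.sum_eq_zero fun j _ => ?_
        rw [smul_eq_C_mul, map_mul, h0 j, mul_zero]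
      · intro k
        rw [map_sub, hψX, map_sum]
        simp_rw [map_smul, smul_eq_mul]
        have hmul : ∑ j, J⁻¹ i j * coeff (Finsupp.single k 1) (φ (X j)) = (J⁻¹ * J) i k :=
          (Matrix.mul_apply).symm
        rw [hmul, hJ'J, Matrix.one_apply, coeff_X]
        by_cases hik : i = k
        · subst hik; simp
        · have hne : Finsupp.single k (1 : ℕ) ≠ Finsupp.single i 1 := by
            intro h; exact hik ((Finsupp.single_left_inj one_ne_zero).mp h).symm
          rw [if_neg hik, if_neg hne, sub_self]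
  constructor
  · have h : Function.Injective (φ ∘ (linSubst J⁻¹)) := by
      have := hψ.1; rwa [AlgHom.coe_comp] at this
    exact Function.Injective.of_comp_right h hl.2
  · have h : Function.Surjective (φ ∘ (linSubst J⁻¹)) := by
      have := hψ.2; rwa [AlgHom.coe_comp] at this
    exact Function.Surjective.of_comp h

theorem coeff_single_X_mul (i j : σ) (g : MvPowerSeries σ R) :
    coeff (Finsupp.single j 1) (X i * g) = if j = i then constantCoeff g else 0 := by
  rw [X_def, coeff_monomial_mul, one_mul]
  by_cases h : j = i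
  · subst h
    rw [if_pos le_rfl, if_pos rfl, tsub_self, coeff_zero_eq_constantCoeff_apply]
  · rw [if_neg h, if_neg]
    intro hle
    have h2 := Finsupp.single_le_iff.mp hle
    rw [Finsupp.single_apply, if_neg h] at h2
    omega

/-- The substitution `X i ↦ ∑ j, X j * G i j` is an automorphism when `det G(0)` is a unit. -/
theorem exists_algEquiv_of_matrix (G : Matrix σ σ (MvPowerSeries σ R))
    (hG : IsUnit (Matrix.det (G.map (fun f => constantCoeff f)))) :
    ∃ ψ : MvPowerSeries σ R ≃ₐ[R] MvPowerSeries σ R,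
      (∀ i, ψ (X i) = ∑ j, X j * G i j) ∧ (∀ f, constantCoeff (ψ f) = constantCoeff f) := by
  have ha0 : ∀ i, constantCoeff (∑ j, X j * G i j) = 0 := by
    intro i
    rw [map_sum]
    refine Finset.sum_eq_zero fun j _ => ?_
    rw [map_mul, constantCoeff_X, zero_mul]
  let ψ₀ : MvPowerSeries σ R →ₐ[R] MvPowerSeries σ R :=
    substAlgHom (R := R) (a := fun i => ∑ j, X j * G i j) (hasSubst_of_constantCoeff_zero ha0)
  have hψ₀ : ∀ i, ψ₀ (X i) = ∑ j, X j * G i j := fun i => substAlgHom_X _ i
  have h0 : ∀ i, constantCoeff (ψ₀ (X i)) = 0 := fun i => by rw [hψ₀]; exact ha0 i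
  have hJ : (Matrix.of fun i j : σ => coeff (Finsupp.single j 1) (ψ₀ (X i))) =
      G.map (fun f => constantCoeff f) := by
    ext i k
    rw [Matrix.of_apply, Matrix.map_apply, hψ₀, map_sum]
    simp_rw [coeff_single_X_mul]
    rw [Finset.sum_ite_eq]
    simp
  have hbij : Function.Bijective ψ₀ := bijective_of_isUnit_det ψ₀ h0 (by rw [hJ]; exact hG)
  refine ⟨AlgEquiv.ofBijective ψ₀ hbij, fun i => ?_, fun f => ?_⟩
  · exact hψ₀ i
  · exact constantCoeff_map ψ₀ h0 f

end Linear

theorem exists_cubeRoot_unit (h3 : IsUnit (3 : R)) :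
    ∃ θ : MvPowerSeries Unit R, constantCoeff θ = 0 ∧ (1 + θ) ^ 3 = 1 + X () := by
  obtain ⟨ψ, hψX, hψc⟩ := exists_algEquiv_of_matrix (σ := Unit) (R := R)
    (Matrix.of fun _ _ => (C 3 + C 3 * X () + X () ^ 2 : MvPowerSeries Unit R)) (by
      rw [Matrix.det_unique]
      simpa using h3)
  have hX : ψ (X ()) = (1 + X ()) ^ 3 - 1 := by
    rw [hψX, Fintype.sum_unique]
    show (X () * (C 3 + C 3 * X () + X () ^ 2) : MvPowerSeries Unit R) = _
    rw [show (C (3 : R) : MvPowerSeries Unit R) = 3 from map_ofNat C 3]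
    ring
  refine ⟨ψ.symm (X ()), ?_, ?_⟩
  · rw [← hψc, AlgEquiv.apply_symm_apply]; exact constantCoeff_X ()
  · have h : ψ ((1 + ψ.symm (X ())) ^ 3 - 1) = ψ (X ()) := by
      rw [map_sub, map_pow, map_add, map_one, AlgEquiv.apply_symm_apply, hX]
    have h2 := ψ.injective h
    linear_combination h2

/-- cube roots of `1 + x` for `x` without constant term, when `3` is invertible -/
theorem exists_cubeRoot (h3 : IsUnit (3 : R)) {τ : Type*} (x : MvPowerSeries τ R)
    (hx : constantCoeff x = 0) :
    ∃ y : MvPowerSeries τ R, constantCoeff y = 0 ∧ (1 + y) ^ 3 = 1 + x := by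
  obtain ⟨θ, hθ0, hθ⟩ := exists_cubeRoot_unit h3
  have ha : HasSubst (fun _ : Unit => x) := hasSubst_of_constantCoeff_zero (fun _ => hx)
  refine ⟨substAlgHom (R := R) ha θ, ?_, ?_⟩
  · rw [coe_substAlgHom]
    exact constantCoeff_subst_eq_zero ha (fun _ => hx) hθ0
  · have := congrArg (substAlgHom (R := R) ha) hθ
    rw [map_pow, map_add, map_add, map_one, substAlgHom_X] at this
    exact this

end Groth.Agent.Lib.helper20.FormalIFT
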