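import Mathlib
import Groth.Agent.Lib.helper20.FormalIFT

/-!
# Formal IFT, part 2 (helper20): substitution by a system of parameters is bijective
-/

set_option autoImplicit false

namespace Groth.Agent.Lib.helper20.FormalIFT

open MvPowerSeries

variable {σ : Type*} {R : Type*} [CommRing R] [Fintype σ] [DecidableEq σ]

/-- the linear coefficients behave like a derivation at the origin -/
theorem coeff_single_mul (c y : MvPowerSeries σ R) (hy : constantCoeff y = 0) (j : σ) :
    coeff (Finsupp.single j 1) (c * y) = constantCoeff c * coeff (Finsupp.single j 1) y := by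
  obtain ⟨g, -, hg⟩ := exists_decomp (k := 0) (mem_I_one_iff.mpr hy)
  have h1 : ∀ f : MvPowerSeries σ R, coeff (Finsupp.single j 1) (∑ l, X l * (f * g l)) =
      constantCoeff f * constantCoeff (g j) := by
    intro f
    rw [map_sum]
    simp_rw [coeff_single_X_mul]
    rw [Finset.sum_ite_eq]
    simp
  have e1 : c * y = ∑ l, X l * (c * g l) := by
    rw [hg, Finset.mul_sum]
    exact Finset.sum_congr rfl fun l _ => by ring
  have e2 : y = ∑ l, X l * (1 * g l) := by
    simp_rw [one_mul]; exact hg
  rw [e1, h1 c]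
  conv_rhs => rw [e2, h1 1]
  rw [map_one, one_mul]

theorem isUnit_jacobian_of_span (𝔞 : Ideal R) (h𝔞 : 𝔞 ≤ Ideal.jacobson ⊥)
    (y : σ → MvPowerSeries σ R) (hy0 : ∀ i, constantCoeff (y i) = 0)
    (hX : ∀ k, ∃ (c : σ → MvPowerSeries σ R) (e : MvPowerSeries σ R),
        (∀ j, coeff (Finsupp.single j 1) e ∈ 𝔞) ∧ X k = e + ∑ i, c i * y i) :
    IsUnit (Matrix.det (Matrix.of fun i j : σ => coeff (Finsupp.single j 1) (y i))) := by
  choose c e he hXk using hX
  set J : Matrix σ σ R := Matrix.of fun i j : σ => coeff (Finsupp.single j 1) (y i) with hJ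
  let C0 : Matrix σ σ R := Matrix.of fun k i => constantCoeff (c k i)
  let E : Matrix σ σ R := Matrix.of fun k j => coeff (Finsupp.single j 1) (e k)
  have hmul : C0 * J = 1 - E := by
    ext k j
    rw [Matrix.mul_apply, Matrix.sub_apply, Matrix.one_apply]
    have h1 : coeff (Finsupp.single j 1) (X k : MvPowerSeries σ R) =
        coeff (Finsupp.single j 1) (e k) +
          ∑ i, constantCoeff (c k i) * coeff (Finsupp.single j 1) (y i) := by
      conv_lhs => rw [hXk k]
      rw [map_add, map_sum]
      congr 1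
      exact Finset.sum_congr rfl fun i _ => coeff_single_mul (c k i) (y i) (hy0 i) j
    rw [coeff_X] at h1
    have h2 : (if Finsupp.single j (1 : ℕ) = Finsupp.single k 1 then (1 : R) else 0) =
        if k = j then 1 else 0 := by
      by_cases hkj : k = j
      · subst hkj; simp
      · rw [if_neg hkj, if_neg]
        intro h; exact hkj ((Finsupp.single_left_inj one_ne_zero).mp h).symm
    rw [h2] at h1
    show ∑ i, constantCoeff (c k i) * coeff (Finsupp.single j 1) (y i) =
      (if k = j then 1 else 0) - coeff (Finsupp.single j 1) (e k)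
    rw [h1]; ring
  have hdetE : IsUnit (1 - E).det := by
    have hq : Ideal.Quotient.mk 𝔞 ((1 - E).det) = 1 := by
      rw [RingHom.map_det]
      have hone : (Ideal.Quotient.mk 𝔞).mapMatrix (1 - E) = 1 := by
        ext k j
        rw [RingHom.mapMatrix_apply, Matrix.map_apply, Matrix.sub_apply, map_sub]
        have hz : Ideal.Quotient.mk 𝔞 (E k j) = 0 := Ideal.Quotient.eq_zero_iff_mem.mpr (he k j)
        rw [hz, sub_zero, Matrix.one_apply, Matrix.one_apply]
        split_ifs <;> simp
      rw [hone, Matrix.det_one]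
    have hmem : (1 - E).det - 1 ∈ 𝔞 := by
      rw [← Ideal.Quotient.eq_zero_iff_mem, map_sub, hq, map_one, sub_self]
    have := (Ideal.mem_jacobson_bot.mp (h𝔞 hmem)) 1
    rwa [mul_one, sub_add_cancel] at this
  have hprod : IsUnit (C0.det * J.det) := by rw [← Matrix.det_mul, hmul]; exact hdetE
  exact isUnit_of_mul_isUnit_right hprod

/-- substitution by a "system of parameters modulo `𝔞`" is bijective -/
theorem bijective_subst_of_span (𝔞 : Ideal R) (h𝔞 : 𝔞 ≤ Ideal.jacobson ⊥)
    (y : σ → MvPowerSeries σ R) (hy0 : ∀ i, constantCoeff (y i) = 0)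
    (hX : ∀ k, ∃ (c : σ → MvPowerSeries σ R) (e : MvPowerSeries σ R),
        (∀ j, coeff (Finsupp.single j 1) e ∈ 𝔞) ∧ X k = e + ∑ i, c i * y i) :
    Function.Bijective (subst y : MvPowerSeries σ R → MvPowerSeries σ R) := by
  have ha : HasSubst y := hasSubst_of_constantCoeff_zero hy0
  rw [← coe_substAlgHom ha]
  apply bijective_of_isUnit_det
  · intro i; rw [substAlgHom_X]; exact hy0 i
  · have := isUnit_jacobian_of_span 𝔞 h𝔞 y hy0 hX
    simp_rw [substAlgHom_X]
    exact this

end Groth.Agent.Lib.helper20.FormalIFT
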