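import Mathlib
import Groth.Agent.Lib.helper20.FormalIFT2

/-!
# Formal IFT, part 3 (helper20): uniqueness of algebra maps, automorphisms from Jacobians,
systems of parameters generate the augmentation ideal
-/

set_option autoImplicit false

namespace Groth.Agent.Lib.helper20.FormalIFT

open MvPowerSeries

variable {σ : Type*} {R : Type*} [CommRing R] [Fintype σ]

/-- `R`-algebra endomorphisms of `R[[X]]` sending the variables into the augmentation ideal are
determined by their values on the variables (no continuity needed). -/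
theorem algHom_ext_of_X (φ₁ φ₂ : MvPowerSeries σ R →ₐ[R] MvPowerSeries σ R)
    (h0 : ∀ i, constantCoeff (φ₁ (X i)) = 0) (h : ∀ i, φ₁ (X i) = φ₂ (X i)) : φ₁ = φ₂ := by
  have key : ∀ k : ℕ, ∀ f, φ₁ f - φ₂ f ∈ I σ R k := by
    intro k
    induction k with
    | zero => exact fun f => mem_I_zero _
    | succ k ih =>
      intro f
      have hu1 : f - C (constantCoeff f) ∈ I σ R 1 := by
        rw [mem_I_one_iff, map_sub, constantCoeff_C, sub_self]
      obtain ⟨g, -, hg⟩ := exists_decomp (k := 0) hu1
      have hf : f = C (constantCoeff f) + ∑ i, X i * g i := by rw [← hg]; ring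
      have e : φ₁ f - φ₂ f = ∑ i, φ₁ (X i) * (φ₁ (g i) - φ₂ (g i)) := by
        conv_lhs => rw [hf]
        rw [map_add, map_add, map_C, map_C, add_sub_add_left_eq_sub, map_sum, map_sum,
          ← Finset.sum_sub_distrib]
        refine Finset.sum_congr rfl fun i _ => ?_
        rw [map_mul, map_mul, ← h i, ← mul_sub]
      rw [e]
      refine Ideal.sum_mem _ fun i _ => ?_
      have := mul_mem_I (mem_I_one_iff.mpr (h0 i)) (ih (g i))
      rw [show 1 + k = k + 1 by omega] at this
      exact this
  exact AlgHom.ext fun f => sub_eq_zero.mp (eq_zero_of_forall_mem fun k => key k f)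

variable [DecidableEq σ]

theorem exists_algEquiv_of_jacobian (y : σ → MvPowerSeries σ R)
    (hy0 : ∀ i, constantCoeff (y i) = 0)
    (hJ : IsUnit (Matrix.det (Matrix.of fun i j : σ => coeff (Finsupp.single j 1) (y i)))) :
    ∃ ψ : MvPowerSeries σ R ≃ₐ[R] MvPowerSeries σ R, ∀ i, ψ (X i) = y i := by
  have ha : HasSubst y := hasSubst_of_constantCoeff_zero hy0
  have hb : Function.Bijective (substAlgHom (R := R) ha) := by
    apply bijective_of_isUnit_det
    · intro i; rw [substAlgHom_X]; exact hy0 i
    · simp_rw [substAlgHom_X]; exact hJ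
  exact ⟨AlgEquiv.ofBijective _ hb, fun i => substAlgHom_X ha i⟩

theorem span_range_eq_I_one (y : σ → MvPowerSeries σ R) (hy0 : ∀ i, constantCoeff (y i) = 0)
    (hJ : IsUnit (Matrix.det (Matrix.of fun i j : σ => coeff (Finsupp.single j 1) (y i)))) :
    Ideal.span (Set.range y) = I σ R 1 := by
  obtain ⟨ψ, hψ⟩ := exists_algEquiv_of_jacobian y hy0 hJ
  have h0 : ∀ i, constantCoeff ((ψ : MvPowerSeries σ R →ₐ[R] MvPowerSeries σ R) (X i)) = 0 :=
    fun i => by
      show constantCoeff (ψ (X i)) = 0
      rw [hψ]; exact hy0 i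
  apply le_antisymm
  · rw [Ideal.span_le]
    rintro _ ⟨i, rfl⟩
    exact mem_I_one_iff.mpr (hy0 i)
  · intro h hh
    have h1 : constantCoeff (ψ.symm h) = 0 := by
      have h2 := constantCoeff_map (ψ : MvPowerSeries σ R →ₐ[R] MvPowerSeries σ R) h0 (ψ.symm h)
      have h3 : (ψ : MvPowerSeries σ R →ₐ[R] MvPowerSeries σ R) (ψ.symm h) = h :=
        ψ.apply_symm_apply h
      rw [h3] at h2
      rw [← h2]; exact mem_I_one_iff.mp hh
    obtain ⟨g, -, hg⟩ := exists_decomp (k := 0) (mem_I_one_iff.mpr h1)
    have e : h = ∑ i, y i * ψ (g i) := by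
      conv_lhs => rw [← AlgEquiv.apply_symm_apply ψ h, hg, map_sum]
      exact Finset.sum_congr rfl fun i _ => by rw [map_mul, hψ]
    rw [e]
    exact Ideal.sum_mem _ fun i _ =>
      Ideal.mul_mem_right _ _ (Ideal.subset_span (Set.mem_range_self i))

end Groth.Agent.Lib.helper20.FormalIFT
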