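import Mathlib
import Groth.Prelude.Def_CycAlg
import Groth.Agent.Lib.helper20.OneDim1

/-!
# The exact hexagon of a short exact sequence of 2-periodic complexes (helper20)
-/

set_option autoImplicit false
universe u v

namespace Groth.Agent.Lib.helper20.Herb

open CycAlg Function

variable {R : Type u} [CommRing R]

section One

variable {M N : Type v} [AddCommGroup M] [Module R M] [AddCommGroup N] [Module R N]
  (φ : M →ₗ[R] N) (ψ : N →ₗ[R] M)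

/-- the map `M / im ψ → ker ψ` induced by `φ` -/
def barMap (h : IsPeriodic φ ψ) : (M ⧸ LinearMap.range ψ) →ₗ[R] ↥(LinearMap.ker ψ) :=
  Submodule.liftQ _ (φ.codRestrict (LinearMap.ker ψ) (fun m => by
      rw [LinearMap.mem_ker]; exact LinearMap.congr_fun h.2 m)) (by
    rintro _ ⟨n, rfl⟩
    rw [LinearMap.mem_ker]
    apply Subtype.ext
    exact LinearMap.congr_fun h.1 n)

@[simp] theorem barMap_mk (h : IsPeriodic φ ψ) (m : M) :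
    ((barMap φ ψ h (Submodule.Quotient.mk m) : ↥(LinearMap.ker ψ)) : N) = φ m := rfl

/-- the inclusion `H⁰ → M / im ψ` -/
def hIncl : perH φ ψ →ₗ[R] (M ⧸ LinearMap.range ψ) :=
  Submodule.mapQ _ _ (LinearMap.ker φ).subtype le_rfl

@[simp] theorem hIncl_mk (x : ↥(LinearMap.ker φ)) :
    hIncl φ ψ (Submodule.Quotient.mk x) = Submodule.Quotient.mk (x : M) := rfl

theorem hIncl_injective : Injective (hIncl φ ψ) := by
  rw [← LinearMap.ker_eq_bot, eq_bot_iff]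
  intro y hy
  obtain ⟨x, rfl⟩ := Submodule.mkQ_surjective _ y
  rw [LinearMap.mem_ker, Submodule.mkQ_apply, hIncl_mk, Submodule.Quotient.mk_eq_zero] at hy
  rw [Submodule.mem_bot, Submodule.mkQ_apply, Submodule.Quotient.mk_eq_zero]
  exact hy

theorem exact_hIncl_barMap (h : IsPeriodic φ ψ) : Exact (hIncl φ ψ) (barMap φ ψ h) := by
  intro y
  obtain ⟨m, rfl⟩ := Submodule.mkQ_surjective _ y
  constructor
  · intro hy
    have hm : φ m = 0 := congrArg Subtype.val hy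
    exact ⟨Submodule.Quotient.mk ⟨m, hm⟩, rfl⟩
  · rintro ⟨x, hx⟩
    obtain ⟨x, rfl⟩ := Submodule.mkQ_surjective _ x
    rw [← hx]
    apply Subtype.ext
    exact x.2

theorem exact_barMap_mkQ (h : IsPeriodic φ ψ) :
    Exact (barMap φ ψ h) ((LinearMap.range φ).submoduleOf (LinearMap.ker ψ)).mkQ := by
  intro z
  rw [Submodule.mkQ_apply, Submodule.Quotient.mk_eq_zero]
  constructor
  · rintro ⟨m, hm⟩
    exact ⟨Submodule.Quotient.mk m, Subtype.ext hm⟩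
  · rintro ⟨y, rfl⟩
    obtain ⟨m, rfl⟩ := Submodule.mkQ_surjective _ y
    exact ⟨m, rfl⟩

end One

section Two

variable {M N M' N' : Type v} [AddCommGroup M] [Module R M] [AddCommGroup N] [Module R N]
  [AddCommGroup M'] [Module R M'] [AddCommGroup N'] [Module R N']
  {φ : M →ₗ[R] N} {ψ : N →ₗ[R] M} {φ' : M' →ₗ[R] N'} {ψ' : N' →ₗ[R] M'}
  (f : M →ₗ[R] M') (g : N →ₗ[R] N') (cφ : φ' ∘ₗ f = g ∘ₗ φ) (cψ : ψ' ∘ₗ g = f ∘ₗ ψ)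

include cφ in
theorem map_ker (x : M) (hx : x ∈ LinearMap.ker φ) : f x ∈ LinearMap.ker φ' := by
  rw [LinearMap.mem_ker] at hx ⊢
  have := LinearMap.congr_fun cφ x
  simp only [LinearMap.comp_apply] at this
  rw [this, hx, map_zero]

include cψ in
theorem map_range (x : M) (hx : x ∈ LinearMap.range ψ) : f x ∈ LinearMap.range ψ' := by
  obtain ⟨n, rfl⟩ := hx
  have := LinearMap.congr_fun cψ n
  simp only [LinearMap.comp_apply] at this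
  exact ⟨g n, this⟩

/-- induced map on `H⁰` -/
def perHMap : perH φ ψ →ₗ[R] perH φ' ψ' :=
  Submodule.mapQ _ _ (f.restrict (map_ker f g cφ)) (fun x hx => map_range f g cψ x.1 hx)

@[simp] theorem perHMap_mk (x : ↥(LinearMap.ker φ)) :
    perHMap f g cφ cψ (Submodule.Quotient.mk x) =
      Submodule.Quotient.mk ⟨f x.1, map_ker f g cφ x.1 x.2⟩ := rfl

/-- induced map on `M / im ψ` -/
def topMap : (M ⧸ LinearMap.range ψ) →ₗ[R] (M' ⧸ LinearMap.range ψ') :=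
  Submodule.mapQ _ _ f (fun x hx => map_range f g cψ x hx)

@[simp] theorem topMap_mk (m : M) :
    topMap f g cψ (Submodule.Quotient.mk m) = Submodule.Quotient.mk (f m) := rfl

/-- induced map on `ker ψ` -/
def botMap : ↥(LinearMap.ker ψ) →ₗ[R] ↥(LinearMap.ker ψ') :=
  g.restrict (map_ker g f cψ)

@[simp] theorem botMap_coe (n : ↥(LinearMap.ker ψ)) : ((botMap f g cψ n : ↥(LinearMap.ker ψ')) : N') =
    g n.1 := rfl

include cφ in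
theorem botMap_comp_barMap (h : IsPeriodic φ ψ) (h' : IsPeriodic φ' ψ') :
    (botMap f g cψ) ∘ₗ (barMap φ ψ h) = (barMap φ' ψ' h') ∘ₗ (topMap f g cψ) := by
  apply LinearMap.ext
  intro y
  obtain ⟨m, rfl⟩ := Submodule.mkQ_surjective _ y
  apply Subtype.ext
  have := LinearMap.congr_fun cφ m
  simp only [LinearMap.comp_apply] at this
  exact this.symm

theorem topMap_comp_hIncl :
    (topMap f g cψ) ∘ₗ (hIncl φ ψ) = (hIncl φ' ψ') ∘ₗ (perHMap f g cφ cψ) := by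
  apply LinearMap.ext
  intro y
  obtain ⟨x, rfl⟩ := Submodule.mkQ_surjective _ y
  rfl

theorem perHMap_comp_mkQ :
    (perHMap g f cψ cφ) ∘ₗ ((LinearMap.range φ).submoduleOf (LinearMap.ker ψ)).mkQ =
      ((LinearMap.range φ').submoduleOf (LinearMap.ker ψ')).mkQ ∘ₗ (botMap f g cψ) := by
  apply LinearMap.ext
  intro y
  rfl

end Two

section Three

variable {M₁ N₁ M₂ N₂ M₃ N₃ : Type v} [AddCommGroup M₁] [Module R M₁] [AddCommGroup N₁]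
  [Module R N₁] [AddCommGroup M₂] [Module R M₂] [AddCommGroup N₂] [Module R N₂]
  [AddCommGroup M₃] [Module R M₃] [AddCommGroup N₃] [Module R N₃]
  (φ₁ : M₁ →ₗ[R] N₁) (ψ₁ : N₁ →ₗ[R] M₁) (φ₂ : M₂ →ₗ[R] N₂) (ψ₂ : N₂ →ₗ[R] M₂)
  (φ₃ : M₃ →ₗ[R] N₃) (ψ₃ : N₃ →ₗ[R] M₃)
  (h₁ : IsPeriodic φ₁ ψ₁) (h₂ : IsPeriodic φ₂ ψ₂) (h₃ : IsPeriodic φ₃ ψ₃)
  (f₁ : M₁ →ₗ[R] M₂) (g₁ : N₁ →ₗ[R] N₂) (f₂ : M₂ →ₗ[R] M₃) (g₂ : N₂ →ₗ[R] N₃)
  (cφ₁ : φ₂ ∘ₗ f₁ = g₁ ∘ₗ φ₁) (cψ₁ : ψ₂ ∘ₗ g₁ = f₁ ∘ₗ ψ₁)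
  (cφ₂ : φ₃ ∘ₗ f₂ = g₂ ∘ₗ φ₂) (cψ₂ : ψ₃ ∘ₗ g₂ = f₂ ∘ₗ ψ₂)
  (hf₁ : Injective f₁) (hg₁ : Injective g₁) (hf₂ : Surjective f₂) (hg₂ : Surjective g₂)
  (hM : Exact f₁ f₂) (hN : Exact g₁ g₂)

include hg₂ hM in
theorem exact_topMap : Exact (topMap f₁ g₁ cψ₁) (topMap f₂ g₂ cψ₂) := by
  intro y
  obtain ⟨x, rfl⟩ := Submodule.mkQ_surjective _ y
  constructor
  · intro hy
    rw [Submodule.mkQ_apply, topMap_mk, Submodule.Quotient.mk_eq_zero] at hy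
    obtain ⟨n₃, hn₃⟩ := hy
    obtain ⟨n₂, rfl⟩ := hg₂ n₃
    have hc := LinearMap.congr_fun cψ₂ n₂
    simp only [LinearMap.comp_apply] at hc
    have h0 : f₂ (x - ψ₂ n₂) = 0 := by rw [map_sub, ← hc, hn₃, sub_self]
    obtain ⟨m₁, hm₁⟩ := (hM _).mp h0
    refine ⟨Submodule.Quotient.mk m₁, ?_⟩
    rw [topMap_mk, hm₁, Submodule.mkQ_apply, Submodule.Quotient.mk_sub]
    have : (Submodule.Quotient.mk (ψ₂ n₂) : M₂ ⧸ LinearMap.range ψ₂) = 0 :=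
      (Submodule.Quotient.mk_eq_zero _).mpr ⟨n₂, rfl⟩
    rw [this, sub_zero]
  · rintro ⟨z, hz⟩
    obtain ⟨m₁, rfl⟩ := Submodule.mkQ_surjective _ z
    rw [← hz, Submodule.mkQ_apply, topMap_mk, topMap_mk, (hM _).mpr ⟨m₁, rfl⟩,
      Submodule.Quotient.mk_zero]

include hf₂ in
theorem surjective_topMap : Surjective (topMap f₂ g₂ cψ₂) := by
  intro y
  obtain ⟨m₃, rfl⟩ := Submodule.mkQ_surjective _ y
  obtain ⟨m₂, rfl⟩ := hf₂ m₃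
  exact ⟨Submodule.Quotient.mk m₂, rfl⟩

include hf₁ hN in
theorem exact_botMap : Exact (botMap f₁ g₁ cψ₁) (botMap f₂ g₂ cψ₂) := by
  intro n
  constructor
  · intro hn
    have h0 : g₂ n.1 = 0 := congrArg Subtype.val hn
    obtain ⟨n₁, hn₁⟩ := (hN _).mp h0
    have hc := LinearMap.congr_fun cψ₁ n₁
    simp only [LinearMap.comp_apply] at hc
    have hker : ψ₁ n₁ = 0 := by
      apply hf₁
      rw [← hc, hn₁, map_zero]
      exact n.2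
    exact ⟨⟨n₁, hker⟩, Subtype.ext hn₁⟩
  · rintro ⟨z, rfl⟩
    apply Subtype.ext
    exact (hN _).mpr ⟨z.1, rfl⟩

include hg₁ in
theorem injective_botMap : Injective (botMap f₁ g₁ cψ₁) := by
  intro a b hab
  apply Subtype.ext
  apply hg₁
  exact congrArg Subtype.val hab

include hg₁ hg₂ hM h₂ in
/-- exactness at the middle `H⁰` -/
theorem exact_perHMap :
    Exact (perHMap f₁ g₁ cφ₁ cψ₁) (perHMap f₂ g₂ cφ₂ cψ₂) := by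
  intro y
  obtain ⟨x, rfl⟩ := Submodule.mkQ_surjective _ y
  constructor
  · intro hy
    rw [Submodule.mkQ_apply, perHMap_mk, Submodule.Quotient.mk_eq_zero] at hy
    obtain ⟨n₃, hn₃⟩ := hy
    obtain ⟨n₂, rfl⟩ := hg₂ n₃
    have hc := LinearMap.congr_fun cψ₂ n₂
    simp only [LinearMap.comp_apply] at hc
    have h0 : f₂ (x.1 - ψ₂ n₂) = 0 := by
      rw [map_sub, ← hc]
      exact sub_eq_zero.mpr hn₃.symm
    obtain ⟨m₁, hm₁⟩ := (hM _).mp h0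
    have hc1 := LinearMap.congr_fun cφ₁ m₁
    simp only [LinearMap.comp_apply] at hc1
    have hker : φ₁ m₁ = 0 := by
      apply hg₁
      rw [← hc1, hm₁, map_sub, map_zero]
      have h2 : φ₂ (ψ₂ n₂) = 0 := LinearMap.congr_fun h₂.1 n₂
      rw [h2, sub_zero]
      exact x.2
    refine ⟨Submodule.Quotient.mk ⟨m₁, hker⟩, ?_⟩
    rw [perHMap_mk, Submodule.mkQ_apply, Submodule.Quotient.eq]
    refine ⟨-n₂, ?_⟩
    change ψ₂ (-n₂) = f₁ m₁ - x.1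
    rw [hm₁, map_neg]
    abel
  · rintro ⟨z, hz⟩
    obtain ⟨m₁, rfl⟩ := Submodule.mkQ_surjective _ z
    rw [← hz, Submodule.mkQ_apply, perHMap_mk, perHMap_mk, Submodule.Quotient.mk_eq_zero]
    refine ⟨0, ?_⟩
    rw [map_zero]
    exact ((hM _).mpr ⟨m₁.1, rfl⟩).symm

include hf₁ hg₁ hf₂ hg₂ hM hN h₁ h₂ h₃ in
/-- half of the hexagon: the connecting map `H⁰₃ → H¹₁` -/
theorem exists_delta :
    ∃ δ : perH φ₃ ψ₃ →ₗ[R] perH ψ₁ φ₁,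
      Exact (perHMap f₂ g₂ cφ₂ cψ₂) δ ∧ Exact δ (perHMap g₁ f₁ cψ₁ cφ₁) := by
  have hcomm₁ := botMap_comp_barMap f₁ g₁ cφ₁ cψ₁ h₁ h₂
  have hcomm₂ := botMap_comp_barMap f₂ g₂ cφ₂ cψ₂ h₂ h₃
  have hT := exact_topMap ψ₁ ψ₂ ψ₃ f₁ g₁ f₂ g₂ cψ₁ cψ₂ hg₂ hM
  have hB := exact_botMap ψ₁ ψ₂ ψ₃ f₁ g₁ f₂ g₂ cψ₁ cψ₂ hf₁ hN
  have hsT := surjective_topMap ψ₂ ψ₃ f₂ g₂ cψ₂ hf₂
  have hiB := injective_botMap ψ₁ ψ₂ f₁ g₁ cψ₁ hg₁
  refine ⟨SnakeLemma.δ' (barMap φ₁ ψ₁ h₁) (barMap φ₂ ψ₂ h₂) (barMap φ₃ ψ₃ h₃)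
    (topMap f₁ g₁ cψ₁) (topMap f₂ g₂ cψ₂) hT (botMap f₁ g₁ cψ₁) (botMap f₂ g₂ cψ₂) hB
    hcomm₁ hcomm₂ (hIncl φ₃ ψ₃) (exact_hIncl_barMap φ₃ ψ₃ h₃)
    ((LinearMap.range φ₁).submoduleOf (LinearMap.ker ψ₁)).mkQ (exact_barMap_mkQ φ₁ ψ₁ h₁)
    hsT hiB, ?_, ?_⟩
  · exact SnakeLemma.exact_δ'_right (barMap φ₁ ψ₁ h₁) (barMap φ₂ ψ₂ h₂) (barMap φ₃ ψ₃ h₃)
      (topMap f₁ g₁ cψ₁) (topMap f₂ g₂ cψ₂) hT (botMap f₁ g₁ cψ₁) (botMap f₂ g₂ cψ₂) hB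
      hcomm₁ hcomm₂ (hIncl φ₂ ψ₂) (exact_hIncl_barMap φ₂ ψ₂ h₂)
      (hIncl φ₃ ψ₃) (exact_hIncl_barMap φ₃ ψ₃ h₃)
      ((LinearMap.range φ₁).submoduleOf (LinearMap.ker ψ₁)).mkQ (exact_barMap_mkQ φ₁ ψ₁ h₁)
      hsT hiB (perHMap f₂ g₂ cφ₂ cψ₂) (topMap_comp_hIncl f₂ g₂ cφ₂ cψ₂)
      (hIncl_injective φ₃ ψ₃)
  · exact SnakeLemma.exact_δ'_left (barMap φ₁ ψ₁ h₁) (barMap φ₂ ψ₂ h₂) (barMap φ₃ ψ₃ h₃)
      (topMap f₁ g₁ cψ₁) (topMap f₂ g₂ cψ₂) hT (botMap f₁ g₁ cψ₁) (botMap f₂ g₂ cψ₂) hB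
      hcomm₁ hcomm₂ (hIncl φ₃ ψ₃) (exact_hIncl_barMap φ₃ ψ₃ h₃)
      ((LinearMap.range φ₁).submoduleOf (LinearMap.ker ψ₁)).mkQ (exact_barMap_mkQ φ₁ ψ₁ h₁)
      ((LinearMap.range φ₂).submoduleOf (LinearMap.ker ψ₂)).mkQ (exact_barMap_mkQ φ₂ ψ₂ h₂)
      hsT hiB (perHMap g₁ f₁ cψ₁ cφ₁) (perHMap_comp_mkQ f₁ g₁ cφ₁ cψ₁)
      (Submodule.mkQ_surjective _)

end Three

end Groth.Agent.Lib.helper20.Herb
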