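import Mathlib
import Groth.Agent.Lib.helper20.Herb1

/-!
# Additivity of the Herbrand quotient in short exact sequences (helper20)
-/

set_option autoImplicit false
universe u v

namespace Groth.Agent.Lib.helper20.Herb

open CycAlg Function Groth.Agent.Lib.helper20.OneDim

variable {R : Type u} [CommRing R]

theorem length_ne_top_of_exact {X Y Z : Type*} [AddCommGroup X] [Module R X] [AddCommGroup Y]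
    [Module R Y] [AddCommGroup Z] [Module R Z] (f : X →ₗ[R] Y) (g : Y →ₗ[R] Z) (h : Exact f g)
    (hX : Module.length R X ≠ ⊤) (hZ : Module.length R Z ≠ ⊤) : Module.length R Y ≠ ⊤ := by
  rw [length_eq_range_add f g h]
  have h1 : Module.length R (LinearMap.range f) ≤ Module.length R X :=
    Module.length_le_of_surjective f.rangeRestrict f.surjective_rangeRestrict
  have h2 : Module.length R (LinearMap.range g) ≤ Module.length R Z :=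
    Module.length_le_of_injective (LinearMap.range g).subtype (Submodule.injective_subtype _)
  have h3 : Module.length R (LinearMap.range f) + Module.length R (LinearMap.range g) ≤
      Module.length R X + Module.length R Z := add_le_add h1 h2
  have h4 : Module.length R X + Module.length R Z ≠ ⊤ := WithTop.add_ne_top.mpr ⟨hX, hZ⟩
  exact ne_top_of_le_ne_top h4 h3

section Hexagon

variable {A₀ A₁ A₂ A₃ A₄ A₅ : Type*} [AddCommGroup A₀] [Module R A₀] [AddCommGroup A₁]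
  [Module R A₁] [AddCommGroup A₂] [Module R A₂] [AddCommGroup A₃] [Module R A₃]
  [AddCommGroup A₄] [Module R A₄] [AddCommGroup A₅] [Module R A₅]
  (a₀ : A₀ →ₗ[R] A₁) (a₁ : A₁ →ₗ[R] A₂) (a₂ : A₂ →ₗ[R] A₃) (a₃ : A₃ →ₗ[R] A₄)
  (a₄ : A₄ →ₗ[R] A₅) (a₅ : A₅ →ₗ[R] A₀)
  (e₀ : Exact a₅ a₀) (e₁ : Exact a₀ a₁) (e₂ : Exact a₁ a₂) (e₃ : Exact a₂ a₃)
  (e₄ : Exact a₃ a₄) (e₅ : Exact a₄ a₅)

include e₀ e₁ e₂ e₃ e₄ e₅ in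
theorem hexagon_length :
    Module.length R A₀ + Module.length R A₂ + Module.length R A₄ =
      Module.length R A₁ + Module.length R A₃ + Module.length R A₅ := by
  rw [length_eq_range_add a₅ a₀ e₀, length_eq_range_add a₁ a₂ e₂, length_eq_range_add a₃ a₄ e₄,
    length_eq_range_add a₀ a₁ e₁, length_eq_range_add a₂ a₃ e₃, length_eq_range_add a₄ a₅ e₅]
  ring

end Hexagon

section Main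

variable {M₁ N₁ M₂ N₂ M₃ N₃ : Type v} [AddCommGroup M₁] [Module R M₁] [AddCommGroup N₁]
  [Module R N₁] [AddCommGroup M₂] [Module R M₂] [AddCommGroup N₂] [Module R N₂]
  [AddCommGroup M₃] [Module R M₃] [AddCommGroup N₃] [Module R N₃]
  (φ₁ : M₁ →ₗ[R] N₁) (ψ₁ : N₁ →ₗ[R] M₁) (φ₂ : M₂ →ₗ[R] N₂) (ψ₂ : N₂ →ₗ[R] M₂)
  (φ₃ : M₃ →ₗ[R] N₃) (ψ₃ : N₃ →ₗ[R] M₃)
  (h₁ : IsPeriodic φ₁ ψ₁) (h₂ : IsPeriodic φ₂ ψ₂) (h₃ : IsPeriodic φ₃ ψ₃)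
  (f₁ : M₁ →ₗ[R] M₂) (g₁ : N₁ →ₗ[R] N₂) (f₂ : M₂ →ₗ[R] M₃) (g₂ : N₂ →ₗ[R] N₃)
  (cφ₁ : φ₂ ∘ₗ f₁ = g₁ ∘ₗ φ₁) (cψ₁ : ψ₂ ∘ₗ g₁ = f₁ ∘ₗ ψ₁)
  (cφ₂ : φ₃ ∘ₗ f₂ = g₂ ∘ₗ φ₂) (cψ₂ : ψ₃ ∘ₗ g₂ = f₂ ∘ₗ ψ₂)
  (hf₁ : Injective f₁) (hg₁ : Injective g₁) (hf₂ : Surjective f₂) (hg₂ : Surjective g₂)
  (hM : Exact f₁ f₂) (hN : Exact g₁ g₂)

include h₁ h₂ h₃ cφ₁ cψ₁ cφ₂ cψ₂ hf₁ hg₁ hf₂ hg₂ hM hN in
/-- **Additivity of the Herbrand quotient.** -/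
theorem herbrand_shortExact
    (htwo : (FinCoh R φ₁ ψ₁ ∧ FinCoh R φ₂ ψ₂) ∨ (FinCoh R φ₁ ψ₁ ∧ FinCoh R φ₃ ψ₃) ∨
      (FinCoh R φ₂ ψ₂ ∧ FinCoh R φ₃ ψ₃)) :
    FinCoh R φ₁ ψ₁ ∧ FinCoh R φ₂ ψ₂ ∧ FinCoh R φ₃ ψ₃ ∧
      herbrand R φ₂ ψ₂ = herbrand R φ₁ ψ₁ + herbrand R φ₃ ψ₃ := by
  obtain ⟨δ, e₂, e₃⟩ := exists_delta φ₁ ψ₁ φ₂ ψ₂ φ₃ ψ₃ h₁ h₂ h₃ f₁ g₁ f₂ g₂ cφ₁ cψ₁ cφ₂ cψ₂
    hf₁ hg₁ hf₂ hg₂ hM hN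
  obtain ⟨δ', e₅, e₀⟩ := exists_delta ψ₁ φ₁ ψ₂ φ₂ ψ₃ φ₃ ⟨h₁.2, h₁.1⟩ ⟨h₂.2, h₂.1⟩ ⟨h₃.2, h₃.1⟩
    g₁ f₁ g₂ f₂ cψ₁ cφ₁ cψ₂ cφ₂ hg₁ hf₁ hg₂ hf₂ hN hM
  have e₁ := exact_perHMap φ₁ ψ₁ φ₂ ψ₂ φ₃ ψ₃ h₂ f₁ g₁ f₂ g₂ cφ₁ cψ₁ cφ₂ cψ₂ hg₁ hg₂ hM
  have e₄ := exact_perHMap ψ₁ φ₁ ψ₂ φ₂ ψ₃ φ₃ ⟨h₂.2, h₂.1⟩ g₁ f₁ g₂ f₂ cψ₁ cφ₁ cψ₂ cφ₂ hf₁ hf₂ hN
  have hfin : FinCoh R φ₁ ψ₁ ∧ FinCoh R φ₂ ψ₂ ∧ FinCoh R φ₃ ψ₃ := by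
    rcases htwo with ⟨a, b⟩ | ⟨a, c⟩ | ⟨b, c⟩
    · refine ⟨a, b, ?_, ?_⟩
      · exact (length_ne_top_of_exact _ _ e₂ b.1.ne a.2.ne).lt_top
      · exact (length_ne_top_of_exact _ _ e₅ b.2.ne a.1.ne).lt_top
    · refine ⟨a, ⟨?_, ?_⟩, c⟩
      · exact (length_ne_top_of_exact _ _ e₁ a.1.ne c.1.ne).lt_top
      · exact (length_ne_top_of_exact _ _ e₄ a.2.ne c.2.ne).lt_top
    · refine ⟨⟨?_, ?_⟩, b, c⟩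
      · exact (length_ne_top_of_exact _ _ e₀ c.2.ne b.1.ne).lt_top
      · exact (length_ne_top_of_exact _ _ e₃ c.1.ne b.2.ne).lt_top
  obtain ⟨a, b, c⟩ := hfin
  refine ⟨a, b, c, ?_⟩
  have hex := hexagon_length _ _ _ _ _ _ e₀ e₁ e₂ e₃ e₄ e₅
  have h7 := congrArg ENat.toNat hex
  have s1 : Module.length R (perH φ₁ ψ₁) + Module.length R (perH φ₃ ψ₃) ≠ ⊤ :=
    WithTop.add_ne_top.mpr ⟨a.1.ne, c.1.ne⟩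
  have s2 : Module.length R (perH φ₂ ψ₂) + Module.length R (perH ψ₁ φ₁) ≠ ⊤ :=
    WithTop.add_ne_top.mpr ⟨b.1.ne, a.2.ne⟩
  rw [ENat.toNat_add s1 b.2.ne, ENat.toNat_add a.1.ne c.1.ne, ENat.toNat_add s2 c.2.ne,
    ENat.toNat_add b.1.ne a.2.ne] at h7
  unfold herbrand
  omega

end Main

end Groth.Agent.Lib.helper20.Herb
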