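import Mathlib
import Groth.Agent.Lib.helper20.Herb2
import Groth.Agent.S6464

/-!
# Herbrand quotients are insensitive to maps with finite-length kernel and cokernel (helper20)
-/

set_option autoImplicit false
universe u v

namespace Groth.Agent.Lib.helper20.Herb

open CycAlg Function Groth.Agent.Lib.helper20.OneDim

variable {R : Type u} [CommRing R]

/-- a (2,1)-periodic complex on a module of finite length has vanishing Herbrand quotient -/
theorem herbrand_eq_zero_of_finite_length {M : Type v} [AddCommGroup M] [Module R M]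
    (φ ψ : M →ₗ[R] M) (h : IsPeriodic φ ψ) (hM : Module.length R M < ⊤) :
    FinCoh R φ ψ ∧ herbrand R φ ψ = 0 := by
  obtain ⟨h1, h2⟩ := Groth.Agent.S6464.result φ ψ h hM hM
  exact ⟨h1, by rw [h2, sub_self]⟩

section

variable {M M' : Type v} [AddCommGroup M] [Module R M] [AddCommGroup M'] [Module R M']
  (φ ψ : M →ₗ[R] M) (φ' ψ' : M' →ₗ[R] M') (h : IsPeriodic φ ψ) (h' : IsPeriodic φ' ψ')
  (f : M →ₗ[R] M') (cφ : φ' ∘ₗ f = f ∘ₗ φ) (cψ : ψ' ∘ₗ f = f ∘ₗ ψ)

include h h' cφ cψ in
theorem herbrand_eq_of_finite_ker_coker (hfin : FinCoh R φ ψ) (hfin' : FinCoh R φ' ψ')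
    (hker : Module.length R (LinearMap.ker f) < ⊤)
    (hcoker : Module.length R (M' ⧸ LinearMap.range f) < ⊤) :
    herbrand R φ ψ = herbrand R φ' ψ' := by
  have cφa : ∀ x, φ' (f x) = f (φ x) := fun x => LinearMap.congr_fun cφ x
  have cψa : ∀ x, ψ' (f x) = f (ψ x) := fun x => LinearMap.congr_fun cψ x
  -- the complex on the kernel
  let φK : LinearMap.ker f →ₗ[R] LinearMap.ker f := φ.restrict (fun x hx => by
    rw [LinearMap.mem_ker] at hx ⊢
    rw [← cφa, hx, map_zero])
  let ψK : LinearMap.ker f →ₗ[R] LinearMap.ker f := ψ.restrict (fun x hx => by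
    rw [LinearMap.mem_ker] at hx ⊢
    rw [← cψa, hx, map_zero])
  have hK : IsPeriodic φK ψK := by
    constructor
    · apply LinearMap.ext
      intro x
      apply Subtype.ext
      exact LinearMap.congr_fun h.1 x.1
    · apply LinearMap.ext
      intro x
      apply Subtype.ext
      exact LinearMap.congr_fun h.2 x.1
  -- the complex on the image
  let φI : LinearMap.range f →ₗ[R] LinearMap.range f := φ'.restrict (fun y hy => by
    obtain ⟨x, rfl⟩ := hy
    exact ⟨φ x, (cφa x).symm⟩)
  let ψI : LinearMap.range f →ₗ[R] LinearMap.range f := ψ'.restrict (fun y hy => by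
    obtain ⟨x, rfl⟩ := hy
    exact ⟨ψ x, (cψa x).symm⟩)
  have hI : IsPeriodic φI ψI := by
    constructor
    · apply LinearMap.ext
      intro x
      apply Subtype.ext
      exact LinearMap.congr_fun h'.1 x.1
    · apply LinearMap.ext
      intro x
      apply Subtype.ext
      exact LinearMap.congr_fun h'.2 x.1
  -- the complex on the cokernel
  let φC : (M' ⧸ LinearMap.range f) →ₗ[R] (M' ⧸ LinearMap.range f) :=
    Submodule.mapQ _ _ φ' (by
      rintro _ ⟨x, rfl⟩
      exact ⟨φ x, (cφa x).symm⟩)
  let ψC : (M' ⧸ LinearMap.range f) →ₗ[R] (M' ⧸ LinearMap.range f) :=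
    Submodule.mapQ _ _ ψ' (by
      rintro _ ⟨x, rfl⟩
      exact ⟨ψ x, (cψa x).symm⟩)
  have hC : IsPeriodic φC ψC := by
    constructor
    · apply LinearMap.ext
      intro y
      obtain ⟨m, rfl⟩ := Submodule.mkQ_surjective _ y
      change Submodule.Quotient.mk (φ' (ψ' m)) = 0
      have := LinearMap.congr_fun h'.1 m
      simp only [LinearMap.comp_apply, LinearMap.zero_apply] at this
      rw [this, Submodule.Quotient.mk_zero]
    · apply LinearMap.ext
      intro y
      obtain ⟨m, rfl⟩ := Submodule.mkQ_surjective _ y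
      change Submodule.Quotient.mk (ψ' (φ' m)) = 0
      have := LinearMap.congr_fun h'.2 m
      simp only [LinearMap.comp_apply, LinearMap.zero_apply] at this
      rw [this, Submodule.Quotient.mk_zero]
  obtain ⟨fK, eK⟩ := herbrand_eq_zero_of_finite_length φK ψK hK hker
  obtain ⟨fC, eC⟩ := herbrand_eq_zero_of_finite_length φC ψC hC hcoker
  -- first sequence
  have hex1 : Exact (LinearMap.ker f).subtype f.rangeRestrict := by
    rw [LinearMap.exact_iff, LinearMap.ker_rangeRestrict, Submodule.range_subtype]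
  have s1 := herbrand_shortExact φK ψK φ ψ φI ψI hK h hI
    (LinearMap.ker f).subtype (LinearMap.ker f).subtype f.rangeRestrict f.rangeRestrict
    (by apply LinearMap.ext; intro x; rfl) (by apply LinearMap.ext; intro x; rfl)
    (by apply LinearMap.ext; intro x; apply Subtype.ext; exact cφa x)
    (by apply LinearMap.ext; intro x; apply Subtype.ext; exact cψa x)
    (Submodule.injective_subtype _) (Submodule.injective_subtype _)
    f.surjective_rangeRestrict f.surjective_rangeRestrict hex1 hex1 (Or.inl ⟨fK, hfin⟩)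
  obtain ⟨-, -, fI, e1⟩ := s1
  have hex2 : Exact (LinearMap.range f).subtype (LinearMap.range f).mkQ :=
    LinearMap.exact_subtype_mkQ _
  have s2 := herbrand_shortExact φI ψI φ' ψ' φC ψC hI h' hC
    (LinearMap.range f).subtype (LinearMap.range f).subtype (LinearMap.range f).mkQ
    (LinearMap.range f).mkQ
    (by apply LinearMap.ext; intro x; rfl) (by apply LinearMap.ext; intro x; rfl)
    (by apply LinearMap.ext; intro x; rfl) (by apply LinearMap.ext; intro x; rfl)
    (Submodule.injective_subtype _) (Submodule.injective_subtype _)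
    (Submodule.mkQ_surjective _) (Submodule.mkQ_surjective _) hex2 hex2 (Or.inl ⟨fI, hfin'⟩)
  obtain ⟨-, -, -, e2⟩ := s2
  rw [e1, e2, eK, eC]
  ring

end

end Groth.Agent.Lib.helper20.Herb
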