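import Mathlib
import Groth.Agent.S2893

/-!
# Normal flatness: refined kernel lemma (regularity needed only in lower degrees)
-/

set_option autoImplicit false
universe u

namespace Groth.Agent.Lib.helper20.NormFlatA

open Groth.Agent.S2893

variable {A : Type u} [CommRing A] {M : Type u} [AddCommGroup M] [Module A M]

theorem iter_reg' (R : Ideal A) (f : A) (i : ℕ)
    (hreg : ∀ m ∈ P R M i, f • m ∈ P R M (i + 1) → m ∈ P R M (i + 1)) :
    ∀ (e : ℕ), ∀ m ∈ P R M i, f ^ e • m ∈ P R M (i + 1) → m ∈ P R M (i + 1) := by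
  intro e
  induction e with
  | zero => intro m _ h; simpa using h
  | succ e ih =>
    intro m hm h
    rw [pow_succ', ← smul_smul] at h
    exact ih m hm (hreg _ (Submodule.smul_mem _ _ hm) h)

theorem core' (R : Ideal A) (f : A) (K : ℕ)
    (hreg : ∀ i < K, ∀ m ∈ P R M i, f • m ∈ P R M (i + 1) → m ∈ P R M (i + 1)) :
    ∀ (k : ℕ) (m : ℕ → M), (∀ i, m i ∈ P R M i) → ∀ e : ℕ, (k < K ∨ (e = 0 ∧ k ≤ K)) →
      f ^ e • s f m k ∈ P R M (k + 1) → ∀ j ≤ k, s f m j ∈ P R M (j + 1) := by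
  intro k
  induction k with
  | zero =>
    intro m hm e hc h j hj
    obtain rfl : j = 0 := Nat.le_zero.mp hj
    rcases hc with hc | ⟨rfl, _⟩
    · exact iter_reg' R f 0 (hreg 0 hc) e _ (hm 0) h
    · simpa using h
  | succ k ih =>
    intro m hm e hc h j hj
    have hkK : k < K := by
      rcases hc with hc | ⟨_, hc⟩
      · exact Nat.lt_of_succ_lt hc
      · exact hc
    have h1 : f ^ (e + 1) • s f m k ∈ P R M (k + 1) := by
      have h2 : f ^ e • s f m (k + 1) ∈ P R M (k + 1) := P_succ_le R (k + 1) h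
      have h3 : f ^ e • m (k + 1) ∈ P R M (k + 1) := Submodule.smul_mem _ _ (hm (k + 1))
      have h4 : f ^ (e + 1) • s f m k = f ^ e • s f m (k + 1) - f ^ e • m (k + 1) := by
        simp only [s, smul_add, smul_smul, pow_succ]
        abel
      rw [h4]
      exact Submodule.sub_mem _ h2 h3
    have ih' := ih m hm (e + 1) (Or.inl hkK) h1
    rcases Nat.lt_or_ge j (k + 1) with hlt | hge
    · exact ih' j (Nat.lt_succ_iff.mp hlt)
    · obtain rfl : j = k + 1 := le_antisymm hj hge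
      have h5 : s f m (k + 1) ∈ P R M (k + 1) := by
        simp only [s]
        exact Submodule.add_mem _ (Submodule.smul_mem _ _ (ih' k le_rfl)) (hm (k + 1))
      rcases hc with hc | ⟨rfl, _⟩
      · exact iter_reg' R f (k + 1) (hreg (k + 1) hc) e _ h5 h
      · simpa using h

theorem kernel' (R : Ideal A) (f : A) (k : ℕ)
    (hreg : ∀ i < k, ∀ m ∈ P R M i, f • m ∈ P R M (i + 1) → m ∈ P R M (i + 1))
    (m : ℕ → M) (hm : ∀ i, m i ∈ P R M i)
    (h : s f m k ∈ (R ⊔ Ideal.span {f}) ^ (k + 1) • (⊤ : Submodule A M)) :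
    ∀ j ≤ k, ∃ a ∈ P R M (j + 1), ∃ b ∈ P R M j, m j = a + f • b := by
  obtain ⟨n, hn, hsn⟩ := decomp R f (k + 1) _ h
  have hm' : ∀ i, m i - f • n i ∈ P R M i := fun i =>
    Submodule.sub_mem _ (hm i) (Submodule.smul_mem _ _ (hn i))
  have h1 : s f (fun i => m i - f • n i) k = n (k + 1) := by
    rw [s_sub_smul, hsn, s]
    abel
  have h2 := core' R f k hreg k (fun i => m i - f • n i) hm' 0 (Or.inr ⟨rfl, le_rfl⟩) (by
    rw [pow_zero, one_smul, h1]; exact hn (k + 1))
  intro j hj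
  rcases Nat.eq_zero_or_pos j with rfl | hpos
  · refine ⟨s f (fun i => m i - f • n i) 0, h2 0 hj, n 0, hn 0, ?_⟩
    simp [s]
  · obtain ⟨j, rfl⟩ := Nat.exists_eq_succ_of_ne_zero hpos.ne'
    refine ⟨s f (fun i => m i - f • n i) (j + 1), h2 (j + 1) hj,
      n (j + 1) - s f (fun i => m i - f • n i) j,
      Submodule.sub_mem _ (hn (j + 1)) (h2 j (Nat.le_of_succ_le hj)), ?_⟩
    simp only [s, smul_sub]
    abel

theorem Theta_mem_iff' (R : Ideal A) (f : A) (k : ℕ)
    (hreg : ∀ i < k, ∀ m ∈ P R M i, f • m ∈ P R M (i + 1) → m ∈ P R M (i + 1))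
    (m : ∀ i : Fin (k + 1), ↥(P R M i)) :
    Theta R f k m ∈ (R ⊔ Ideal.span {f}) •
        (⊤ : Submodule A ↥((R ⊔ Ideal.span {f}) ^ k • (⊤ : Submodule A M))) ↔
      ∀ i : Fin (k + 1), m i ∈ (R ⊔ Ideal.span {f}) • (⊤ : Submodule A ↥(P R M i)) := by
  rw [mem_smul_top_iff, ← Submodule.mul_smul, ← pow_succ']
  constructor
  · intro h (i : Fin (k + 1))
    rw [Theta_coe_s] at h
    obtain ⟨a, ha, b, hb, hab⟩ := kernel' R f k hreg (ext0 R k m) (ext0_mem R k m) h i
      (Nat.lt_succ_iff.mp i.2)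
    rw [mem_smul_top_iff]
    rw [ext0_fin] at hab
    rw [hab]
    apply Submodule.add_mem
    · rw [P_succ] at ha
      exact Submodule.smul_mono_left le_sup_left ha
    · exact Submodule.smul_mem_smul (Ideal.mem_sup_right (Ideal.mem_span_singleton_self f)) hb
  · intro h
    rw [Theta_coe]
    apply Submodule.sum_mem
    intro i _
    have hi := (mem_smul_top_iff _ _ _).mp (h i)
    exact theta_mem' R f k i (Nat.lt_succ_iff.mp i.2) _ hi

end Groth.Agent.Lib.helper20.NormFlatA
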