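import Mathlib
import Groth.Agent.Lib.helper20.NormFlatA

/-!
# Normal flatness: the graded-piece equivalence with regularity only in lower degrees
-/

set_option autoImplicit false
universe u

namespace Groth.Agent.Lib.helper20.NormFlatB

open Groth.Agent.S2893 Groth.Agent.Lib.helper20.NormFlatA

variable {A : Type u} [CommRing A] {M : Type u} [AddCommGroup M] [Module A M]

theorem flat_of_pi {S : Type u} [CommRing S] {n : ℕ} (X : Fin n → Type u)
    [∀ i, AddCommGroup (X i)] [∀ i, Module S (X i)] (h : Module.Flat S (∀ i, X i)) (i : Fin n) :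
    Module.Flat S (X i) := by
  haveI := h
  exact Module.Flat.of_retract (LinearMap.single S X i) (LinearMap.proj i)
    (LinearMap.proj_comp_single_same S X i)

/-- `Q^k M / Q^{k+1} M ≃ ⊕_{i ≤ k} R^i M / Q R^i M`, given regularity of `f` on the graded pieces
of `gr_R(M)` in degrees `< k`. -/
noncomputable def grEquiv (R : Ideal A) (f : A) (k : ℕ)
    (hreg : ∀ i < k, ∀ m ∈ P R M i, f • m ∈ P R M (i + 1) → m ∈ P R M (i + 1)) :
    (↥((R ⊔ Ideal.span {f}) ^ k • (⊤ : Submodule A M)) ⧸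
        ((R ⊔ Ideal.span {f}) •
          (⊤ : Submodule A ↥((R ⊔ Ideal.span {f}) ^ k • (⊤ : Submodule A M))))) ≃ₗ[
        A ⧸ (R ⊔ Ideal.span {f})]
      (∀ i : Fin (k + 1), ↥(P R M i) ⧸
        ((R ⊔ Ideal.span {f}) • (⊤ : Submodule A ↥(P R M i)))) :=
  let N : ∀ i : Fin (k + 1), Submodule A ↥(P R M i) := fun i => (R ⊔ Ideal.span {f}) • ⊤
  let Ψ : (∀ i : Fin (k + 1), ↥(P R M i)) →ₗ[A]
      ↥((R ⊔ Ideal.span {f}) ^ k • (⊤ : Submodule A M)) ⧸
        ((R ⊔ Ideal.span {f}) •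
          (⊤ : Submodule A ↥((R ⊔ Ideal.span {f}) ^ k • (⊤ : Submodule A M)))) :=
    (Submodule.mkQ _) ∘ₗ Theta R f k
  have hsurj : Function.Surjective Ψ :=
    (Submodule.mkQ_surjective _).comp (Theta_surjective R f k)
  have hker : LinearMap.ker Ψ = Submodule.pi Set.univ N := by
    ext m
    rw [LinearMap.mem_ker, LinearMap.comp_apply, Submodule.mkQ_apply,
      Submodule.Quotient.mk_eq_zero, Theta_mem_iff' R f k hreg m, Submodule.mem_pi]
    constructor
    · intro h i _; exact h i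
    · intro h i; exact h i (Set.mem_univ i)
  LinearEquiv.extendScalarsOfSurjective Ideal.Quotient.mk_surjective
    (((Ψ.quotKerEquivOfSurjective hsurj).symm.trans (Submodule.quotEquivOfEq _ _ hker)).trans
      (Submodule.quotientPi N))

theorem flat_top_step (R : Ideal A) (f : A) (k : ℕ)
    (hreg : ∀ i < k, ∀ m ∈ P R M i, f • m ∈ P R M (i + 1) → m ∈ P R M (i + 1))
    (hfl : Module.Flat (A ⧸ (R ⊔ Ideal.span {f}))
      (↥((R ⊔ Ideal.span {f}) ^ k • (⊤ : Submodule A M)) ⧸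
        ((R ⊔ Ideal.span {f}) •
          (⊤ : Submodule A ↥((R ⊔ Ideal.span {f}) ^ k • (⊤ : Submodule A M)))))) :
    Module.Flat (A ⧸ (R ⊔ Ideal.span {f}))
      (↥(P R M k) ⧸ ((R ⊔ Ideal.span {f}) • (⊤ : Submodule A ↥(P R M k)))) := by
  haveI := hfl
  have h1 : Module.Flat (A ⧸ (R ⊔ Ideal.span {f})) (∀ i : Fin (k + 1), ↥(P R M i) ⧸
        ((R ⊔ Ideal.span {f}) • (⊤ : Submodule A ↥(P R M i)))) :=
    Module.Flat.of_linearEquiv (grEquiv R f k hreg).symm
  exact flat_of_pi (fun i : Fin (k + 1) => ↥(P R M i) ⧸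
        ((R ⊔ Ideal.span {f}) • (⊤ : Submodule A ↥(P R M i)))) h1 (Fin.last k)

end Groth.Agent.Lib.helper20.NormFlatB
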