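import Mathlib
import Groth.Agent.S5059

/-!
# Regularity of an element from flatness of the quotient and local regularity at associated primes
-/

set_option autoImplicit false
universe u

namespace Groth.Agent.Lib.helper20.NormFlatC

open RingTheory.Sequence

variable {A : Type u} [CommRing A] [IsNoetherianRing A]

/-- For a nonzero element `w` of a module flat over `A/I`, the annihilator of `w` is contained
in an associated prime of `A/I`. -/
theorem exists_ass_of_flat (I : Ideal A) (F : Type u) [AddCommGroup F] [Module A F]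
    [Module (A ⧸ I) F] [IsScalarTower A (A ⧸ I) F] [Module.Flat (A ⧸ I) F] (w : F) (hw : w ≠ 0) :
    ∃ p ∈ associatedPrimes A (A ⧸ I), ∀ a : A, a • w = 0 → a ∈ p := by
  classical
  by_contra hcon
  push Not at hcon
  let J : Ideal A := LinearMap.ker (LinearMap.toSpanSingleton A F w)
  have hJ : ∀ a, a ∈ J ↔ a • w = 0 := by
    intro a
    simp [J, LinearMap.mem_ker, LinearMap.toSpanSingleton_apply]
  have hfin := associatedPrimes.finite A (A ⧸ I)
  have hnot : ¬ ((J : Set A) ⊆ ⋃ p ∈ associatedPrimes A (A ⧸ I), (p : Set A)) := by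
    intro hsub
    have := (Ideal.subset_union_prime_finite hfin (f := id) ⊥ ⊥ (fun p hp _ _ => hp.isPrime)).mp
      hsub
    obtain ⟨p, hp, hle⟩ := this
    obtain ⟨a, ha, hap⟩ := hcon p hp
    exact hap (hle ((hJ a).mpr ha))
  rw [Set.not_subset] at hnot
  obtain ⟨a, haJ, ha⟩ := hnot
  have hreg : IsSMulRegular (A ⧸ I) a := by
    rw [isSMulRegular_iff_right_eq_zero_of_smul]
    intro y hy
    by_contra hy0
    apply ha
    rw [biUnion_associatedPrimes_eq_zero_divisors]
    exact ⟨y, hy0, hy⟩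
  have hwr : IsWeaklyRegular F [a] :=
    Groth.Agent.S5059.wr_flat I F [a] ((isWeaklyRegular_singleton_iff _ a).mpr hreg)
  have hF : IsSMulRegular F a := (isWeaklyRegular_singleton_iff _ a).mp hwr
  rw [isSMulRegular_iff_right_eq_zero_of_smul] at hF
  exact hw (hF w ((hJ a).mp haJ))

theorem loc_iter (p : Ideal A) [p.IsPrime] (G : Type u) [AddCommGroup G] [Module A G] (x : A)
    (hloc : ∀ g : G, x • g = 0 → ∃ s : A, s ∉ p ∧ s • g = 0) :
    ∀ (i : ℕ) (g : G), x ^ i • g = 0 → ∃ s : A, s ∉ p ∧ s • g = 0 := by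
  intro i
  induction i with
  | zero =>
    intro g hg
    refine ⟨1, fun h => ‹p.IsPrime›.ne_top ((Ideal.eq_top_iff_one _).mpr h), ?_⟩
    simpa using hg
  | succ i ih =>
    intro g hg
    rw [pow_succ', ← smul_smul] at hg
    obtain ⟨s, hs, hsg⟩ := hloc _ hg
    rw [smul_comm] at hsg
    obtain ⟨s', hs', hsg'⟩ := ih (s • g) hsg
    refine ⟨s' * s, fun h => ?_, by rw [← smul_smul]; exact hsg'⟩
    rcases ‹p.IsPrime›.mem_or_mem h with h | h
    · exact hs' h
    · exact hs h

/-- **Regularity from flatness of the quotient.** -/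
theorem regular_of_flat_quot (I : Ideal A) (x : A) (hx : x ∈ (⊥ : Ideal A).jacobson)
    (G : Type u) [AddCommGroup G] [Module A G] [Module.Finite A G]
    (hIx : (I • ⊤ : Submodule A G) = Ideal.span {x} • ⊤)
    [Module.Flat (A ⧸ I) (G ⧸ (I • ⊤ : Submodule A G))]
    (hloc : ∀ p ∈ associatedPrimes A (A ⧸ I), ∀ g : G, x • g = 0 → ∃ s : A, s ∉ p ∧ s • g = 0) :
    IsSMulRegular G x := by
  have hC : ∀ (i : ℕ) (w g : G), x ^ i • w = x ^ (i + 1) • g → w ∈ (I • ⊤ : Submodule A G) := by
    intro i w g hwg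
    by_contra hw
    have hw0 : (Submodule.Quotient.mk w : G ⧸ (I • ⊤ : Submodule A G)) ≠ 0 := by
      rwa [Ne, Submodule.Quotient.mk_eq_zero]
    obtain ⟨p, hp, hann⟩ := exists_ass_of_flat I (G ⧸ (I • ⊤ : Submodule A G)) _ hw0
    haveI : p.IsPrime := hp.isPrime
    have h0 : x ^ i • (w - x • g) = 0 := by
      rw [smul_sub, smul_smul, ← pow_succ, hwg, sub_self]
    obtain ⟨s, hs, hsw⟩ := loc_iter p G x (hloc p hp) i _ h0
    apply hs
    apply hann
    rw [← Submodule.Quotient.mk_smul, Submodule.Quotient.mk_eq_zero, hIx]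
    have : s • w = x • (s • g) := by
      rw [smul_sub, sub_eq_zero] at hsw
      rw [hsw, smul_comm]
    rw [this]
    exact Submodule.smul_mem_smul (Ideal.mem_span_singleton_self x) Submodule.mem_top
  rw [isSMulRegular_iff_right_eq_zero_of_smul]
  intro w hw
  have hdiv : ∀ n : ℕ, ∃ wn : G, w = x ^ n • wn := by
    intro n
    induction n with
    | zero => exact ⟨w, by simp⟩
    | succ n ih =>
      obtain ⟨wn, hwn⟩ := ih
      have h1 : x ^ (n + 1) • wn = x ^ (n + 1 + 1) • (0 : G) := by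
        rw [smul_zero, pow_succ', ← smul_smul, ← hwn, hw]
      have h2 := hC (n + 1) wn 0 h1
      rw [hIx, Submodule.ideal_span_singleton_smul] at h2
      obtain ⟨w', -, hw'⟩ := (Submodule.mem_smul_pointwise_iff_exists _ _ _).mp h2
      refine ⟨w', ?_⟩
      rw [hwn, ← hw', smul_smul, ← pow_succ]
  have hmem : w ∈ (⨅ i : ℕ, (Ideal.span {x}) ^ i • ⊤ : Submodule A G) := by
    rw [Submodule.mem_iInf]
    intro n
    obtain ⟨wn, hwn⟩ := hdiv n
    rw [hwn]
    exact Submodule.smul_mem_smul (Ideal.pow_mem_pow (Ideal.mem_span_singleton_self x) n)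
      Submodule.mem_top
  rw [Ideal.iInf_pow_smul_eq_bot_of_le_jacobson (Ideal.span {x})
    (by rw [Ideal.span_le, Set.singleton_subset_iff]; exact hx)] at hmem
  exact (Submodule.mem_bot A).mp hmem

end Groth.Agent.Lib.helper20.NormFlatC
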