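import Mathlib
import Groth.Agent.Lib.helper20.NormFlatB
import Groth.Agent.Lib.helper20.NormFlatC

/-!
# Normal flatness: descending one step `R + (x) ⟶ R`
-/

set_option autoImplicit false
universe u

namespace Groth.Agent.Lib.helper20.NormFlatD

open RingTheory.Sequence TensorProduct
open Groth.Agent.S2893 Groth.Agent.Lib.helper20.NormFlatA Groth.Agent.Lib.helper20.NormFlatB
  Groth.Agent.Lib.helper20.NormFlatC

variable {A : Type u} [CommRing A] {M : Type u} [AddCommGroup M] [Module A M]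

/-- elementwise regularity of `x` on `gr_R^i(M)` from flatness. -/
theorem reg_elem (R : Ideal A) (x : A) (hxr : IsSMulRegular (A ⧸ R) x) (i : ℕ)
    (hfl : Module.Flat (A ⧸ R) (↥(P R M i) ⧸ (R • (⊤ : Submodule A ↥(P R M i))))) :
    ∀ m ∈ P R M i, x • m ∈ P R M (i + 1) → m ∈ P R M (i + 1) := by
  intro m hm hfm
  haveI := hfl
  have hwr : IsWeaklyRegular (↥(P R M i) ⧸ (R • (⊤ : Submodule A ↥(P R M i)))) [x] :=
    Groth.Agent.S5059.wr_flat R _ [x] (by rw [isWeaklyRegular_singleton_iff]; exact hxr)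
  have hsr : IsSMulRegular (↥(P R M i) ⧸ (R • (⊤ : Submodule A ↥(P R M i)))) x := by
    rwa [isWeaklyRegular_singleton_iff] at hwr
  rw [isSMulRegular_iff_right_eq_zero_of_smul] at hsr
  have h1 := hsr (Submodule.Quotient.mk ⟨m, hm⟩) (by
    rw [← Submodule.Quotient.mk_smul, Submodule.Quotient.mk_eq_zero, mem_smul_top_iff]
    change x • m ∈ R • P R M i
    rw [← P_succ]; exact hfm)
  rw [Submodule.Quotient.mk_eq_zero, mem_smul_top_iff, ← P_succ] at h1
  exact h1

theorem nf_descend1 [IsNoetherianRing A] [Module.Finite A M] (R : Ideal A) (x : A)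
    (hx : x ∈ (⊥ : Ideal A).jacobson) (hxr : IsSMulRegular (A ⧸ R) x)
    (hQ : EGA4.IsNormallyFlat (R ⊔ Ideal.span {x}) M)
    (hloc : ∀ p ∈ associatedPrimes A (A ⧸ (R ⊔ Ideal.span {x})), ∀ k : ℕ, ∀ m ∈ P R M k,
      x • m ∈ P R M (k + 1) → ∃ s : A, s ∉ p ∧ s • m ∈ P R M (k + 1)) :
    EGA4.IsNormallyFlat R M := by
  intro k
  induction k using Nat.strong_induction_on with
  | _ k ih =>
  have hreg : ∀ i < k, ∀ m ∈ P R M i, x • m ∈ P R M (i + 1) → m ∈ P R M (i + 1) :=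
    fun i hi => reg_elem R x hxr i (ih i hi)
  have h1 := flat_top_step R x k hreg (hQ k)
  -- the graded piece
  have hle : (R • (⊤ : Submodule A ↥(P R M k))) ≤ (R ⊔ Ideal.span {x}) • ⊤ :=
    Submodule.smul_mono_left le_sup_left
  have hmap : ((R ⊔ Ideal.span {x}) • ⊤ :
      Submodule A (↥(P R M k) ⧸ (R • (⊤ : Submodule A ↥(P R M k))))) =
      Submodule.map (Submodule.mkQ _) ((R ⊔ Ideal.span {x}) • (⊤ : Submodule A ↥(P R M k))) := by
    rw [Submodule.map_smul'', Submodule.map_top, Submodule.range_mkQ]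
  let e : ((↥(P R M k) ⧸ (R • (⊤ : Submodule A ↥(P R M k)))) ⧸
      ((R ⊔ Ideal.span {x}) • ⊤ :
        Submodule A (↥(P R M k) ⧸ (R • (⊤ : Submodule A ↥(P R M k)))))) ≃ₗ[A ⧸ (R ⊔ Ideal.span {x})]
      (↥(P R M k) ⧸ ((R ⊔ Ideal.span {x}) • (⊤ : Submodule A ↥(P R M k)))) :=
    LinearEquiv.extendScalarsOfSurjective Ideal.Quotient.mk_surjective
      ((Submodule.quotEquivOfEq _ _ hmap).trans
        (Submodule.quotientQuotientEquivQuotient _ _ hle))
  haveI := h1
  haveI h2 : Module.Flat (A ⧸ (R ⊔ Ideal.span {x}))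
      ((↥(P R M k) ⧸ (R • (⊤ : Submodule A ↥(P R M k)))) ⧸
      ((R ⊔ Ideal.span {x}) • ⊤ :
        Submodule A (↥(P R M k) ⧸ (R • (⊤ : Submodule A ↥(P R M k)))))) :=
    Module.Flat.of_linearEquiv e
  have hRG : (R • ⊤ : Submodule A (↥(P R M k) ⧸ (R • (⊤ : Submodule A ↥(P R M k))))) = ⊥ := by
    rw [eq_bot_iff, Submodule.smul_le]
    intro r hr g _
    obtain ⟨m, rfl⟩ := Submodule.Quotient.mk_surjective _ g
    rw [Submodule.mem_bot, ← Submodule.Quotient.mk_smul, Submodule.Quotient.mk_eq_zero]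
    exact Submodule.smul_mem_smul hr Submodule.mem_top
  have hIx : ((R ⊔ Ideal.span {x}) • ⊤ :
      Submodule A (↥(P R M k) ⧸ (R • (⊤ : Submodule A ↥(P R M k))))) = Ideal.span {x} • ⊤ := by
    rw [Submodule.sup_smul, hRG, bot_sup_eq]
  have hregG : IsSMulRegular (↥(P R M k) ⧸ (R • (⊤ : Submodule A ↥(P R M k)))) x := by
    refine regular_of_flat_quot (R ⊔ Ideal.span {x}) x hx _ hIx ?_
    intro p hp g hg
    obtain ⟨⟨m, hm⟩, rfl⟩ := Submodule.Quotient.mk_surjective _ g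
    rw [← Submodule.Quotient.mk_smul, Submodule.Quotient.mk_eq_zero, mem_smul_top_iff] at hg
    change x • m ∈ R • P R M k at hg
    rw [← P_succ] at hg
    obtain ⟨s, hs, hsm⟩ := hloc p hp k m hm hg
    refine ⟨s, hs, ?_⟩
    rw [← Submodule.Quotient.mk_smul, Submodule.Quotient.mk_eq_zero, mem_smul_top_iff]
    change s • m ∈ R • P R M k
    rw [← P_succ]
    exact hsm
  have hmain := Groth.Agent.S5059.main R [x] (by
      intro y hy
      rw [List.mem_singleton] at hy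
      rw [hy]; exact hx)
    ((isWeaklyRegular_singleton_iff _ x).mpr hxr) ↥(P R M k)
  rw [Ideal.ofList_singleton] at hmain
  exact hmain.mpr ⟨h2, (isWeaklyRegular_singleton_iff _ x).mpr hregG⟩

end Groth.Agent.Lib.helper20.NormFlatD
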