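import Mathlib
import Groth.Agent.S2893

/-!
# Associated primes go up along regular elements in the radical
-/

set_option autoImplicit false
universe u

namespace Groth.Agent.Lib.helper20.NormFlatE

open RingTheory.Sequence Pointwise

variable {A : Type u} [CommRing A] [IsNoetherianRing A]

theorem ass_up (N : Type u) [AddCommGroup N] [Module A N] [Module.Finite A N] (x : A)
    (hx : x ∈ (⊥ : Ideal A).jacobson) (hreg : IsSMulRegular N x) (q : Ideal A)
    (hq : q ∈ associatedPrimes A N) :
    ∃ p ∈ associatedPrimes A (QuotSMulTop x N), q ≤ p := by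
  obtain ⟨hqp, z, hz⟩ := isAssociatedPrime_iff.mp hq
  have hz0 : z ≠ 0 := by
    rintro rfl
    apply hqp.ne_top
    rw [hz, Ideal.eq_top_iff_one, Submodule.mem_colon_singleton]
    simp
  have hqz : ∀ a ∈ q, a • z = 0 := by
    intro a ha
    rw [hz, Submodule.mem_colon_singleton, Submodule.mem_bot] at ha
    exact ha
  -- the submodule killed by q
  let N' : Submodule A N :=
    { carrier := {z' | ∀ a ∈ q, a • z' = 0}
      add_mem' := fun {u v} hu hv a ha => by rw [smul_add, hu a ha, hv a ha, add_zero]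
      zero_mem' := fun a _ => smul_zero a
      smul_mem' := fun c u hu a ha => by rw [smul_comm, hu a ha, smul_zero] }
  have hzN' : z ∈ N' := hqz
  have hex : ∃ z' ∈ N', z' ∉ (x • ⊤ : Submodule A N) := by
    by_contra hcon
    push Not at hcon
    have hle : N' ≤ Ideal.span {x} • N' := by
      intro z' hz'
      have h1 := hcon z' hz'
      obtain ⟨y, -, hy⟩ := (Submodule.mem_smul_pointwise_iff_exists _ _ _).mp h1
      have hyN' : y ∈ N' := by
        intro a ha
        apply hreg
        change x • a • y = x • 0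
        rw [smul_zero, smul_comm, hy]
        exact hz' a ha
      rw [← hy]
      exact Submodule.smul_mem_smul (Ideal.mem_span_singleton_self x) hyN'
    have hbot := Submodule.eq_bot_of_le_smul_of_le_jacobson_bot (Ideal.span {x}) N'
      (IsNoetherian.noetherian N') hle
      (by rw [Ideal.span_le, Set.singleton_subset_iff]; exact hx)
    rw [hbot, Submodule.mem_bot] at hzN'
    exact hz0 hzN'
  obtain ⟨z', hz'N, hz'x⟩ := hex
  have hne : (Submodule.Quotient.mk z' : QuotSMulTop x N) ≠ 0 := by
    rwa [Ne, Submodule.Quotient.mk_eq_zero]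
  obtain ⟨p, hp, hle⟩ := exists_le_isAssociatedPrime_of_isNoetherianRing A _ hne
  refine ⟨p, hp, fun a ha => hle ?_⟩
  rw [Submodule.mem_colon_singleton, Submodule.mem_bot, ← Submodule.Quotient.mk_smul,
    hz'N a ha, Submodule.Quotient.mk_zero]

theorem ass_chain : ∀ (fs : List A) (R : Ideal A), (∀ y ∈ fs, y ∈ (⊥ : Ideal A).jacobson) →
    IsWeaklyRegular (A ⧸ R) fs → ∀ q ∈ associatedPrimes A (A ⧸ R),
      ∃ p ∈ associatedPrimes A (A ⧸ (R ⊔ Ideal.ofList fs)), q ≤ p := by
  intro fs
  induction fs with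
  | nil =>
    intro R _ _ q hq
    refine ⟨q, ?_, le_rfl⟩
    rwa [Ideal.ofList_nil, sup_bot_eq]
  | cons f fs ih =>
    intro R hrad hreg q hq
    rw [isWeaklyRegular_cons_iff] at hreg
    obtain ⟨p1, hp1, hle1⟩ := ass_up (A ⧸ R) f (hrad f List.mem_cons_self) hreg.1 q hq
    have hp1' : p1 ∈ associatedPrimes A (A ⧸ (R ⊔ Ideal.span {f})) :=
      (LinearEquiv.isAssociatedPrime_iff (Groth.Agent.S2893.quotEquiv R f)).mp hp1
    have h2 : IsWeaklyRegular (A ⧸ (R ⊔ Ideal.span {f})) fs :=
      ((Groth.Agent.S2893.quotEquiv R f).isWeaklyRegular_congr fs).mp hreg.2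
    obtain ⟨p, hp, hle⟩ := ih (R ⊔ Ideal.span {f}) (fun y hy => hrad y (List.mem_cons_of_mem _ hy))
      h2 p1 hp1'
    refine ⟨p, ?_, hle1.trans hle⟩
    rwa [Ideal.ofList_cons, ← sup_assoc]

end Groth.Agent.Lib.helper20.NormFlatE
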