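import Mathlib
import Groth.Agent.Lib.helper20.NormFlatD

/-!
# Normal flatness: passing between `M` and its localization `M_p` (as an `A`-module)
-/

set_option autoImplicit false
universe u

namespace Groth.Agent.Lib.helper20.NormFlatF

open Groth.Agent.S2893 Groth.Agent.Lib.helper20.NormFlatD

variable {A : Type u} [CommRing A] {M : Type u} [AddCommGroup M] [Module A M]

theorem loc0_pow (S : Submonoid A) (R : Ideal A) (k : ℕ) :
    (P R M k).localized₀ S (LocalizedModule.mkLinearMap S M) = P R (LocalizedModule S M) k := by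
  unfold P
  rw [Submodule.localized₀_smul, Submodule.localized₀_top]

theorem to_loc (S : Submonoid A) (R : Ideal A) (k : ℕ) (m : M) (hm : m ∈ P R M k) :
    LocalizedModule.mkLinearMap S M m ∈ P R (LocalizedModule S M) k := by
  rw [← loc0_pow, Submodule.mem_localized₀]
  exact ⟨m, hm, 1, IsLocalizedModule.mk'_one S _ m⟩

theorem exists_of_mem_loc (S : Submonoid A) (R : Ideal A) (k : ℕ) (y : LocalizedModule S M)
    (hy : y ∈ P R (LocalizedModule S M) k) :
    ∃ m ∈ P R M k, ∃ s : S, IsLocalizedModule.mk' (LocalizedModule.mkLinearMap S M) m s = y := by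
  rw [← loc0_pow, Submodule.mem_localized₀] at hy
  exact hy

theorem from_loc (S : Submonoid A) (R : Ideal A) (k : ℕ) (m : M)
    (hm : LocalizedModule.mkLinearMap S M m ∈ P R (LocalizedModule S M) k) :
    ∃ s : A, s ∈ S ∧ s • m ∈ P R M k := by
  obtain ⟨m', hm', s, hs⟩ := exists_of_mem_loc S R k _ hm
  rw [IsLocalizedModule.mk'_eq_iff, Submonoid.smul_def, ← map_smul] at hs
  obtain ⟨c, hc⟩ := IsLocalizedModule.exists_of_eq (S := S) hs
  refine ⟨c * s, S.mul_mem c.2 s.2, ?_⟩
  have : (c * s : A) • m = c • m' := by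
    rw [mul_smul]
    exact hc.symm
  rw [this]
  exact Submodule.smul_mem _ _ hm'

/-- local regularity on the graded pieces from normal flatness of the localized module. -/
theorem locgr_of_nf (p : Ideal A) [p.IsPrime] (R : Ideal A) (x : A)
    (hxr : IsSMulRegular (A ⧸ R) x)
    (h : EGA4.IsNormallyFlat R (LocalizedModule p.primeCompl M)) :
    ∀ k : ℕ, ∀ m ∈ P R M k, x • m ∈ P R M (k + 1) → ∃ s : A, s ∉ p ∧ s • m ∈ P R M (k + 1) := by
  intro k m hm hxm
  have h1 := to_loc p.primeCompl R k m hm
  have h2 := to_loc p.primeCompl R (k + 1) _ hxm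
  rw [map_smul] at h2
  have h3 := reg_elem (M := LocalizedModule p.primeCompl M) R x hxr k (h k) _ h1 h2
  obtain ⟨s, hs, hsm⟩ := from_loc p.primeCompl R (k + 1) m h3
  exact ⟨s, hs, hsm⟩

end Groth.Agent.Lib.helper20.NormFlatF
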