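import Mathlib
import Groth.Agent.Lib.helper20.NormFlatF

/-!
# Normal flatness: flatness of the localized graded pieces gives normal flatness of `M_p`
-/

set_option autoImplicit false
set_option linter.style.haveILetI false
universe u

namespace Groth.Agent.Lib.helper20.NormFlatG

open Groth.Agent.S2893 Groth.Agent.Lib.helper20.NormFlatF

variable {A : Type u} [CommRing A] {M : Type u} [AddCommGroup M] [Module A M]

section Elem

variable (S : Submonoid A) (R : Ideal A) (k : ℕ)

/-- the restriction of the localization map to `R^k M`. -/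
noncomputable def g0 : ↥(P R M k) →ₗ[A] ↥(P R (LocalizedModule S M) k) :=
  (LocalizedModule.mkLinearMap S M).restrict (fun m hm => to_loc S R k m hm)

theorem K1 (y : ↥(P R (LocalizedModule S M) k)) :
    ∃ m : ↥(P R M k), ∃ s : A, s ∈ S ∧ s • y = g0 S R k m := by
  obtain ⟨m, hm, s, hs⟩ := exists_of_mem_loc S R k y.1 y.2
  refine ⟨⟨m, hm⟩, s, s.2, ?_⟩
  apply Subtype.ext
  change (s : A) • (y : LocalizedModule S M) = LocalizedModule.mkLinearMap S M m
  rw [← hs, ← Submonoid.smul_def, IsLocalizedModule.mk'_cancel']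

theorem K2 (y : ↥(P R (LocalizedModule S M) k)) (s : A) (hs : s ∈ S)
    (h : s • y ∈ R • (⊤ : Submodule A ↥(P R (LocalizedModule S M) k))) :
    y ∈ R • (⊤ : Submodule A ↥(P R (LocalizedModule S M) k)) := by
  rw [mem_smul_top_iff, ← P_succ] at h ⊢
  obtain ⟨m, hm, t, ht⟩ := exists_of_mem_loc S R (k + 1) _ h
  rw [← loc0_pow, Submodule.mem_localized₀]
  refine ⟨m, hm, t * ⟨s, hs⟩, ?_⟩
  rw [IsLocalizedModule.mk'_eq_iff] at ht ⊢
  rw [ht, mul_smul]
  rfl

theorem K3 (y : ↥(P R (LocalizedModule S M) k)) (s : A) (hs : s ∈ S) :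
    ∃ z : ↥(P R (LocalizedModule S M) k), s • z = y := by
  obtain ⟨m, hm, t, ht⟩ := exists_of_mem_loc S R k y.1 y.2
  have hz : IsLocalizedModule.mk' (LocalizedModule.mkLinearMap S M) m (⟨s, hs⟩ * t) ∈
      P R (LocalizedModule S M) k := by
    rw [← loc0_pow, Submodule.mem_localized₀]
    exact ⟨m, hm, _, rfl⟩
  refine ⟨⟨_, hz⟩, ?_⟩
  apply Subtype.ext
  change s • IsLocalizedModule.mk' (LocalizedModule.mkLinearMap S M) m (⟨s, hs⟩ * t) = y.1
  rw [← ht, ← IsLocalizedModule.mk'_smul]
  exact IsLocalizedModule.mk'_cancel_left (LocalizedModule.mkLinearMap S M) m (⟨s, hs⟩ : S) t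

theorem K4 (m : ↥(P R M k))
    (h : g0 S R k m ∈ R • (⊤ : Submodule A ↥(P R (LocalizedModule S M) k))) :
    ∃ s : A, s ∈ S ∧ s • m ∈ R • (⊤ : Submodule A ↥(P R M k)) := by
  rw [mem_smul_top_iff, ← P_succ] at h
  obtain ⟨s, hs, hsm⟩ := from_loc S R (k + 1) m.1 h
  refine ⟨s, hs, ?_⟩
  rw [mem_smul_top_iff, ← P_succ]
  exact hsm

theorem g0_le : (R • (⊤ : Submodule A ↥(P R M k))) ≤
    Submodule.comap (g0 S R k) (R • (⊤ : Submodule A ↥(P R (LocalizedModule S M) k))) := by
  rw [← Submodule.map_le_iff_le_comap, Submodule.map_smul'']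
  exact Submodule.smul_mono le_rfl le_top

end Elem

section Main

variable (R : Ideal A) (k : ℕ)

/-- the induced map on graded pieces. -/
noncomputable def gq (S : Submonoid A) :
    (↥(P R M k) ⧸ (R • (⊤ : Submodule A ↥(P R M k)))) →ₗ[A ⧸ R]
      (↥(P R (LocalizedModule S M) k) ⧸
        (R • (⊤ : Submodule A ↥(P R (LocalizedModule S M) k)))) :=
  (Submodule.mapQ _ _ (g0 S R k) (g0_le S R k)).extendScalarsOfSurjective
    Ideal.Quotient.mk_surjective

theorem gq_mk (S : Submonoid A) (m : ↥(P R M k)) :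
    gq R k S (Submodule.Quotient.mk m) = Submodule.Quotient.mk (g0 S R k m) := rfl

theorem mk_smul_eq {G : Type u} [AddCommGroup G] [Module A G] [Module (A ⧸ R) G]
    [IsScalarTower A (A ⧸ R) G] (s : A) (n : G) : (Ideal.Quotient.mk R s) • n = s • n := by
  rw [← algebraMap_smul (A ⧸ R) s n, Ideal.Quotient.algebraMap_eq]

theorem isLoc (pb : Ideal (A ⧸ R)) [pb.IsPrime] :
    IsLocalizedModule pb.primeCompl
      (gq (M := M) R k (pb.comap (Ideal.Quotient.mk R)).primeCompl) where
  map_units := by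
    intro sb
    obtain ⟨s, hs⟩ := Ideal.Quotient.mk_surjective sb.1
    have hsS : s ∈ (pb.comap (Ideal.Quotient.mk R)).primeCompl := by
      intro h
      apply sb.2
      rw [← hs]
      exact h
    rw [Module.End.isUnit_iff]
    have hact : ∀ n, (algebraMap (A ⧸ R) (Module.End (A ⧸ R)
        (↥(P R (LocalizedModule (pb.comap (Ideal.Quotient.mk R)).primeCompl M) k) ⧸
        (R • (⊤ : Submodule A
          ↥(P R (LocalizedModule (pb.comap (Ideal.Quotient.mk R)).primeCompl M) k))))) sb.1) n =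
        s • n := by
      intro n
      rw [Module.algebraMap_end_apply, ← hs, mk_smul_eq]
    constructor
    · rw [injective_iff_map_eq_zero]
      intro n hn
      rw [hact] at hn
      obtain ⟨y, rfl⟩ := Submodule.Quotient.mk_surjective _ n
      rw [← Submodule.Quotient.mk_smul, Submodule.Quotient.mk_eq_zero] at hn
      rw [Submodule.Quotient.mk_eq_zero]
      exact K2 _ R k y s hsS hn
    · intro n
      obtain ⟨y, rfl⟩ := Submodule.Quotient.mk_surjective _ n
      obtain ⟨z, hz⟩ := K3 _ R k y s hsS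
      exact ⟨Submodule.Quotient.mk z, by rw [hact, ← Submodule.Quotient.mk_smul, hz]⟩
  surj := by
    intro n
    obtain ⟨y, rfl⟩ := Submodule.Quotient.mk_surjective _ n
    obtain ⟨m, s, hs, h⟩ := K1 (pb.comap (Ideal.Quotient.mk R)).primeCompl R k y
    refine ⟨(Submodule.Quotient.mk m, ⟨Ideal.Quotient.mk R s, hs⟩), ?_⟩
    change (Ideal.Quotient.mk R s) • Submodule.Quotient.mk y = gq R k _ (Submodule.Quotient.mk m)
    rw [mk_smul_eq, gq_mk, ← Submodule.Quotient.mk_smul, h]
  exists_of_eq := by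
    intro a b hab
    obtain ⟨m1, rfl⟩ := Submodule.Quotient.mk_surjective _ a
    obtain ⟨m2, rfl⟩ := Submodule.Quotient.mk_surjective _ b
    rw [gq_mk, gq_mk, Submodule.Quotient.eq, ← map_sub] at hab
    obtain ⟨s, hs, hsm⟩ := K4 _ R k _ hab
    refine ⟨⟨Ideal.Quotient.mk R s, hs⟩, ?_⟩
    change (Ideal.Quotient.mk R s) • (Submodule.Quotient.mk m1 :
        ↥(P R M k) ⧸ (R • (⊤ : Submodule A ↥(P R M k)))) =
      (Ideal.Quotient.mk R s) • (Submodule.Quotient.mk m2 :
        ↥(P R M k) ⧸ (R • (⊤ : Submodule A ↥(P R M k))))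
    rw [mk_smul_eq, mk_smul_eq, ← Submodule.Quotient.mk_smul, ← Submodule.Quotient.mk_smul,
      Submodule.Quotient.eq, ← smul_sub]
    exact hsm

/-- **Flatness of the localized graded piece gives flatness of the graded piece of `M_p`.** -/
theorem nf_loc_of_flat (pb : Ideal (A ⧸ R)) [pb.IsPrime]
    (h : Module.Flat (Localization.AtPrime pb) (LocalizedModule pb.primeCompl
      (↥(P R M k) ⧸ (R • (⊤ : Submodule A ↥(P R M k)))))) :
    Module.Flat (A ⧸ R)
      (↥(P R (LocalizedModule (pb.comap (Ideal.Quotient.mk R)).primeCompl M) k) ⧸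
        (R • (⊤ : Submodule A
          ↥(P R (LocalizedModule (pb.comap (Ideal.Quotient.mk R)).primeCompl M) k)))) := by
  haveI := h
  haveI h1 : Module.Flat (A ⧸ R) (LocalizedModule pb.primeCompl
      (↥(P R M k) ⧸ (R • (⊤ : Submodule A ↥(P R M k))))) :=
    (Module.flat_iff_of_isLocalization (Localization.AtPrime pb) pb.primeCompl _).mp h
  haveI := isLoc (M := M) R k pb
  let e := IsLocalizedModule.linearEquiv pb.primeCompl
    (LocalizedModule.mkLinearMap pb.primeCompl (↥(P R M k) ⧸ (R • (⊤ : Submodule A ↥(P R M k)))))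
    (gq (M := M) R k (pb.comap (Ideal.Quotient.mk R)).primeCompl)
  exact Module.Flat.of_linearEquiv e.symm

end Main

end Groth.Agent.Lib.helper20.NormFlatG
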