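import Mathlib
import Groth.Agent.Lib.helper20.NormFlatE
import Groth.Agent.Lib.helper20.NormFlatG

/-!
# Normal flatness: descending along a regular sequence in the radical
-/

set_option autoImplicit false
set_option linter.style.haveILetI false
universe u

namespace Groth.Agent.Lib.helper20.NormFlatH

open RingTheory.Sequence
open Groth.Agent.S2893 Groth.Agent.Lib.helper20.NormFlatD Groth.Agent.Lib.helper20.NormFlatE
  Groth.Agent.Lib.helper20.NormFlatF Groth.Agent.Lib.helper20.NormFlatG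

variable {A : Type u} [CommRing A] {M : Type u} [AddCommGroup M] [Module A M]

theorem nf_transport (R : Ideal A) {p p' : Ideal A} [hp : p.IsPrime] [hp' : p'.IsPrime]
    (h : p = p') (hnf : EGA4.IsNormallyFlat R (LocalizedModule p.primeCompl M)) :
    EGA4.IsNormallyFlat R (LocalizedModule p'.primeCompl M) := by
  subst h
  exact hnf

/-- An associated prime of `A/Q` (over `A`), for `R ≤ Q`, gives an associated prime of
`(A/R)/Q(A/R)` over `A/R`. -/
theorem ass_quot [IsNoetherianRing A] (R Q : Ideal A) (hRQ : R ≤ Q) (p : Ideal A)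
    (hp : p ∈ associatedPrimes A (A ⧸ Q)) :
    ∃ (pb : Ideal (A ⧸ R)) (_ : pb.IsPrime),
      pb ∈ associatedPrimes (A ⧸ R) ((A ⧸ R) ⧸ Ideal.map (Ideal.Quotient.mk R) Q) ∧
      pb.comap (Ideal.Quotient.mk R) = p := by
  obtain ⟨hpp, z, hz⟩ := isAssociatedPrime_iff.mp hp
  obtain ⟨b, rfl⟩ := Ideal.Quotient.mk_surjective z
  have hmem : ∀ c : A, c ∈ p ↔ c * b ∈ Q := by
    intro c
    rw [hz, Submodule.mem_colon_singleton, Submodule.mem_bot, ← Ideal.Quotient.eq_zero_iff_mem,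
      map_mul]
    rfl
  have hQp : Q ≤ p := fun a ha => (hmem a).mpr (Q.mul_mem_right _ ha)
  have hRp : R ≤ p := hRQ.trans hQp
  have hker : RingHom.ker (Ideal.Quotient.mk R) ≤ p := by rw [Ideal.mk_ker]; exact hRp
  have hcomap : ∀ I : Ideal A, R ≤ I →
      (I.map (Ideal.Quotient.mk R)).comap (Ideal.Quotient.mk R) = I := by
    intro I hI
    rw [Ideal.comap_map_of_surjective _ Ideal.Quotient.mk_surjective, ← RingHom.ker_eq_comap_bot,
      Ideal.mk_ker, sup_eq_left.mpr hI]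
  haveI := hpp
  have hprime : (p.map (Ideal.Quotient.mk R)).IsPrime :=
    Ideal.map_isPrime_of_surjective Ideal.Quotient.mk_surjective hker
  refine ⟨p.map (Ideal.Quotient.mk R), hprime, ?_, hcomap p hRp⟩
  rw [AssociatedPrimes.mem_iff, isAssociatedPrime_iff]
  refine ⟨hprime, Ideal.Quotient.mk _ (Ideal.Quotient.mk R b), ?_⟩
  ext cb
  obtain ⟨c, rfl⟩ := Ideal.Quotient.mk_surjective cb
  rw [Submodule.mem_colon_singleton, Submodule.mem_bot]
  change _ ↔ Ideal.Quotient.mk (Ideal.map (Ideal.Quotient.mk R) Q)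
    (Ideal.Quotient.mk R c * Ideal.Quotient.mk R b) = 0
  have e1 : ∀ (I : Ideal A), R ≤ I → ∀ a : A,
      Ideal.Quotient.mk R a ∈ I.map (Ideal.Quotient.mk R) ↔ a ∈ I := fun I hI a => by
    rw [← Ideal.mem_comap, hcomap I hI]
  rw [← map_mul, Ideal.Quotient.eq_zero_iff_mem, e1 Q hRQ, e1 p hRp, hmem]

theorem nf_descend [IsNoetherianRing A] [Module.Finite A M] :
    ∀ (fs : List A) (R : Ideal A), (∀ y ∈ fs, y ∈ (⊥ : Ideal A).jacobson) →
      IsWeaklyRegular (A ⧸ R) fs → EGA4.IsNormallyFlat (R ⊔ Ideal.ofList fs) M →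
      (∀ (p : Ideal A) [p.IsPrime], p ∈ associatedPrimes A (A ⧸ (R ⊔ Ideal.ofList fs)) →
        EGA4.IsNormallyFlat R (LocalizedModule p.primeCompl M)) →
      EGA4.IsNormallyFlat R M := by
  intro fs
  induction fs with
  | nil =>
    intro R _ _ h _
    rwa [Ideal.ofList_nil, sup_bot_eq] at h
  | cons f fs ih =>
    intro R hrad hreg hQ hloc
    rw [isWeaklyRegular_cons_iff] at hreg
    have hQeq : R ⊔ Ideal.ofList (f :: fs) = (R ⊔ Ideal.span {f}) ⊔ Ideal.ofList fs := by
      rw [Ideal.ofList_cons, ← sup_assoc]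
    rw [hQeq] at hQ hloc
    have h2 : IsWeaklyRegular (A ⧸ (R ⊔ Ideal.span {f})) fs :=
      ((quotEquiv R f).isWeaklyRegular_congr fs).mp hreg.2
    have hrad' : ∀ y ∈ fs, y ∈ (⊥ : Ideal A).jacobson :=
      fun y hy => hrad y (List.mem_cons_of_mem _ hy)
    have h1 : EGA4.IsNormallyFlat (R ⊔ Ideal.span {f}) M := by
      refine ih (R ⊔ Ideal.span {f}) hrad' h2 hQ ?_
      intro p _ hp
      exact nf_step (M := LocalizedModule p.primeCompl M) R f hreg.1 (hloc p hp)
    refine nf_descend1 R f (hrad f List.mem_cons_self) hreg.1 h1 ?_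
    intro q hq k m hm hxm
    obtain ⟨p, hp, hqp⟩ := ass_chain fs (R ⊔ Ideal.span {f}) hrad' h2 q hq
    haveI : p.IsPrime := hp.isPrime
    obtain ⟨s, hs, hsm⟩ := locgr_of_nf p R f hreg.1 (hloc p hp) k m hm hxm
    exact ⟨s, fun h => hs (hqp h), hsm⟩

end Groth.Agent.Lib.helper20.NormFlatH
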