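import Mathlib
import Groth.Agent.Lib.helper20.NormalSmooth3
import Groth.Agent.Lib.helper20.NormalDescent
import Groth.Agent.S9407

/-!
# Pointwise ascent/descent of reducedness and normality along smooth ring maps (helper20)
-/

universe u

namespace Groth.Agent.Lib.helper20.NormalSmooth

open TensorProduct

/-- Pointwise version: if `A_p` is an integrally closed domain, `B` smooth over `A`, `q` over `p`,
then `B_q` is an integrally closed domain. -/
theorem ic_domain_at_prime (A B : Type u) [CommRing A] [CommRing B] [Algebra A B]
    [Algebra.Smooth A B] (q : Ideal B) [q.IsPrime]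
    (h : IsDomain (Localization.AtPrime (q.comap (algebraMap A B))) ∧
      IsIntegrallyClosed (Localization.AtPrime (q.comap (algebraMap A B)))) :
    IsDomain (Localization.AtPrime q) ∧ IsIntegrallyClosed (Localization.AtPrime q) := by
  let p := q.comap (algebraMap A B)
  let R := Localization.AtPrime p
  obtain ⟨h1, h2⟩ := h
  let C := R ⊗[A] B
  letI : Algebra B C := Algebra.TensorProduct.rightAlgebra
  haveI : IsLocalization (Algebra.algebraMapSubmonoid B p.primeCompl) C :=
    IsLocalization.tensorRight R p.primeCompl
  let E := Localization.AtPrime q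
  have hle : Algebra.algebraMapSubmonoid B p.primeCompl ≤ q.primeCompl := by
    rintro _ ⟨a, ha, rfl⟩
    exact ha
  letI : Algebra C E := (IsLocalization.lift (M := Algebra.algebraMapSubmonoid B p.primeCompl)
    (g := algebraMap B E) (fun y => IsLocalization.map_units E ⟨y.1, hle y.2⟩)).toAlgebra
  haveI : IsScalarTower B C E := IsScalarTower.of_algebraMap_eq' (IsLocalization.lift_comp _).symm
  haveI := IsLocalization.isLocalization_of_submonoid_le C E
    (Algebra.algebraMapSubmonoid B p.primeCompl) q.primeCompl hle
  exact ic_domain_of_smooth R C E (q.primeCompl.map (algebraMap B C))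

/-- Pointwise version for reducedness. -/
theorem reduced_at_prime (A B : Type u) [CommRing A] [CommRing B] [Algebra A B]
    [Algebra.Smooth A B] (q : Ideal B) [q.IsPrime]
    (h : IsReduced (Localization.AtPrime (q.comap (algebraMap A B)))) :
    IsReduced (Localization.AtPrime q) := by
  let p := q.comap (algebraMap A B)
  let R := Localization.AtPrime p
  let C := R ⊗[A] B
  haveI : IsReduced C := Groth.Agent.S9407.result R C
  letI : Algebra B C := Algebra.TensorProduct.rightAlgebra
  haveI : IsLocalization (Algebra.algebraMapSubmonoid B p.primeCompl) C :=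
    IsLocalization.tensorRight R p.primeCompl
  let E := Localization.AtPrime q
  have hle : Algebra.algebraMapSubmonoid B p.primeCompl ≤ q.primeCompl := by
    rintro _ ⟨a, ha, rfl⟩
    exact ha
  letI : Algebra C E := (IsLocalization.lift (M := Algebra.algebraMapSubmonoid B p.primeCompl)
    (g := algebraMap B E) (fun y => IsLocalization.map_units E ⟨y.1, hle y.2⟩)).toAlgebra
  haveI : IsScalarTower B C E := IsScalarTower.of_algebraMap_eq' (IsLocalization.lift_comp _).symm
  haveI := IsLocalization.isLocalization_of_submonoid_le C E
    (Algebra.algebraMapSubmonoid B p.primeCompl) q.primeCompl hle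
  exact isReduced_localizationPreserves (q.primeCompl.map (algebraMap B C)) E inferInstance

/-- Descent of reducedness along a flat map, pointwise. -/
theorem reduced_descent_at_prime (A B : Type u) [CommRing A] [CommRing B] [Algebra A B]
    [Module.Flat A B] (q : Ideal B) [q.IsPrime]
    (h : IsReduced (Localization.AtPrime q)) :
    IsReduced (Localization.AtPrime (q.comap (algebraMap A B))) := by
  haveI hlo : q.LiesOver (q.comap (algebraMap A B)) := ⟨rfl⟩
  letI := Localization.AtPrime.algebraOfLiesOver (q.comap (algebraMap A B)) q
  haveI : Module.Flat (Localization.AtPrime (q.comap (algebraMap A B))) (Localization.AtPrime q) :=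
    inferInstance
  haveI : IsLocalHom (algebraMap (Localization.AtPrime (q.comap (algebraMap A B)))
      (Localization.AtPrime q)) :=
    Localization.isLocalHom_localRingHom _ _ _ _
  haveI : Module.FaithfullyFlat (Localization.AtPrime (q.comap (algebraMap A B)))
      (Localization.AtPrime q) := Module.FaithfullyFlat.of_flat_of_isLocalHom
  have hinj : Function.Injective (algebraMap (Localization.AtPrime (q.comap (algebraMap A B)))
      (Localization.AtPrime q)) := FaithfulSMul.algebraMap_injective _ _
  exact isReduced_of_injective _ hinj

/-- Combined pointwise statement for a smooth ring map. -/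
theorem smooth_pointwise (A B : Type u) [CommRing A] [CommRing B] [Algebra A B]
    [Algebra.Smooth A B] (q : Ideal B) [q.IsPrime] (p : Ideal A) [p.IsPrime]
    (hpq : p = q.comap (algebraMap A B)) :
    (IsReduced (Localization.AtPrime q) ↔ IsReduced (Localization.AtPrime p)) ∧
    ((IsDomain (Localization.AtPrime q) ∧ IsIntegrallyClosed (Localization.AtPrime q)) ↔
      (IsDomain (Localization.AtPrime p) ∧ IsIntegrallyClosed (Localization.AtPrime p))) := by
  subst hpq
  refine ⟨⟨reduced_descent_at_prime A B q, reduced_at_prime A B q⟩, ⟨?_, ic_domain_at_prime A B q⟩⟩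
  rintro ⟨h1, h2⟩
  exact Groth.Agent.Lib.helper20.NormalDescent.normal_local_descent A B q

end Groth.Agent.Lib.helper20.NormalSmooth
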