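import Mathlib
import Groth.Agent.Lib.helper20.OneDim7

/-!
# Lattices over a one-dimensional Noetherian local domain (helper20)
-/

set_option autoImplicit false
universe u v

namespace Groth.Agent.Lib.helper20.OneDim

open Pointwise

variable {A : Type u} [CommRing A] [IsDomain A] {K : Type*} [Field K] [Algebra A K]
  [IsFractionRing A K] {V : Type v} [AddCommGroup V] [Module A V] [Module K V]
  [IsScalarTower A K V]

theorem span_eq_top_of_smul_mem (M P : Submodule A V)
    (hM : Submodule.span K (M : Set V) = ⊤)
    (h : ∀ m ∈ M, ∃ a : A, a ≠ 0 ∧ a • m ∈ P) : Submodule.span K (P : Set V) = ⊤ := by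
  rw [eq_top_iff, ← hM, Submodule.span_le]
  intro m hm
  obtain ⟨a, ha, ham⟩ := h m hm
  have ha' : algebraMap A K a ≠ 0 := fun h0 =>
    ha ((map_eq_zero_iff _ (IsFractionRing.injective A K)).mp h0)
  have : m = (algebraMap A K a)⁻¹ • (a • m) := by
    rw [← algebraMap_smul K a m, smul_smul, inv_mul_cancel₀ ha', one_smul]
  rw [this]
  exact Submodule.smul_mem _ _ (Submodule.subset_span ham)

variable [IsNoetherianRing A]

/-- if `M/P` has finite length (with `A` not Artinian) then every element of `M` has a nonzero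
multiple in `P` -/
theorem exists_smul_mem_of_rl_ne_top (hA : ¬ IsArtinianRing A) {M P : Submodule A V}
    (h : rl M P ≠ ⊤) (m : V) (hm : m ∈ M) : ∃ a : A, a ≠ 0 ∧ a • m ∈ P := by
  by_contra hcon
  push_neg at hcon
  let f : A →ₗ[A] (↥M ⧸ P.submoduleOf M) :=
    LinearMap.toSpanSingleton A _ (Submodule.Quotient.mk ⟨m, hm⟩)
  have hf : Function.Injective f := by
    rw [← LinearMap.ker_eq_bot, eq_bot_iff]
    intro a ha
    rw [Submodule.mem_bot]
    by_contra ha0
    apply hcon a ha0
    rw [LinearMap.mem_ker, LinearMap.toSpanSingleton_apply, ← Submodule.Quotient.mk_smul,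
      Submodule.Quotient.mk_eq_zero] at ha
    exact ha
  have hlen : Module.length A A ≠ ⊤ :=
    ne_top_of_le_ne_top h (Module.length_le_of_injective f hf)
  apply hA
  rw [Module.length_ne_top_iff, isFiniteLength_iff_isNoetherian_isArtinian] at hlen
  exact hlen.2

theorem not_isArtinianRing_of_dim_one (hdim : ringKrullDim A = 1) : ¬ IsArtinianRing A := by
  intro h
  have h0 : Ring.KrullDimLE 0 A := by
    rw [← isArtinianRing_iff_krullDimLE_zero]
    exact h
  have := Ring.krullDimLE_iff.mp h0
  rw [hdim] at this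
  exact absurd this (by norm_num)

end Groth.Agent.Lib.helper20.OneDim
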