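import Mathlib

/-!
# Evaluating power series at a topologically nilpotent element of an adically complete ring
(helper20)

For `σ : B →+* A`, an ideal `I` of `A` with `A` `I`-adically complete and `x ∈ I`, we construct
the ring hom `evalHom : B⟦X⟧ →+* A`, `∑ bᵢ Xⁱ ↦ ∑ σ(bᵢ) xⁱ`, characterised by
`evalHom f ≡ ∑_{i<n} σ(bᵢ) xⁱ mod Iⁿ`, and give criteria for injectivity / surjectivity
when `I = (x)`.
-/

set_option autoImplicit false

namespace Groth.Agent.Lib.helper20.PSEval

universe u v

variable {B : Type u} {A : Type v} [CommRing B] [CommRing A]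

theorem eval₂_sub_trunc_mem (σ : B →+* A) (I : Ideal A) (x : A) (hx : x ∈ I) (n : ℕ)
    (P : Polynomial B) :
    P.eval₂ σ x - (PowerSeries.trunc n (P : PowerSeries B)).eval₂ σ x ∈ I ^ n := by
  have hdvd : (Polynomial.X : Polynomial B) ^ n ∣ P - PowerSeries.trunc n (P : PowerSeries B) := by
    rw [Polynomial.X_pow_dvd_iff]
    intro d hd
    rw [Polynomial.coeff_sub, PowerSeries.coeff_trunc, if_pos hd, Polynomial.coeff_coe, sub_self]
  obtain ⟨Q, hQ⟩ := hdvd
  rw [← Polynomial.eval₂_sub, hQ, Polynomial.eval₂_mul, Polynomial.eval₂_pow, Polynomial.eval₂_X]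
  exact Ideal.mul_mem_right _ _ (Ideal.pow_mem_pow hx n)

/-- The truncated evaluation `B⟦X⟧ →+* A ⧸ Iⁿ`. -/
noncomputable def gHom (σ : B →+* A) (I : Ideal A) (x : A) (hx : x ∈ I) (n : ℕ) :
    PowerSeries B →+* A ⧸ I ^ n where
  toFun f := Ideal.Quotient.mk (I ^ n) ((PowerSeries.trunc n f).eval₂ σ x)
  map_one' := by
    rw [← map_one (Ideal.Quotient.mk (I ^ n)), Ideal.Quotient.eq]
    have h := eval₂_sub_trunc_mem σ I x hx n (1 : Polynomial B)
    rw [Polynomial.coe_one, Polynomial.eval₂_one] at h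
    rw [← neg_sub]
    exact (Ideal.neg_mem_iff _).2 h
  map_mul' f g := by
    rw [← map_mul (Ideal.Quotient.mk (I ^ n)), Ideal.Quotient.eq, ← Polynomial.eval₂_mul]
    have h := eval₂_sub_trunc_mem σ I x hx n (PowerSeries.trunc n f * PowerSeries.trunc n g)
    rw [Polynomial.coe_mul, PowerSeries.trunc_trunc_mul_trunc] at h
    rw [← neg_sub]
    exact (Ideal.neg_mem_iff _).2 h
  map_zero' := by
    rw [map_zero, Polynomial.eval₂_zero, map_zero]
  map_add' f g := by
    rw [map_add, Polynomial.eval₂_add, map_add]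

theorem gHom_apply (σ : B →+* A) (I : Ideal A) (x : A) (hx : x ∈ I) (n : ℕ) (f : PowerSeries B) :
    gHom σ I x hx n f = Ideal.Quotient.mk (I ^ n) ((PowerSeries.trunc n f).eval₂ σ x) := rfl

theorem gHom_compat (σ : B →+* A) (I : Ideal A) (x : A) (hx : x ∈ I) {a b : ℕ} (hle : a ≤ b) :
    (Ideal.Quotient.factorPow I hle).comp (gHom σ I x hx b) = gHom σ I x hx a := by
  apply RingHom.ext
  intro f
  rw [RingHom.comp_apply, gHom_apply, gHom_apply, Ideal.Quotient.factor_mk, Ideal.Quotient.eq]
  have h := eval₂_sub_trunc_mem σ I x hx a (PowerSeries.trunc b f)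
  rw [PowerSeries.trunc_trunc_of_le f hle] at h
  exact h

/-- Evaluation of power series at `x ∈ I` in an `I`-adically complete ring. -/
noncomputable def evalHom (σ : B →+* A) (I : Ideal A) [IsAdicComplete I A] (x : A) (hx : x ∈ I) :
    PowerSeries B →+* A :=
  IsAdicComplete.liftRingHom I (gHom σ I x hx) (fun hle => gHom_compat σ I x hx hle)

theorem evalHom_sub_mem (σ : B →+* A) (I : Ideal A) [IsAdicComplete I A] (x : A) (hx : x ∈ I)
    (f : PowerSeries B) (n : ℕ) :
    evalHom σ I x hx f - (Finset.range n).sum (fun i => σ (PowerSeries.coeff i f) * x ^ i) ∈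
      I ^ n := by
  rw [← PowerSeries.eval₂_trunc_eq_sum_range, ← Ideal.Quotient.eq]
  exact IsAdicComplete.mk_liftRingHom I (gHom σ I x hx) (fun hle => gHom_compat σ I x hx hle) n f

theorem eq_zero_of_forall_mem (I : Ideal A) [IsHausdorff I A] (z : A) (h : ∀ n : ℕ, z ∈ I ^ n) :
    z = 0 := by
  have h0 := IsHausdorff.iInf_pow_smul (inferInstance : IsHausdorff I A)
  have h1 : z ∈ (⨅ n : ℕ, I ^ n • ⊤ : Submodule A A) := by
    rw [Submodule.mem_iInf]
    intro n
    rw [Ideal.smul_eq_mul, Ideal.mul_top]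
    exact h n
  rw [h0] at h1
  exact (Submodule.mem_bot A).1 h1

theorem eq_of_forall_sub_mem (I : Ideal A) [IsHausdorff I A] (y z : A) (s : ℕ → A)
    (hy : ∀ n, y - s n ∈ I ^ n) (hz : ∀ n, z - s n ∈ I ^ n) : y = z := by
  have h0 : y - z = 0 := eq_zero_of_forall_mem I _ fun n => by
    have h3 : y - z = (y - s n) - (z - s n) := by ring
    rw [h3]
    exact Ideal.sub_mem _ (hy n) (hz n)
  exact sub_eq_zero.1 h0

theorem evalHom_X (σ : B →+* A) (I : Ideal A) [IsAdicComplete I A] (x : A) (hx : x ∈ I) :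
    evalHom σ I x hx PowerSeries.X = x := by
  refine eq_of_forall_sub_mem I _ _
    (fun n => (Finset.range n).sum
      (fun i => σ (PowerSeries.coeff i (PowerSeries.X : PowerSeries B)) * x ^ i))
    (evalHom_sub_mem σ I x hx _) (fun n => ?_)
  have h2 := eval₂_sub_trunc_mem σ I x hx n (Polynomial.X : Polynomial B)
  rw [Polynomial.coe_X, Polynomial.eval₂_X, PowerSeries.eval₂_trunc_eq_sum_range] at h2
  exact h2

theorem evalHom_C (σ : B →+* A) (I : Ideal A) [IsAdicComplete I A] (x : A) (hx : x ∈ I) (b : B) :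
    evalHom σ I x hx (PowerSeries.C b) = σ b := by
  refine eq_of_forall_sub_mem I _ _
    (fun n => (Finset.range n).sum
      (fun i => σ (PowerSeries.coeff i (PowerSeries.C b : PowerSeries B)) * x ^ i))
    (evalHom_sub_mem σ I x hx _) (fun n => ?_)
  have h2 := eval₂_sub_trunc_mem σ I x hx n (Polynomial.C b : Polynomial B)
  rw [Polynomial.coe_C, Polynomial.eval₂_C, PowerSeries.eval₂_trunc_eq_sum_range] at h2
  exact h2

theorem evalHom_injective (σ : B →+* A) (x : A) [IsAdicComplete (Ideal.span {x}) A]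
    (hreg : x ∈ nonZeroDivisors A) (hσ : ∀ b : B, σ b ∈ Ideal.span {x} → b = 0) :
    Function.Injective (evalHom σ (Ideal.span {x}) x (Ideal.mem_span_singleton_self x)) := by
  classical
  rw [injective_iff_map_eq_zero]
  intro f hf
  by_contra hne
  have hex : ∃ n, PowerSeries.coeff n f ≠ 0 := by
    by_contra h
    push_neg at h
    exact hne (PowerSeries.ext (fun n => by rw [h n, map_zero]))
  have hcn := Nat.find_spec hex
  have hlt : ∀ i, i < Nat.find hex → PowerSeries.coeff i f = 0 :=
    fun i hi => not_not.1 (Nat.find_min hex hi)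
  have h1 := evalHom_sub_mem σ (Ideal.span {x}) x (Ideal.mem_span_singleton_self x) f
    (Nat.find hex + 1)
  rw [hf, zero_sub, Finset.sum_range_succ] at h1
  have hzero : (Finset.range (Nat.find hex)).sum
      (fun i => σ (PowerSeries.coeff i f) * x ^ i) = 0 :=
    Finset.sum_eq_zero (fun i hi => by
      rw [hlt i (Finset.mem_range.1 hi), map_zero, zero_mul])
  rw [hzero, zero_add, Ideal.neg_mem_iff, Ideal.span_singleton_pow,
    Ideal.mem_span_singleton'] at h1
  obtain ⟨b, hb⟩ := h1
  have h2 : σ (PowerSeries.coeff (Nat.find hex) f) = b * x := by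
    have h4 : (b * x) * x ^ (Nat.find hex) =
        σ (PowerSeries.coeff (Nat.find hex) f) * x ^ (Nat.find hex) := by
      rw [← hb]; ring
    have hreg' : x ^ (Nat.find hex) ∈ nonZeroDivisors A := pow_mem hreg _
    exact ((mul_cancel_right_mem_nonZeroDivisors hreg').1 h4).symm
  exact hcn (hσ _ (by rw [h2]; exact Ideal.mul_mem_left _ _ (Ideal.mem_span_singleton_self x)))

theorem evalHom_surjective (σ : B →+* A) (x : A) [IsAdicComplete (Ideal.span {x}) A]
    (hσ : ∀ z : A, ∃ b : B, z - σ b ∈ Ideal.span {x}) :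
    Function.Surjective (evalHom σ (Ideal.span {x}) x (Ideal.mem_span_singleton_self x)) := by
  intro y
  have hstep : ∀ z : A, ∃ (a : B) (z' : A), z = σ a + x * z' := by
    intro z
    obtain ⟨a, ha⟩ := hσ z
    rw [Ideal.mem_span_singleton'] at ha
    obtain ⟨z', hz'⟩ := ha
    exact ⟨a, z', by rw [mul_comm, hz']; ring⟩
  choose a' z' hstep using hstep
  obtain ⟨seq, hseq0, hseqS⟩ : ∃ seq : ℕ → A, seq 0 = y ∧ ∀ n, seq (n + 1) = z' (seq n) :=
    ⟨fun n => z'^[n] y, rfl, fun n => Function.iterate_succ_apply' _ _ _⟩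
  have hsum : ∀ n, y = (Finset.range n).sum
      (fun i => σ (a' (seq i)) * x ^ i) + x ^ n * seq n := by
    intro n
    induction n with
    | zero => simp [hseq0]
    | succ n ih =>
      rw [Finset.sum_range_succ, hseqS n]
      have h1 := hstep (seq n)
      calc y = (Finset.range n).sum (fun i => σ (a' (seq i)) * x ^ i) +
            x ^ n * seq n := ih
        _ = (Finset.range n).sum (fun i => σ (a' (seq i)) * x ^ i) +
            x ^ n * (σ (a' (seq n)) + x * z' (seq n)) := by rw [← h1]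
        _ = _ := by ring
  refine ⟨PowerSeries.mk (fun i => a' (seq i)), ?_⟩
  refine eq_of_forall_sub_mem (Ideal.span {x}) _ _
    (fun n => (Finset.range n).sum (fun i => σ (a' (seq i)) * x ^ i)) (fun n => ?_) (fun n => ?_)
  · have h1 := evalHom_sub_mem σ (Ideal.span {x}) x (Ideal.mem_span_singleton_self x)
      (PowerSeries.mk fun i => a' (seq i)) n
    simp only [PowerSeries.coeff_mk] at h1
    exact h1
  · have h3 : y - (Finset.range n).sum (fun i => σ (a' (seq i)) * x ^ i) = x ^ n * seq n := by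
      rw [sub_eq_iff_eq_add']
      exact hsum n
    rw [h3]
    exact Ideal.mul_mem_right _ _ (Ideal.pow_mem_pow (Ideal.mem_span_singleton_self x) n)

end Groth.Agent.Lib.helper20.PSEval
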