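import Mathlib

/-!
# Primes above a prime all containing a fixed element (Noetherian case)

If `R` is Noetherian, `P` is prime, `f ∉ P` and every prime strictly containing `P` contains `f`,
then the primes strictly containing `P` are exactly minimal primes of `P ⊔ (f)`; in particular
there are finitely many and `R ⧸ P` has dimension `≤ 1`.
-/

namespace Groth.Agent.Lib.helper20.PrimeFin

variable {R : Type*} [CommRing R] [IsNoetherianRing R]

theorem mem_minimalPrimes_of_forall_mem (P : Ideal R) [P.IsPrime] (f : R) (hfP : f ∉ P)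
    (hfQ : ∀ Q : Ideal R, Q.IsPrime → P < Q → f ∈ Q) (Q : Ideal R) (hQ : Q.IsPrime) (hPQ : P < Q) :
    Q ∈ (P ⊔ Ideal.span {f}).minimalPrimes := by
  classical
  have hfin : (P ⊔ Ideal.span {f}).minimalPrimes.Finite :=
    Ideal.finite_minimalPrimes_of_isNoetherianRing R _
  have hmp : ∀ q ∈ (P ⊔ Ideal.span {f}).minimalPrimes, q.IsPrime ∧ P < q := by
    intro q hq
    refine ⟨hq.1.1, lt_of_le_of_ne (le_sup_left.trans hq.1.2) ?_⟩
    intro heq
    apply hfP
    rw [heq]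
    exact hq.1.2 (Ideal.mem_sup_right (Ideal.mem_span_singleton_self f))
  haveI := hQ
  have hIQ : P ⊔ Ideal.span {f} ≤ Q :=
    sup_le hPQ.le ((Ideal.span_singleton_le_iff_mem Q).2 (hfQ Q hQ hPQ))
  by_contra hQmin
  obtain ⟨q0, hq0, hq0Q⟩ := Ideal.exists_minimalPrimes_le hIQ
  have hav : ¬ ((Q : Set R) ⊆ ⋃ q ∈ (↑hfin.toFinset : Set (Ideal R)),
      ((id q : Ideal R) : Set R)) := by
    rw [Ideal.subset_union_prime (f := id) ⊤ ⊤
      (fun q hq _ _ => ((hfin.mem_toFinset).1 hq).1.1)]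
    rintro ⟨q, hq, hQq⟩
    have hq' := (hfin.mem_toFinset).1 hq
    have h1 : q ≤ q0 := hq'.2 hq0.1 (hq0Q.trans hQq)
    have h2 : Q = q := le_antisymm hQq (h1.trans hq0Q)
    exact hQmin (h2 ▸ hq')
  obtain ⟨g, hgQ, hgU⟩ := Set.not_subset.1 hav
  have hg : ∀ q ∈ (P ⊔ Ideal.span {f}).minimalPrimes, g ∉ q := by
    intro q hq hgq
    apply hgU
    simp only [Set.mem_iUnion, Finset.mem_coe, Set.Finite.mem_toFinset, id]
    exact ⟨q, hq, hgq⟩
  have hKQ : P ⊔ Ideal.span {g} ≤ Q :=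
    sup_le hPQ.le ((Ideal.span_singleton_le_iff_mem Q).2 hgQ)
  obtain ⟨Q', hQ'min, hQ'Q⟩ := Ideal.exists_minimalPrimes_le hKQ
  haveI hQ'prime : Q'.IsPrime := hQ'min.1.1
  have hPQ' : P ≤ Q' := le_sup_left.trans hQ'min.1.2
  have hgQ' : g ∈ Q' := hQ'min.1.2 (Ideal.mem_sup_right (Ideal.mem_span_singleton_self g))
  have hgP : g ∉ P := fun hgP => hg q0 hq0 ((hmp q0 hq0).2.le hgP)
  have hPltQ' : P < Q' := lt_of_le_of_ne hPQ' (fun heq => hgP (heq ▸ hgQ'))
  have hIQ' : P ⊔ Ideal.span {f} ≤ Q' :=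
    sup_le hPQ' ((Ideal.span_singleton_le_iff_mem Q').2 (hfQ Q' hQ'prime hPltQ'))
  obtain ⟨q1, hq1, hq1Q'⟩ := Ideal.exists_minimalPrimes_le hIQ'
  haveI hq1prime : q1.IsPrime := (hmp q1 hq1).1
  have hPq1 : P < q1 := (hmp q1 hq1).2
  have hq1ltQ' : q1 < Q' := lt_of_le_of_ne hq1Q' (fun heq => hg q1 hq1 (heq ▸ hgQ'))
  have hkrull := Ideal.map_height_le_one_of_mem_minimalPrimes hQ'min
  have hsurj : Function.Surjective (Ideal.Quotient.mk P) := Ideal.Quotient.mk_surjective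
  have hker : RingHom.ker (Ideal.Quotient.mk P) = P := Ideal.mk_ker
  have hcm : ∀ A : Ideal R, P ≤ A →
      (A.map (Ideal.Quotient.mk P)).comap (Ideal.Quotient.mk P) = A := by
    intro A hA
    rw [Ideal.comap_map_of_surjective _ hsurj, ← RingHom.ker_eq_comap_bot, hker]
    exact sup_eq_left.2 hA
  haveI : (q1.map (Ideal.Quotient.mk P)).IsPrime :=
    Ideal.map_isPrime_of_surjective hsurj (by rw [hker]; exact hPq1.le)
  haveI : (Q'.map (Ideal.Quotient.mk P)).IsPrime :=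
    Ideal.map_isPrime_of_surjective hsurj (by rw [hker]; exact hPQ')
  have hlt1 : (⊥ : Ideal (R ⧸ P)) < q1.map (Ideal.Quotient.mk P) := by
    rw [bot_lt_iff_ne_bot, Ne, Ideal.map_eq_bot_iff_le_ker, hker]
    exact not_le_of_gt hPq1
  have hlt2 : q1.map (Ideal.Quotient.mk P) < Q'.map (Ideal.Quotient.mk P) := by
    refine lt_of_le_of_ne (Ideal.map_mono hq1Q') (fun heq => hq1ltQ'.ne ?_)
    rw [← hcm q1 hPq1.le, ← hcm Q' hPQ', heq]
  have h1 := Ideal.height_strict_mono_of_isPrime_of_isPrime hlt1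
  have h2 := Ideal.height_strict_mono_of_isPrime_of_isPrime hlt2
  have h3 : (q1.map (Ideal.Quotient.mk P)).height < 1 := lt_of_lt_of_le h2 hkrull
  rw [ENat.lt_one_iff_eq_zero] at h3
  rw [h3] at h1
  exact not_lt_of_ge zero_le h1

theorem finite_primes_ge_of_forall_mem (P : Ideal R) [P.IsPrime] (f : R) (hfP : f ∉ P)
    (hfQ : ∀ Q : Ideal R, Q.IsPrime → P < Q → f ∈ Q) :
    {q : PrimeSpectrum R | P ≤ q.asIdeal}.Finite := by
  have hfin : (P ⊔ Ideal.span {f}).minimalPrimes.Finite :=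
    Ideal.finite_minimalPrimes_of_isNoetherianRing R _
  have hsub : {q : PrimeSpectrum R | P ≤ q.asIdeal} ⊆
      PrimeSpectrum.asIdeal ⁻¹' (insert P (P ⊔ Ideal.span {f}).minimalPrimes) := by
    intro q hq
    rcases eq_or_lt_of_le (show P ≤ q.asIdeal from hq) with heq | hlt'
    · left; exact heq.symm
    · right; exact mem_minimalPrimes_of_forall_mem P f hfP hfQ q.asIdeal q.isPrime hlt'
  refine Set.Finite.subset (Set.Finite.preimage ?_ (hfin.insert P)) hsub
  intro a _ b _ hab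
  exact PrimeSpectrum.ext hab

theorem map_height_le_one_of_forall_mem (P : Ideal R) [P.IsPrime] (f : R) (hfP : f ∉ P)
    (hfQ : ∀ Q : Ideal R, Q.IsPrime → P < Q → f ∈ Q) (Q : Ideal R) (hQ : Q.IsPrime) (hPQ : P < Q) :
    (Q.map (Ideal.Quotient.mk P)).height ≤ 1 :=
  Ideal.map_height_le_one_of_mem_minimalPrimes
    (mem_minimalPrimes_of_forall_mem P f hfP hfQ Q hQ hPQ)

/-- Domain version: a nonzero `f` lying in all nonzero primes forces a finite spectrum. -/
theorem finite_primeSpectrum_of_domain {B : Type*} [CommRing B] [IsDomain B] [IsNoetherianRing B]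
    (f : B) (hf : f ≠ 0) (h : ∀ Q : Ideal B, Q.IsPrime → Q ≠ ⊥ → f ∈ Q) :
    Finite (PrimeSpectrum B) := by
  have h1 := finite_primes_ge_of_forall_mem (⊥ : Ideal B) f (by simpa using hf)
    (fun Q hQ hlt => h Q hQ (bot_lt_iff_ne_bot.1 hlt))
  have h2 : {q : PrimeSpectrum B | (⊥ : Ideal B) ≤ q.asIdeal} = Set.univ := by
    ext q; simp
  rw [h2] at h1
  exact Set.finite_univ_iff.1 h1

end Groth.Agent.Lib.helper20.PrimeFin
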