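import Mathlib
import Groth.Agent.Lib.helper20.RegSmoothPt

/-!
# Regularity of stalks along smooth morphisms of schemes (helper20)
-/

universe u

open CategoryTheory AlgebraicGeometry

namespace Groth.Agent.Lib.helper20.SmoothStalk

/-- At a point of the smooth locus of `f : X ⟶ Y` (with `Y` locally Noetherian), the local ring
of `X` is regular iff the local ring of `Y` at the image is. -/
theorem stalk_regular_iff {X Y : Scheme.{u}} (f : X ⟶ Y) [LocallyOfFinitePresentation f]
    [IsLocallyNoetherian Y] (x : X) (hx : x ∈ f.smoothLocus) :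
    IsRegularLocalRing (X.presheaf.stalk x) ↔ IsRegularLocalRing (Y.presheaf.stalk (f.base x)) := by
  obtain ⟨U, hU, V, hV, hVU, hxV, H⟩ := exists_smooth_of_formallySmooth_stalk f x hx
  algebraize [(f.appLE U V hVU).hom]
  haveI : IsNoetherianRing Γ(Y, U) := IsLocallyNoetherian.component_noetherian ⟨U, hU⟩
  let p := (hU.primeIdealOf ⟨f x, hVU hxV⟩).asIdeal
  let q := (hV.primeIdealOf ⟨x, hxV⟩).asIdeal
  have hpq : p = q.comap (algebraMap Γ(Y, U) Γ(X, V)) :=
    congr($(IsAffineOpen.comap_primeIdealOf_appLE U hU V hV hVU hxV).1).symm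
  letI := Y.presheaf.algebra_section_stalk ⟨f x, hVU hxV⟩
  haveI := hU.isLocalization_stalk ⟨f x, hVU hxV⟩
  letI := X.presheaf.algebra_section_stalk ⟨x, hxV⟩
  haveI := hV.isLocalization_stalk ⟨x, hxV⟩
  let eY : Y.presheaf.stalk (f x) ≃+* Localization.AtPrime p :=
    (IsLocalization.algEquiv p.primeCompl (Y.presheaf.stalk (f x))
      (Localization.AtPrime p)).toRingEquiv
  let eX : X.presheaf.stalk x ≃+* Localization.AtPrime q :=
    (IsLocalization.algEquiv q.primeCompl (X.presheaf.stalk x)
      (Localization.AtPrime q)).toRingEquiv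
  constructor
  · intro h
    haveI := h
    have h1 : IsRegularLocalRing (Localization.AtPrime q) := IsRegularLocalRing.of_ringEquiv eX
    have h2 := Groth.Agent.Lib.helper20.RegSmoothPt.regular_descent_at_prime Γ(Y, U) Γ(X, V) q h1
    haveI : IsRegularLocalRing (Localization.AtPrime p) :=
      Groth.Agent.Lib.helper20.SmoothReg.transport hpq.symm h2
    exact IsRegularLocalRing.of_ringEquiv eY.symm
  · intro h
    haveI : IsRegularLocalRing (Y.presheaf.stalk (f x)) := h
    have h1 : IsRegularLocalRing (Localization.AtPrime p) := IsRegularLocalRing.of_ringEquiv eY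
    have h2 : IsRegularLocalRing (Localization.AtPrime (q.comap (algebraMap Γ(Y, U) Γ(X, V)))) :=
      Groth.Agent.Lib.helper20.SmoothReg.transport hpq h1
    haveI := Groth.Agent.Lib.helper20.RegSmoothPt.regular_at_prime Γ(Y, U) Γ(X, V) q h2
    exact IsRegularLocalRing.of_ringEquiv eX.symm

end Groth.Agent.Lib.helper20.SmoothStalk
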