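import Mathlib
import Groth.Prelude.Def_HTop2
import Groth.Agent.S0415

/-! Bridge between residue-field maps of `Spec.map φ` and `Ideal.ResidueField.map` (helper20). -/

set_option autoImplicit false

open CategoryTheory AlgebraicGeometry

namespace Groth.Agent.Lib.helper20.SpecBridge

universe u
variable {R S : Type u} [CommRing R] [CommRing S] (φ : R →+* S)

theorem ringHom_isPurelyInseparable_of_surjective {F E : Type*} [CommRing F] [CommRing E]
    (f : F →+* E) (hf : Function.Surjective f) : f.IsPurelyInseparable := by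
  letI : Algebra F E := f.toAlgebra
  exact { isIntegral := ⟨fun x => by obtain ⟨a, rfl⟩ := hf x; exact isIntegral_algebraMap⟩
          inseparable' := fun x _ => hf x }

theorem bridge (y : PrimeSpectrum S) :
    (Scheme.Spec.residueFieldIso (CommRingCat.of R) (PrimeSpectrum.comap φ y)).inv ≫
      (Spec.map (CommRingCat.ofHom φ)).residueFieldMap y ≫
        (Scheme.Spec.residueFieldIso (CommRingCat.of S) y).hom =
    CommRingCat.ofHom (Ideal.ResidueField.map (PrimeSpectrum.comap φ y).asIdeal y.asIdeal φ rfl) := by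
  have h1 := Scheme.Spec.algebraMap_residueFieldIso_inv (CommRingCat.of R) (PrimeSpectrum.comap φ y)
  have h2 : (Spec (CommRingCat.of R)).Γevaluation (PrimeSpectrum.comap φ y) ≫
      (Spec.map (CommRingCat.ofHom φ)).residueFieldMap y =
      (Spec.map (CommRingCat.ofHom φ)).appTop ≫ (Spec (CommRingCat.of S)).Γevaluation y :=
    Scheme.Γevaluation_naturality (Spec.map (CommRingCat.ofHom φ)) y
  have h3 := Scheme.ΓSpecIso_inv_naturality (CommRingCat.ofHom φ)
  have h4 : CommRingCat.ofHom (algebraMap S y.asIdeal.ResidueField) ≫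
      (Scheme.Spec.residueFieldIso (CommRingCat.of S) y).inv =
      (Scheme.ΓSpecIso (CommRingCat.of S)).inv ≫ (Spec (CommRingCat.of S)).Γevaluation y :=
    Scheme.Spec.algebraMap_residueFieldIso_inv (CommRingCat.of S) y
  have h1' : CommRingCat.ofHom (algebraMap R (PrimeSpectrum.comap φ y).asIdeal.ResidueField) ≫
      (Scheme.Spec.residueFieldIso (CommRingCat.of R) (PrimeSpectrum.comap φ y)).inv =
      (Scheme.ΓSpecIso (CommRingCat.of R)).inv ≫
        (Spec (CommRingCat.of R)).Γevaluation (PrimeSpectrum.comap φ y) := h1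
  have key : CommRingCat.ofHom (algebraMap R (PrimeSpectrum.comap φ y).asIdeal.ResidueField) ≫
      ((Scheme.Spec.residueFieldIso (CommRingCat.of R) (PrimeSpectrum.comap φ y)).inv ≫
      (Spec.map (CommRingCat.ofHom φ)).residueFieldMap y ≫
        (Scheme.Spec.residueFieldIso (CommRingCat.of S) y).hom) =
      CommRingCat.ofHom (algebraMap R (PrimeSpectrum.comap φ y).asIdeal.ResidueField) ≫
      CommRingCat.ofHom
        (Ideal.ResidueField.map (PrimeSpectrum.comap φ y).asIdeal y.asIdeal φ rfl) := by
    rw [← Category.assoc, h1', Category.assoc,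
      ← Category.assoc _ _ (Scheme.Spec.residueFieldIso (CommRingCat.of S) y).hom,
      h2, Category.assoc, ← Category.assoc, ← h3, Category.assoc,
      ← Category.assoc _ _ (Scheme.Spec.residueFieldIso (CommRingCat.of S) y).hom,
      ← h4, Category.assoc, Iso.inv_hom_id, Category.comp_id]
    apply CommRingCat.hom_ext
    ext r
    exact (Ideal.ResidueField.map_algebraMap _ _ φ _ r).symm
  apply CommRingCat.hom_ext
  apply Ideal.ResidueField.ringHom_ext
  exact congrArg CommRingCat.Hom.hom key

theorem isIso_residueFieldMap_iff (y : PrimeSpectrum S) :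
    IsIso ((Spec.map (CommRingCat.ofHom φ)).residueFieldMap y) ↔
      Function.Bijective
        (Ideal.ResidueField.map (PrimeSpectrum.comap φ y).asIdeal y.asIdeal φ rfl) := by
  have hb := bridge φ y
  have h1 : IsIso ((Spec.map (CommRingCat.ofHom φ)).residueFieldMap y) ↔
      IsIso (CommRingCat.ofHom
        (Ideal.ResidueField.map (PrimeSpectrum.comap φ y).asIdeal y.asIdeal φ rfl)) := by
    rw [← hb, isIso_comp_left_iff, isIso_comp_right_iff]
    exact Iff.rfl
  rw [h1, ConcreteCategory.isIso_iff_bijective]
  rfl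

theorem residueFieldsIso_iff :
    HTop.ResidueFieldsIso (Spec.map (CommRingCat.ofHom φ)) ↔
      ∀ y : PrimeSpectrum S, Function.Bijective
        (Ideal.ResidueField.map (PrimeSpectrum.comap φ y).asIdeal y.asIdeal φ rfl) := by
  constructor
  · intro h y
    exact (isIso_residueFieldMap_iff φ y).mp (h y)
  · intro h y
    exact (isIso_residueFieldMap_iff φ y).mpr (h y)

/-- `Spec φ` is a universal homeomorphism inducing isomorphisms on residue fields iff `φ` is
integral, bijective on spectra and bijective on residue fields -/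
theorem univHomeo_and_residueFieldsIso_iff :
    (FlatMor.IsUnivHomeo (Spec.map (CommRingCat.ofHom φ)) ∧
      HTop.ResidueFieldsIso (Spec.map (CommRingCat.ofHom φ))) ↔
    (φ.IsIntegral ∧ Function.Bijective (PrimeSpectrum.comap φ) ∧
      ∀ y : PrimeSpectrum S, Function.Bijective
        (Ideal.ResidueField.map (PrimeSpectrum.comap φ y).asIdeal y.asIdeal φ rfl)) := by
  rw [residueFieldsIso_iff, Groth.Agent.S0415.result]
  constructor
  · rintro ⟨⟨hint, hinj, hsurj⟩, hres⟩
    refine ⟨IsIntegralHom.SpecMap_iff.mp hint, ⟨?_, ?_⟩, hres⟩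
    · exact (Spec.map (CommRingCat.ofHom φ)).injective
    · exact (Spec.map (CommRingCat.ofHom φ)).surjective
  · rintro ⟨hint, hbij, hres⟩
    refine ⟨⟨IsIntegralHom.SpecMap_iff.mpr hint, ?_, ⟨hbij.2⟩⟩, hres⟩
    apply ((tfae_universallyInjective (Spec.map (CommRingCat.ofHom φ))).out 0 2).mpr
    refine ⟨hbij.1, fun y => ?_⟩
    have hiso : IsIso ((Spec.map (CommRingCat.ofHom φ)).residueFieldMap y) :=
      (isIso_residueFieldMap_iff φ y).mpr (hres y)
    have hbij' : Function.Bijective
        ((Spec.map (CommRingCat.ofHom φ)).residueFieldMap y).hom :=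
      (ConcreteCategory.isIso_iff_bijective _).mp hiso
    exact ringHom_isPurelyInseparable_of_surjective _ hbij'.2

end Groth.Agent.Lib.helper20.SpecBridge
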